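import Cfsg.Agent.Octagon.Pkg
import Mathlib

/-!
# Coordinates on all sixteen root groups of a group of type `²F₄`

`Sys σ G` : a group with root elements `o a t` (the root group `X_{2a+1}`, `a : ZMod 8`) and `e a p u` (the root group
`X_{2a}`), all commutator relations for pairs of root groups at distance `≤ 7`, the rotation `rot` (`X_k → X_{k+2}`), the
reflections `n1` (`X_k → X_{10-k}`), `n2` (`X_k → X_{8-k}`) and the torus `h c d`, with the characters
`chE a` on `X_{2a}` and `chO a` on `X_{2a+1}`.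
-/

set_option autoImplicit false

namespace Cfsg.Agent.KFacts.TwF4

open Cfsg.Agent.Octagon.Pkg

/-- Coordinates on a group of type `²F₄`. -/
structure Sys {F : Type*} [Field F] (σ : F →+* F) (G : Type*) [Group G] where
  /-- root elements of `X_{2a+1}` -/
  o : ZMod 8 → F → G
  /-- root elements of `X_{2a}` -/
  e : ZMod 8 → F → F → G
  /-- the rotation -/
  rot : G
  /-- the reflection `k ↦ 10 - k` -/
  n1 : G
  /-- the reflection `k ↦ 8 - k` -/
  n2 : G
  /-- the relations -/
  rel : OctRel σ (o 0) (o 1) (o 2) (o 3) (e 1) (e 2) (e 3) (e 4)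
  injO : ∀ a, Function.Injective (o a)
  injE : ∀ a p u q v, e a p u = e a q v → p = q ∧ u = v
  rot_o : ∀ a t, rot * o a t * rot⁻¹ = o (a + 1) t
  rot_e : ∀ a p u, rot * e a p u * rot⁻¹ = e (a + 1) p u
  n1_o : ∀ a t, n1 * o a t * n1⁻¹ = o (4 - a) t
  n1_e : ∀ a p u, n1 * e a p u * n1⁻¹ = e (5 - a) p u
  n2_o : ∀ a t, n2 * o a t * n2⁻¹ = o (3 - a) t
  n2_e : ∀ a p u, n2 * e a p u * n2⁻¹ = e (4 - a) p u

namespace Sys

variable {F : Type*} [Field F] {σ : F →+* F} {G : Type*} [Group G] (S : Sys σ G)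

/-- conjugation by the rotation -/
def cj : G →* G := (MulAut.conj S.rot).toMonoidHom

theorem cj_o (a : ZMod 8) (t : F) : S.cj (S.o a t) = S.o (a + 1) t := S.rot_o a t
theorem cj_e (a : ZMod 8) (p u : F) : S.cj (S.e a p u) = S.e (a + 1) p u := S.rot_e a p u

theorem ind8 {P : ZMod 8 → Prop} (c : ZMod 8) (h0 : P c) (h : ∀ a, P a → P (a + 1)) (a : ZMod 8) : P a := by
  have key : ∀ n : ℕ, P (c + n) := by
    intro n
    induction n with
    | zero => simpa using h0
    | succ n ih =>
      have := h _ ih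
      rwa [add_assoc, ← Nat.cast_succ] at this
  have := key (a - c).val
  rwa [ZMod.natCast_zmod_val, add_sub_cancel] at this

/-- multiplication -/
theorem o_add (a : ZMod 8) : ∀ t s : F, S.o a t * S.o a s = S.o a (t + s) := by
  refine ind8 (P := fun a => ∀ t s : F, S.o a t * S.o a s = S.o a (t + s)) 0 ?_ ?_ a
  · intro t s
    exact S.rel.m1 t s
  · intro a ih t s
    have h := congrArg S.cj (ih t s)
    simp only [map_mul, cj_o, cj_e] at h
    simpa only [add_right_comm a _ 1] using h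

/-- multiplication -/
theorem e_mul (a : ZMod 8) : ∀ p u q v : F, S.e a p u * S.e a q v = S.e a (p + q) (u + v + p * σ q) := by
  refine ind8 (P := fun a => ∀ p u q v : F, S.e a p u * S.e a q v = S.e a (p + q) (u + v + p * σ q)) 1 ?_ ?_ a
  · intro p u q v
    exact S.rel.m2 p u q v
  · intro a ih p u q v
    have h := congrArg S.cj (ih p u q v)
    simp only [map_mul, cj_o, cj_e] at h
    simpa only [add_right_comm a _ 1] using h

/-- distance 1 -/
theorem o_e1 (a : ZMod 8) : ∀ t q v : F, S.o a t * S.e (a + 1) q v = S.e (a + 1) q v * S.o a t := by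
  refine ind8 (P := fun a => ∀ t q v : F, S.o a t * S.e (a + 1) q v = S.e (a + 1) q v * S.o a t) 0 ?_ ?_ a
  · intro t q v
    exact S.rel.r12 t q v
  · intro a ih t q v
    have h := congrArg S.cj (ih t q v)
    simp only [map_mul, cj_o, cj_e] at h
    simpa only [add_right_comm a _ 1] using h

/-- distance 1 -/
theorem e_o0 (a : ZMod 8) : ∀ p u s : F, S.e a p u * S.o a s = S.o a s * S.e a p u := by
  refine ind8 (P := fun a => ∀ p u s : F, S.e a p u * S.o a s = S.o a s * S.e a p u) 1 ?_ ?_ a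
  · intro p u s
    exact S.rel.r23 p u s
  · intro a ih p u s
    have h := congrArg S.cj (ih p u s)
    simp only [map_mul, cj_o, cj_e] at h
    simpa only [add_right_comm a _ 1] using h

/-- distance 2 -/
theorem o_o1 (a : ZMod 8) : ∀ t s : F, S.o a t * S.o (a + 1) s = S.o (a + 1) s * S.o a t := by
  refine ind8 (P := fun a => ∀ t s : F, S.o a t * S.o (a + 1) s = S.o (a + 1) s * S.o a t) 0 ?_ ?_ a
  · intro t s
    exact S.rel.r13 t s
  · intro a ih t s
    have h := congrArg S.cj (ih t s)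
    simp only [map_mul, cj_o, cj_e] at h
    simpa only [add_right_comm a _ 1] using h

/-- distance 2 -/
theorem e_e1 (a : ZMod 8) : ∀ p u q v : F, S.e a p u * S.e (a + 1) q v = S.e (a + 1) q v * S.e a p u * S.o a (p * q) := by
  refine ind8 (P := fun a => ∀ p u q v : F, S.e a p u * S.e (a + 1) q v = S.e (a + 1) q v * S.e a p u * S.o a (p * q)) 1 ?_ ?_ a
  · intro p u q v
    exact S.rel.r24 p u q v
  · intro a ih p u q v
    have h := congrArg S.cj (ih p u q v)
    simp only [map_mul, cj_o, cj_e] at h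
    simpa only [add_right_comm a _ 1] using h

/-- distance 3 -/
theorem o_e2 (a : ZMod 8) : ∀ t q v : F, S.o a t * S.e (a + 2) q v = S.e (a + 2) q v * S.o a t * S.e (a + 1) 0 (t * q) := by
  refine ind8 (P := fun a => ∀ t q v : F, S.o a t * S.e (a + 2) q v = S.e (a + 2) q v * S.o a t * S.e (a + 1) 0 (t * q)) 0 ?_ ?_ a
  · intro t q v
    exact S.rel.r14 t q v
  · intro a ih t q v
    have h := congrArg S.cj (ih t q v)
    simp only [map_mul, cj_o, cj_e] at h
    simpa only [add_right_comm a _ 1] using h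

/-- distance 3 -/
theorem e_o1 (a : ZMod 8) : ∀ p u s : F, S.e a p u * S.o (a + 1) s = S.o (a + 1) s * S.e a p u * S.e (a + 1) 0 (p * s) := by
  refine ind8 (P := fun a => ∀ p u s : F, S.e a p u * S.o (a + 1) s = S.o (a + 1) s * S.e a p u * S.e (a + 1) 0 (p * s)) 1 ?_ ?_ a
  · intro p u s
    exact S.rel.r25 p u s
  · intro a ih p u s
    have h := congrArg S.cj (ih p u s)
    simp only [map_mul, cj_o, cj_e] at h
    simpa only [add_right_comm a _ 1] using h

/-- distance 4 -/
theorem o_o2 (a : ZMod 8) : ∀ t s : F, S.o a t * S.o (a + 2) s = S.o (a + 2) s * S.o a t := by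
  refine ind8 (P := fun a => ∀ t s : F, S.o a t * S.o (a + 2) s = S.o (a + 2) s * S.o a t) 0 ?_ ?_ a
  · intro t s
    exact S.rel.r15 t s
  · intro a ih t s
    have h := congrArg S.cj (ih t s)
    simp only [map_mul, cj_o, cj_e] at h
    simpa only [add_right_comm a _ 1] using h

/-- distance 4 -/
theorem e_e2 (a : ZMod 8) : ∀ p u q v : F, S.e a p u * S.e (a + 2) q v = S.e (a + 2) q v * S.e a p u := by
  refine ind8 (P := fun a => ∀ p u q v : F, S.e a p u * S.e (a + 2) q v = S.e (a + 2) q v * S.e a p u) 1 ?_ ?_ a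
  · intro p u q v
    exact S.rel.r26 p u q v
  · intro a ih p u q v
    have h := congrArg S.cj (ih p u q v)
    simp only [map_mul, cj_o, cj_e] at h
    simpa only [add_right_comm a _ 1] using h

/-- distance 5 -/
theorem o_e3 (a : ZMod 8) : ∀ t q v : F, S.o a t * S.e (a + 3) q v = S.e (a + 3) q v * S.o a t * S.e (a + 1) 0 (σ t * q) * S.o (a + 1) (t * σ q) * S.e (a + 2) 0 (t * q * σ q + t * v) := by
  refine ind8 (P := fun a => ∀ t q v : F, S.o a t * S.e (a + 3) q v = S.e (a + 3) q v * S.o a t * S.e (a + 1) 0 (σ t * q) * S.o (a + 1) (t * σ q) * S.e (a + 2) 0 (t * q * σ q + t * v)) 0 ?_ ?_ a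
  · intro t q v
    exact S.rel.r16 t q v
  · intro a ih t q v
    have h := congrArg S.cj (ih t q v)
    simp only [map_mul, cj_o, cj_e] at h
    simpa only [add_right_comm a _ 1] using h

/-- distance 5 -/
theorem e_o2 (a : ZMod 8) : ∀ p u s : F, S.e a p u * S.o (a + 2) s = S.o (a + 2) s * S.e a p u * S.e (a + 1) 0 (p * σ p * s + u * s) * S.o (a + 1) (σ p * s) * S.e (a + 2) 0 (p * σ s) := by
  refine ind8 (P := fun a => ∀ p u s : F, S.e a p u * S.o (a + 2) s = S.o (a + 2) s * S.e a p u * S.e (a + 1) 0 (p * σ p * s + u * s) * S.o (a + 1) (σ p * s) * S.e (a + 2) 0 (p * σ s)) 1 ?_ ?_ a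
  · intro p u s
    exact S.rel.r27 p u s
  · intro a ih p u s
    have h := congrArg S.cj (ih p u s)
    simp only [map_mul, cj_o, cj_e] at h
    simpa only [add_right_comm a _ 1] using h

/-- distance 6 -/
theorem o_o3 (a : ZMod 8) : ∀ t s : F, S.o a t * S.o (a + 3) s = S.o (a + 3) s * S.o a t * S.o (a + 1) (σ t * s) * S.o (a + 2) (t * σ s) := by
  refine ind8 (P := fun a => ∀ t s : F, S.o a t * S.o (a + 3) s = S.o (a + 3) s * S.o a t * S.o (a + 1) (σ t * s) * S.o (a + 2) (t * σ s)) 0 ?_ ?_ a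
  · intro t s
    exact S.rel.r17 t s
  · intro a ih t s
    have h := congrArg S.cj (ih t s)
    simp only [map_mul, cj_o, cj_e] at h
    simpa only [add_right_comm a _ 1] using h

/-- distance 6 -/
theorem e_e3 (a : ZMod 8) : ∀ p u q v : F, S.e a p u * S.e (a + 3) q v = S.e (a + 3) q v * S.e a p u * S.o a (p * σ p * q + u * q) * S.e (a + 1) (σ p * q) (p * u * v + p * p * σ p * v + σ u * q * σ q + σ u * v) * S.o (a + 1) (u * v) * S.e (a + 2) (p * σ q) (p * σ p * q * q * σ q + p * σ p * σ v + u * q * v + u * q * q * σ q + u * σ v) * S.o (a + 2) (p * q * σ q + p * v) := by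
  refine ind8 (P := fun a => ∀ p u q v : F, S.e a p u * S.e (a + 3) q v = S.e (a + 3) q v * S.e a p u * S.o a (p * σ p * q + u * q) * S.e (a + 1) (σ p * q) (p * u * v + p * p * σ p * v + σ u * q * σ q + σ u * v) * S.o (a + 1) (u * v) * S.e (a + 2) (p * σ q) (p * σ p * q * q * σ q + p * σ p * σ v + u * q * v + u * q * q * σ q + u * σ v) * S.o (a + 2) (p * q * σ q + p * v)) 1 ?_ ?_ a
  · intro p u q v
    exact S.rel.r28 p u q v
  · intro a ih p u q v
    have h := congrArg S.cj (ih p u q v)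
    simp only [map_mul, cj_o, cj_e] at h
    simpa only [add_right_comm a _ 1] using h

/-- distance 7 -/
theorem o_e4 (a : ZMod 8) : ∀ t q v : F, S.o a t * S.e (a + 4) q v = S.e (a + 4) q v * S.o a t * S.e (a + 1) (t * q) (t * σ t * q * σ q + t * σ t * v) * S.o (a + 1) (t * σ t * q * v + t * σ t * q * q * σ q + t * σ t * σ v) * S.e (a + 2) (σ t * q * σ q + σ t * v) (t * t * σ t * q * v * v + t * t * σ t * q * q * σ q * v + t * t * σ t * v * σ v) * S.o (a + 2) (t * σ t * σ q * σ v + t * σ t * q * q * σ q * σ q + t * σ t * v * v) * S.e (a + 3) (t * v) (t * σ t * q * v * v + t * σ t * q * σ q * σ v + t * σ t * q * q * q * σ q * σ q) * S.o (a + 3) (t * q * v + t * q * q * σ q + t * σ v) := by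
  refine ind8 (P := fun a => ∀ t q v : F, S.o a t * S.e (a + 4) q v = S.e (a + 4) q v * S.o a t * S.e (a + 1) (t * q) (t * σ t * q * σ q + t * σ t * v) * S.o (a + 1) (t * σ t * q * v + t * σ t * q * q * σ q + t * σ t * σ v) * S.e (a + 2) (σ t * q * σ q + σ t * v) (t * t * σ t * q * v * v + t * t * σ t * q * q * σ q * v + t * t * σ t * v * σ v) * S.o (a + 2) (t * σ t * σ q * σ v + t * σ t * q * q * σ q * σ q + t * σ t * v * v) * S.e (a + 3) (t * v) (t * σ t * q * v * v + t * σ t * q * σ q * σ v + t * σ t * q * q * q * σ q * σ q) * S.o (a + 3) (t * q * v + t * q * q * σ q + t * σ v)) 0 ?_ ?_ a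
  · intro t q v
    exact S.rel.r18 t q v
  · intro a ih t q v
    have h := congrArg S.cj (ih t q v)
    simp only [map_mul, cj_o, cj_e] at h
    simpa only [add_right_comm a _ 1] using h

end Sys

end Cfsg.Agent.KFacts.TwF4
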