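import Cfsg.Agent.KFacts.TwF4.AutTau
import Cfsg.Agent.S0001

/-!
# The automorphisms of `²F₄(q)`, `q > 2`

* `aut_form`: every automorphism is a conjugation composed with a field automorphism of the coordinates;
* `inner_of_Z4`: an automorphism centralising `Z_4` is the conjugation by an element of `P_4`.
-/

set_option autoImplicit false
set_option linter.unusedSectionVars false

namespace Cfsg.Agent.KFacts.TwF4.AutNorm

open Cfsg.Agent.SplitTwo Cfsg.Agent.SplitTwo.ZS Cfsg.Agent.TitsThree.RankTwoZ Cfsg.Agent.TitsThree.RankTwoRGD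
open Cfsg.Agent.SplitTwo.RootSysZ
open Cfsg.Agent.KFacts.TwF4 Cfsg.Agent.KFacts.TwF4.Arc Cfsg.Agent.KFacts.TwF4.SylU Cfsg.Agent.KFacts.TwF4.AutTau
open Cfsg.Agent.KFacts.TwF4.Inv

universe u

section compl

open Pointwise in
/-- complements of a normal 2-subgroup are conjugate -/
theorem exists_conj_compl {G : Type*} [Group G] [Finite G] {Q H H' : Subgroup G} (hQ : IsPGroup 2 Q)
    (hH : Odd (Nat.card H)) (hHQ : ∀ h ∈ H, ∀ q ∈ Q, h * q * h⁻¹ ∈ Q) (hcard : Nat.card H' = Nat.card H)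
    (hH' : ∀ k ∈ H', ∃ h ∈ H, ∃ q ∈ Q, k = h * q) :
    ∃ q ∈ Q, ∀ k ∈ H', q * k * q⁻¹ ∈ H := by
  classical
  set Γ : Subgroup G := Q ⊔ H with hΓ
  have hQΓ : Q ≤ Γ := le_sup_left
  have hHΓ : H ≤ Γ := le_sup_right
  have hle : Γ ≤ Subgroup.normalizer (Q : Set G) := by
    rw [hΓ, sup_le_iff]
    refine ⟨Subgroup.le_normalizer, ?_⟩
    intro h hh
    rw [Subgroup.mem_normalizer_iff]
    intro q
    constructor
    · exact hHQ h hh q
    · intro hq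
      have := hHQ h⁻¹ (inv_mem hh) _ hq
      have e : h⁻¹ * (h * q * h⁻¹) * h⁻¹⁻¹ = q := by group
      rwa [e] at this
  have hKΓ : H' ≤ Γ := by
    intro k hk
    obtain ⟨h, hh, q, hq, rfl⟩ := hH' k hk
    exact mul_mem (hHΓ hh) (hQΓ hq)
  let N : Subgroup Γ := Q.subgroupOf Γ
  have hN : N.Normal := Subgroup.normal_subgroupOf_iff_le_normalizer hQΓ |>.2 hle
  have cN : Nat.card N = Nat.card Q := Nat.card_congr (Subgroup.subgroupOfEquivOfLe hQΓ).toEquiv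
  have cH : Nat.card (H.subgroupOf Γ) = Nat.card H := Nat.card_congr (Subgroup.subgroupOfEquivOfLe hHΓ).toEquiv
  have cK : Nat.card (H'.subgroupOf Γ) = Nat.card H' :=
    Nat.card_congr (Subgroup.subgroupOfEquivOfLe hKΓ).toEquiv
  obtain ⟨m, hm⟩ := (IsPGroup.iff_card).1 hQ
  have hcop : (Nat.card N).Coprime (Nat.card H) := by
    rw [cN, hm]; exact (Nat.coprime_two_left.2 hH).pow_left m
  have dH : Nat.Coprime (Nat.card N) (Nat.card (H.subgroupOf Γ)) := by rw [cH]; exact hcop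
  have dK : Nat.Coprime (Nat.card N) (Nat.card (H'.subgroupOf Γ)) := by rw [cK, hcard]; exact hcop
  have compH : Subgroup.IsComplement' N (H.subgroupOf Γ) := by
    apply Subgroup.isComplement'_of_disjoint_and_mul_eq_univ (Subgroup.disjoint_of_coprime_natCard dH)
    rw [← Subgroup.normal_mul, ← Subgroup.subgroupOf_sup hQΓ hHΓ, Subgroup.subgroupOf_self]
    rfl
  have compK : Subgroup.IsComplement' N (H'.subgroupOf Γ) := by
    apply Subgroup.isComplement'_of_coprime _ dK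
    rw [← compH.card_mul_card, cK, cH, hcard]
  have hi : N.index = Nat.card H := by
    rw [compH.symm.index_eq_card, cH]
  have := hQ.isNilpotent
  obtain ⟨g, hg⟩ := Cfsg.Agent.S0001.result N (by rw [hi]; exact hcop)
    (Or.inl (by
      have : Group.IsSolvable Q := inferInstance
      exact Group.isSolvable_of_isSolvable_injective (f := (Subgroup.subgroupOfEquivOfLe hQΓ).toMonoidHom)
        (Subgroup.subgroupOfEquivOfLe hQΓ).injective)) _ _ compK compH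
  obtain ⟨⟨⟨h0, hh0⟩, ⟨q0, hq0⟩⟩, hgh⟩ := compH.symm.2 g
  have hq0' : (q0 : G) ∈ Q := hq0
  have hh0' : (h0 : G) ∈ H := hh0
  refine ⟨q0, hq0', fun k hk => ?_⟩
  have h1 : (⟨k, hKΓ hk⟩ : Γ) ∈ H'.subgroupOf Γ := hk
  have h2 := Subgroup.smul_mem_pointwise_smul _ (MulAut.conj g) _ h1
  rw [hg] at h2
  have h3 : (g : G) * k * (g : G)⁻¹ ∈ H := h2
  have h4 : (g : G) = h0 * q0 := by rw [← hgh]; rfl
  rw [h4] at h3
  have h5 := mul_mem (mul_mem (inv_mem hh0') h3) hh0'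
  have e : (h0 : G)⁻¹ * (h0 * q0 * k * (h0 * q0 : G)⁻¹) * h0 = q0 * k * (q0 : G)⁻¹ := by group
  rwa [e] at h5

end compl

variable {F : Type*} [Field F] {σ : F →+* F} {G : Type u} [Group G] (S : Full σ G)

/-! ### the upper central series of `U` -/

theorem mem_Zc_iff {x : G} : x ∈ S.Zc 2 ↔ x ∈ J S.XZ 1 8 ∧ ∀ u ∈ J S.XZ 1 8, x * u = u * x := by
  constructor
  · intro hx
    refine ⟨mem_J (S.Zc_le 2 hx) (by norm_num) (by norm_num), fun u hu => ?_⟩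
    exact (S.comm_PL (J_mono (by norm_num) le_rfl hu) hx).symm
  · rintro ⟨-, h⟩
    rw [← S.centralizer_Q, Subgroup.mem_centralizer_iff]
    intro y hy
    exact (h y (J_mono le_rfl (by norm_num) hy)).symm

theorem W46_of_comm {x : G} (hx : x ∈ J S.XZ 1 8) (h : ∀ u ∈ J S.XZ 1 8, x * u * x⁻¹ * u⁻¹ ∈ S.Zc 2) : x ∈ S.W46 := by
  have m1 : ∀ t, S.o 0 t ∈ J S.XZ 1 8 := fun t => mem_J (S.mX1 t) (by norm_num) (by norm_num)
  have m2 : ∀ p u, S.e 1 p u ∈ J S.XZ 1 8 := fun p u => mem_J (S.mX2 p u) (by norm_num) (by norm_num)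
  have m3 : ∀ t, S.o 1 t ∈ J S.XZ 1 8 := fun t => mem_J (S.mX3 t) (by norm_num) (by norm_num)
  have m4 : ∀ p u, S.e 2 p u ∈ J S.XZ 1 8 := fun p u => mem_J (S.mX4 p u) (by norm_num) (by norm_num)
  have m5 : ∀ t, S.o 2 t ∈ J S.XZ 1 8 := fun t => mem_J (S.mX5 t) (by norm_num) (by norm_num)
  have m6 : ∀ p u, S.e 3 p u ∈ J S.XZ 1 8 := fun p u => mem_J (S.mX6 p u) (by norm_num) (by norm_num)
  have m7 : ∀ t, S.o 3 t ∈ J S.XZ 1 8 := fun t => mem_J (S.mX7 t) (by norm_num) (by norm_num)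
  have m8 : ∀ p u, S.e 4 p u ∈ J S.XZ 1 8 := fun p u => mem_J (S.mX8 p u) (by norm_num) (by norm_num)
  -- `x` commutes with commutators
  have key : ∀ a ∈ J S.XZ 1 8, ∀ b ∈ J S.XZ 1 8, ∀ c, a * b = b * a * c → x * c = c * x := by
    intro a ha b hb c hc
    have h1 := h a ha
    have h2 := h b hb
    set z := x * a * x⁻¹ * a⁻¹ with hz
    set z' := x * b * x⁻¹ * b⁻¹ with hz'
    have ea : x * a * x⁻¹ = z * a := by rw [hz]; group
    have eb : x * b * x⁻¹ = z' * b := by rw [hz']; group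
    have c1 : z' * a = a * z' := ((mem_Zc_iff S).1 h2).2 a ha
    have c2 : z * b = b * z := ((mem_Zc_iff S).1 h1).2 b hb
    have c3 : z * z' = z' * z := ((mem_Zc_iff S).1 h1).2 z' ((mem_Zc_iff S).1 h2).1
    have e1 : (x * a * x⁻¹) * (x * b * x⁻¹) = (x * b * x⁻¹) * (x * a * x⁻¹) * (x * c * x⁻¹) := by
      calc (x * a * x⁻¹) * (x * b * x⁻¹) = x * (a * b) * x⁻¹ := by group
        _ = _ := by rw [hc]; group
    rw [ea, eb] at e1
    have e2 : z * a * (z' * b) = z' * b * (z * a) * c := by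
      calc z * a * (z' * b) = z * (a * z') * b := by group
        _ = (z * z') * (a * b) := by rw [← c1]; group
        _ = z' * (z * b) * a * c := by rw [c3, hc]; group
        _ = _ := by rw [c2]; group
    rw [e2] at e1
    have e3 := mul_left_cancel e1
    rw [eq_mul_inv_iff_mul_eq] at e3
    exact e3.symm
  have k1 : ∀ u, x * S.e 1 0 u = S.e 1 0 u * x := fun u => by
    have r : S.o 0 1 * S.e 2 u 0 = S.e 2 u 0 * S.o 0 1 * S.e 1 0 (1 * u) := S.o_e2 0 1 u 0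
    rw [one_mul] at r
    exact key _ (m1 _) _ (m4 _ _) _ r
  have k2 : ∀ t, x * S.o 1 t = S.o 1 t * x := fun t => by
    have r : S.e 1 1 0 * S.e 2 t 0 = S.e 2 t 0 * S.e 1 1 0 * S.o 1 (1 * t) := S.e_e1 1 1 0 t 0
    rw [one_mul] at r
    exact key _ (m2 _ _) _ (m4 _ _) _ r
  have k3 : ∀ u, x * S.e 2 0 u = S.e 2 0 u * x := fun u => by
    have r : S.o 1 1 * S.e 3 u 0 = S.e 3 u 0 * S.o 1 1 * S.e 2 0 (1 * u) := S.o_e2 1 1 u 0
    rw [one_mul] at r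
    exact key _ (m3 _) _ (m6 _ _) _ r
  have k4 : ∀ t, x * S.o 2 t = S.o 2 t * x := fun t => by
    have r : S.e 2 1 0 * S.e 3 t 0 = S.e 3 t 0 * S.e 2 1 0 * S.o 2 (1 * t) := S.e_e1 2 1 0 t 0
    rw [one_mul] at r
    exact key _ (m4 _ _) _ (m6 _ _) _ r
  have k5 : ∀ u, x * S.e 3 0 u = S.e 3 0 u * x := fun u => by
    have r : S.o 2 1 * S.e 4 u 0 = S.e 4 u 0 * S.o 2 1 * S.e 3 0 (1 * u) := S.o_e2 2 1 u 0
    rw [one_mul] at r
    exact key _ (m5 _) _ (m8 _ _) _ r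
  have k6 : x * S.o 3 1 = S.o 3 1 * x := by
    have r : S.e 3 1 0 * S.e 4 1 0 = S.e 4 1 0 * S.e 3 1 0 * S.o 3 (1 * 1) := S.e_e1 3 1 0 1 0
    rw [one_mul] at r
    exact key _ (m6 _ _) _ (m8 _ _) _ r
  have hQ2 : ∀ y ∈ S.Q2, x * y = y * x := by
    have : S.Q2 ≤ Subgroup.centralizer {x} := by
      refine S.Q2_le ?_ ?_ ?_ ?_ ?_
      · intro u; rw [Subgroup.mem_centralizer_singleton_iff]; exact (k1 u).symm
      · intro u; rw [Subgroup.mem_centralizer_singleton_iff]; exact (k2 u).symm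
      · intro u; rw [Subgroup.mem_centralizer_singleton_iff]; exact (k3 u).symm
      · intro u; rw [Subgroup.mem_centralizer_singleton_iff]; exact (k4 u).symm
      · intro u; rw [Subgroup.mem_centralizer_singleton_iff]; exact (k5 u).symm
    exact fun y hy => (Subgroup.mem_centralizer_singleton_iff.1 (this hy)).symm
  obtain ⟨a, v, r, hr, rfl⟩ := S.form_Q1 hx hQ2
  have Z8 := S.zsys8
  obtain ⟨x3, hx3, r, hr1, rfl⟩ := Z8.split_ll (a := 3) (b := 5) (by norm_num) (by norm_num) hr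
  obtain ⟨x4, hx4, x5, hx5, rfl⟩ := Z8.split_ll (a := 3 + 1) (b := 5) (by norm_num) (by norm_num) hr1
  have hx5' : x5 ∈ S.XZ 5 := mem_of_J_self hx5 (by norm_num)
  obtain ⟨t, rfl⟩ := S.X3 hx3
  obtain ⟨p, w, rfl⟩ := S.X4 hx4
  obtain ⟨s, rfl⟩ := S.X5 hx5'
  -- commute with `X_7`
  have hap : a = 0 ∧ p = 0 := by
    have r1 : S.e 1 0 a * S.o 3 1 = S.o 3 1 * S.e 1 0 a * S.e 2 0 (0 * σ 0 * 1 + a * 1) * S.o 2 (σ 0 * 1) *
        S.e 3 0 (0 * σ 1) := S.e_o2 1 0 a 1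
    rw [map_zero, zero_mul, zero_mul, zero_mul, zero_add, S.o_zero, S.e_zero, mul_one, mul_one, mul_one] at r1
    have r2 : S.o 1 t * S.o 3 1 = S.o 3 1 * S.o 1 t := S.o_o2 1 t 1
    have r3 : S.e 2 p w * S.o 3 1 = S.o 3 1 * S.e 2 p w * S.e 3 0 (p * 1) := S.e_o1 2 p w 1
    have r4 : S.o 2 s * S.o 3 1 = S.o 3 1 * S.o 2 s := S.o_o1 2 s 1
    have r5 : S.e 3 0 v * S.o 3 1 = S.o 3 1 * S.e 3 0 v := S.e_o0 3 0 v 1
    have c1 : S.e 3 0 (p * 1) * S.o 2 s = S.o 2 s * S.e 3 0 (p * 1) :=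
      (S.comm_Z6 (k := 5) (by norm_num) (by norm_num) (S.mX5 s) (p * 1)).symm
    have c2 : S.e 2 0 a * (S.o 1 t * S.e 2 p w * S.o 2 s) = (S.o 1 t * S.e 2 p w * S.o 2 s) * S.e 2 0 a :=
      (S.comm_PL (mul_mem (mul_mem (mem_J (S.mX3 t) (by norm_num) (by norm_num))
        (mem_J (S.mX4 p w) (by norm_num) (by norm_num))) (mem_J (S.mX5 s) (by norm_num) (by norm_num))) ⟨a, rfl⟩).symm
    have e1 : S.e 1 0 a * (S.o 1 t * (S.e 2 p w * S.o 2 s)) * S.e 3 0 v * S.o 3 1 =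
        S.o 3 1 * (S.e 1 0 a * (S.o 1 t * (S.e 2 p w * S.o 2 s))) * (S.e 2 0 a * S.e 3 0 (p * 1)) * S.e 3 0 v := by
      calc S.e 1 0 a * (S.o 1 t * (S.e 2 p w * S.o 2 s)) * S.e 3 0 v * S.o 3 1 =
          S.e 1 0 a * (S.o 1 t * (S.e 2 p w * S.o 2 s)) * (S.e 3 0 v * S.o 3 1) := by group
        _ = S.e 1 0 a * S.o 1 t * S.e 2 p w * (S.o 2 s * S.o 3 1) * S.e 3 0 v := by rw [r5]; group
        _ = S.e 1 0 a * S.o 1 t * (S.e 2 p w * S.o 3 1) * S.o 2 s * S.e 3 0 v := by rw [r4]; group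
        _ = S.e 1 0 a * (S.o 1 t * S.o 3 1) * S.e 2 p w * (S.e 3 0 (p * 1) * S.o 2 s) * S.e 3 0 v := by rw [r3]; group
        _ = (S.e 1 0 a * S.o 3 1) * S.o 1 t * S.e 2 p w * S.o 2 s * S.e 3 0 (p * 1) * S.e 3 0 v := by rw [r2, c1]; group
        _ = S.o 3 1 * S.e 1 0 a * (S.e 2 0 a * (S.o 1 t * S.e 2 p w * S.o 2 s)) * S.e 3 0 (p * 1) * S.e 3 0 v := by
          rw [r1]; group
        _ = _ := by rw [c2]; group
    rw [e1] at k6
    have e2 : S.o 3 1 * (S.e 1 0 a * (S.o 1 t * (S.e 2 p w * S.o 2 s)) * S.e 3 0 v) =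
        S.o 3 1 * (S.e 1 0 a * (S.o 1 t * (S.e 2 p w * S.o 2 s))) * S.e 3 0 v := by group
    rw [e2] at k6
    have e3 := mul_right_cancel k6
    have e4 : S.e 2 0 a * S.e 3 0 (p * 1) = 1 := mul_eq_left.1 e3
    have e5 : S.e 2 0 a = 1 := by
      refine S.X_inf_near (i := 4) (j := 6) (by norm_num) (by norm_num) (S.mX4 0 a) ?_
      rw [eq_inv_of_mul_eq_one_left e4]
      exact inv_mem (S.mX6 0 _)
    rw [e5, one_mul] at e4
    have := (S.e_eq_one e4).2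
    rw [mul_one] at this
    exact ⟨(S.e_eq_one e5).2, this⟩
  obtain ⟨rfl, rfl⟩ := hap
  -- conjugate by `X_8`
  have hts : t = 0 ∧ s = 0 := by
    have h8 := h _ (m8 1 0)
    obtain ⟨z, hz⟩ := h8
    have r1 : S.o 1 t * S.e 4 1 0 = S.e 4 1 0 * S.o 1 t * (S.e 2 0 (σ t) * S.o 2 t * S.e 3 0 t) := by
      have := S.o_e3 1 t 1 0
      rw [show (1 : ZMod 8) + 3 = 4 from rfl, show (1 : ZMod 8) + 1 = 2 from rfl, show (1 : ZMod 8) + 2 = 3 from rfl] at this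
      simp only [map_one, map_zero, mul_zero, mul_one, add_zero] at this
      rw [this]; group
    have r2 : S.e 2 0 w * S.e 4 1 0 = S.e 4 1 0 * S.e 2 0 w := S.e_e2 2 0 w 1 0
    have r3 : S.o 2 s * S.e 4 1 0 = S.e 4 1 0 * S.o 2 s * S.e 3 0 (s * 1) := S.o_e2 2 s 1 0
    rw [mul_one] at r3
    have r4 : S.e 3 0 v * S.e 4 1 0 = S.e 4 1 0 * S.e 3 0 v :=
      (S.comm_Z6 (k := 8) (by norm_num) (by norm_num) (S.mX8 1 0) v).symm
    -- everything in `Q2` commutes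
    have q1 := S.q2_3 (σ t)
    have q2 := S.q2_4 t
    have q3 := S.q2_5 t
    have q4 := S.q2_5 s
    have cc : ∀ {y y' : G}, y ∈ S.Q2 → y' ∈ S.Q2 → y * y' = y' * y := fun hy hy' =>
      S.Q1_comm (Subgroup.mem_sup_right hy) hy'
    set A := S.e 2 0 (σ t) * S.o 2 t * S.e 3 0 t with hA
    have hAQ : A ∈ S.Q2 := mul_mem (mul_mem q1 q2) q3
    have e1 : S.e 1 0 0 * (S.o 1 t * (S.e 2 0 w * S.o 2 s)) * S.e 3 0 v * S.e 4 1 0 =
        S.e 4 1 0 * (S.e 1 0 0 * (S.o 1 t * (S.e 2 0 w * S.o 2 s)) * S.e 3 0 v) * (A * S.e 3 0 s) := by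
      rw [S.e_zero, one_mul]
      have c1 : A * (S.e 2 0 w * S.o 2 s * S.e 3 0 v) = (S.e 2 0 w * S.o 2 s * S.e 3 0 v) * A :=
        cc hAQ (mul_mem (mul_mem (S.q2_3 w) (S.q2_4 s)) (S.q2_5 v))
      have c2 : S.e 3 0 s * (S.e 3 0 v * A) = (S.e 3 0 v * A) * S.e 3 0 s := cc q4 (mul_mem (S.q2_5 v) hAQ)
      calc S.o 1 t * (S.e 2 0 w * S.o 2 s) * S.e 3 0 v * S.e 4 1 0 =
          S.o 1 t * (S.e 2 0 w * S.o 2 s) * (S.e 3 0 v * S.e 4 1 0) := by group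
        _ = S.o 1 t * S.e 2 0 w * (S.o 2 s * S.e 4 1 0) * S.e 3 0 v := by rw [r4]; group
        _ = S.o 1 t * (S.e 2 0 w * S.e 4 1 0) * S.o 2 s * S.e 3 0 s * S.e 3 0 v := by rw [r3]; group
        _ = (S.o 1 t * S.e 4 1 0) * S.e 2 0 w * S.o 2 s * S.e 3 0 s * S.e 3 0 v := by rw [r2]; group
        _ = S.e 4 1 0 * S.o 1 t * (A * (S.e 2 0 w * S.o 2 s * S.e 3 0 v)) * ((S.e 3 0 v)⁻¹ * S.e 3 0 s * S.e 3 0 v) := by
          rw [r1]; group
        _ = S.e 4 1 0 * S.o 1 t * (S.e 2 0 w * S.o 2 s * S.e 3 0 v) * A * ((S.e 3 0 v)⁻¹ * (S.e 3 0 s * S.e 3 0 v)) := by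
          rw [c1]; group
        _ = S.e 4 1 0 * S.o 1 t * (S.e 2 0 w * S.o 2 s * S.e 3 0 v) * A * S.e 3 0 s := by
          rw [cc q4 (S.q2_5 v)]; group
        _ = _ := by group
    set X := S.e 1 0 0 * (S.o 1 t * (S.e 2 0 w * S.o 2 s)) * S.e 3 0 v with hX
    have hXQ : X ∈ S.Q2 := mul_mem (mul_mem (S.q2_1 0) (mul_mem (S.q2_2 t) (mul_mem (S.q2_3 w) (S.q2_4 s)))) (S.q2_5 v)
    -- `X u X⁻¹ u⁻¹ = z`
    have hzc : S.e 2 0 z ∈ S.Zc 2 := ⟨z, rfl⟩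
    have e2 : A * S.e 3 0 s = S.e 2 0 z := by
      have e3 : X * S.e 4 1 0 = S.e 2 0 z * S.e 4 1 0 * X := by rw [hz]; group
      have e4 : S.e 2 0 z * S.e 4 1 0 = S.e 4 1 0 * S.e 2 0 z :=
        (S.comm_PL (mem_J (S.mX8 1 0) (by norm_num) (by norm_num)) hzc).symm
      have e5 : S.e 2 0 z * X = X * S.e 2 0 z := cc (S.q2_3 z) hXQ
      rw [e1] at e3
      have e6 : S.e 2 0 z * S.e 4 1 0 * X = S.e 4 1 0 * X * S.e 2 0 z := by
        rw [e4, mul_assoc, e5]; exact (mul_assoc _ _ _).symm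
      rw [e6] at e3
      exact mul_left_cancel e3
    have e7 : S.o 2 t * (S.e 3 0 t * S.e 3 0 s) ∈ S.XZ 4 := by
      have : S.o 2 t * (S.e 3 0 t * S.e 3 0 s) = (S.e 2 0 (σ t))⁻¹ * (A * S.e 3 0 s) := by rw [hA]; group
      rw [this, e2]
      exact mul_mem (inv_mem (S.mX4 _ _)) (S.mX4 _ _)
    have e8 : S.o 2 t * (S.e 3 0 t * S.e 3 0 s) = 1 := by
      refine Z8.inter 4 _ e7 ?_
      exact mul_mem (mem_J (S.mX5 t) (by norm_num) (by norm_num))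
        (mul_mem (mem_J (S.mX6 0 t) (by norm_num) (by norm_num)) (mem_J (S.mX6 0 s) (by norm_num) (by norm_num)))
    have e9 : S.o 2 t = 1 := by
      refine S.X_inf_near (i := 5) (j := 6) (by norm_num) (by norm_num) (S.mX5 t) ?_
      rw [eq_inv_of_mul_eq_one_left e8]
      exact inv_mem (mul_mem (S.mX6 0 t) (S.mX6 0 s))
    have ht := S.o_eq_one e9
    rw [e9, one_mul, ht, S.e_zero, one_mul] at e8
    exact ⟨ht, (S.e_eq_one e8).2⟩
  obtain ⟨rfl, rfl⟩ := hts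
  rw [S.e_zero, S.o_zero, S.o_zero, one_mul, one_mul, mul_one]
  exact ⟨w, v, rfl⟩

theorem mem_W46_iff {x : G} : x ∈ S.W46 ↔ x ∈ J S.XZ 1 8 ∧ ∀ u ∈ J S.XZ 1 8, x * u * x⁻¹ * u⁻¹ ∈ S.Zc 2 := by
  constructor
  · intro hx
    refine ⟨J_mono (by norm_num) (by norm_num) (S.W46_le hx), fun u hu => ?_⟩
    obtain ⟨a, b, rfl⟩ := hx
    obtain ⟨v, hv⟩ := S.comm_Z6' hu b
    have h4 : u * S.e 2 0 a = S.e 2 0 a * u := S.comm_PL (J_mono (by norm_num) le_rfl hu) ⟨a, rfl⟩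
    refine ⟨-v, ?_⟩
    have e1 : u * (S.e 2 0 a * S.e 3 0 b) * u⁻¹ = S.e 2 0 a * (S.e 2 0 v * S.e 3 0 b) := by
      rw [← hv]
      calc u * (S.e 2 0 a * S.e 3 0 b) * u⁻¹ = (u * S.e 2 0 a) * S.e 3 0 b * u⁻¹ := by group
        _ = _ := by rw [h4]; group
    have e2 : S.e 2 0 a * S.e 3 0 b * u * (S.e 2 0 a * S.e 3 0 b)⁻¹ * u⁻¹ =
        (S.e 2 0 a * S.e 3 0 b) * (u * (S.e 2 0 a * S.e 3 0 b) * u⁻¹)⁻¹ := by group
    have e3 : S.e 2 0 (-v) = (S.e 2 0 v)⁻¹ := by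
      apply eq_inv_of_mul_eq_one_left
      rw [S.e_mul_Zc, neg_add_cancel, S.e_zero]
    have e4 : S.e 2 0 a * (S.e 2 0 v)⁻¹ = (S.e 2 0 v)⁻¹ * S.e 2 0 a := by
      rw [← e3, S.e_mul_Zc, S.e_mul_Zc, add_comm]
    rw [e2, e1, e3]
    calc (S.e 2 0 v)⁻¹ = (S.e 2 0 v)⁻¹ * S.e 2 0 a * (S.e 2 0 a)⁻¹ := by group
      _ = S.e 2 0 a * (S.e 2 0 v)⁻¹ * (S.e 2 0 a)⁻¹ := by rw [← e4]
      _ = _ := by group
  · rintro ⟨h1, h2⟩
    exact W46_of_comm S h1 h2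

theorem mem_J28_iff {x : G} : x ∈ J S.XZ 2 8 ↔ ∀ w ∈ S.W46, x * w = w * x := by
  rw [← S.centralizer_W46, Subgroup.mem_centralizer_iff]
  exact ⟨fun h w hw => (h w hw).symm, fun h w hw => (h w hw).symm⟩

/-! ### automorphisms normalising `U` -/

variable {S} in
theorem Zc_of_U {α : MulAut G} (hU : ∀ x, α x ∈ J S.XZ 1 8 ↔ x ∈ J S.XZ 1 8) (x : G) : α x ∈ S.Zc 2 ↔ x ∈ S.Zc 2 := by
  rw [mem_Zc_iff, mem_Zc_iff, hU]
  refine and_congr_right fun _ => ⟨fun h u hu => ?_, fun h u hu => ?_⟩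
  · apply α.injective
    rw [map_mul, map_mul]
    exact h _ ((hU u).2 hu)
  · obtain ⟨v, rfl⟩ := α.surjective u
    rw [← map_mul, ← map_mul, h v ((hU v).1 hu)]

variable {S} in
theorem W46_of_U {α : MulAut G} (hU : ∀ x, α x ∈ J S.XZ 1 8 ↔ x ∈ J S.XZ 1 8) (x : G) : α x ∈ S.W46 ↔ x ∈ S.W46 := by
  rw [mem_W46_iff, mem_W46_iff, hU]
  refine and_congr_right fun _ => ⟨fun h u hu => ?_, fun h u hu => ?_⟩
  · rw [← Zc_of_U hU, map_mul, map_mul, map_mul, map_inv, map_inv]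
    exact h _ ((hU u).2 hu)
  · obtain ⟨v, rfl⟩ := α.surjective u
    have := (Zc_of_U hU _).2 (h v ((hU v).1 hu))
    rwa [map_mul, map_mul, map_mul, map_inv, map_inv] at this

variable {S} in
theorem J28_of_U {α : MulAut G} (hU : ∀ x, α x ∈ J S.XZ 1 8 ↔ x ∈ J S.XZ 1 8) (x : G) :
    α x ∈ J S.XZ 2 8 ↔ x ∈ J S.XZ 2 8 := by
  rw [mem_J28_iff, mem_J28_iff]
  refine ⟨fun h u hu => ?_, fun h u hu => ?_⟩
  · apply α.injective
    rw [map_mul, map_mul]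
    exact h _ ((W46_of_U hU u).2 hu)
  · obtain ⟨v, rfl⟩ := α.surjective u
    rw [← map_mul, ← map_mul, h v ((W46_of_U hU v).1 hu)]

/-- a torus element fixing a non-trivial element of `X_j` lies in `T_j` -/
theorem Tk_of_fix {t : G} (ht : t ∈ S.T) {j : ℤ} {x : G} (hx : x ∈ S.XZ j) (hx1 : x ≠ 1) (h : t * x * t⁻¹ = x) :
    t ∈ S.Tk j := by
  obtain ⟨c, d, rfl⟩ := S.mem_T.1 ht
  obtain ⟨m, rfl | rfl⟩ := Int.even_or_odd' j
  · rw [mem_Tk_even]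
    by_contra hne
    exact hx1 (S.fpf_even hne ((S.mem_XZ_even m x).1 hx) h)
  · rw [mem_Tk_odd]
    by_contra hne
    exact hx1 (S.fpf_odd hne ((S.mem_XZ_odd m x).1 hx) h)

variable {S} in
/-- `α` permutes the root groups of `U` -/
theorem perm (hF : ∃ c : Fˣ, c ≠ 1) {α : MulAut G} (hU : ∀ x, α x ∈ J S.XZ 1 8 ↔ x ∈ J S.XZ 1 8)
    (hT : ∀ x, α x ∈ S.T ↔ x ∈ S.T) {k : ℤ} (h1 : 1 ≤ k) (h2 : k ≤ 8) :
    ∃ j, 1 ≤ j ∧ j ≤ 8 ∧ ∀ x, α x ∈ S.XZ j ↔ x ∈ S.XZ k := by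
  obtain ⟨t, ht, ht1⟩ := exists_Tk S hF k
  obtain ⟨y, hy, hy1⟩ := S.zsys8.exists_ne k
  have hαT : α t ∈ S.T := (hT t).2 ht.1
  have hαt1 : α t ≠ 1 := (MulEquiv.map_ne_one_iff _).2 ht1
  have hfix : ∀ x ∈ S.XZ k, α t * α x * (α t)⁻¹ = α x := by
    intro x hx
    rw [← map_mul, ← map_inv, ← map_mul, S.Tk_comm ht hx, mul_inv_cancel_right]
  obtain ⟨j, hj1, hj2, x, hx, hx1, hx2⟩ : ∃ j, 1 ≤ j ∧ j ≤ 8 ∧ ∃ x ∈ S.XZ j, x ≠ 1 ∧ α t * x * (α t)⁻¹ = x := by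
    by_contra hcon
    push_neg at hcon
    have h3 := S.fix_J_one hαT (a := 1) (b := 8) (by norm_num) (fun j hj1 hj2 x hx h => by
      by_contra hx1
      exact hcon j hj1 hj2 x hx hx1 h) ((hU y).2 (mem_J hy h1 h2)) (hfix y hy)
    exact hy1 ((MulEquiv.map_eq_one_iff _).1 h3)
  have hj := Tk_of_fix S hαT hx hx1 hx2
  refine ⟨j, hj1, hj2, fun x => ⟨fun hx => ?_, fun hx => ?_⟩⟩
  · -- `x ∈ U` commutes with `t`
    have h3 : x ∈ J S.XZ 1 8 := (hU x).1 (mem_J hx hj1 hj2)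
    have h4 : t * x * t⁻¹ = x := by
      apply α.injective
      rw [map_mul, map_mul, map_inv, S.Tk_comm hj hx, mul_inv_cancel_right]
    exact S.fix_J ht ht1 (a := 1) (b := 8) (by omega) (by omega) (by norm_num) h3 h4
  · exact S.fix_J hj hαt1 (a := 1) (b := 8) (by omega) (by omega) (by norm_num) ((hU x).2 (mem_J hx h1 h2)) (hfix x hx)

variable {S} in
theorem normA (hF : ∃ c : Fˣ, c ≠ 1) {α : MulAut G} (hU : ∀ x, α x ∈ J S.XZ 1 8 ↔ x ∈ J S.XZ 1 8)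
    (hT : ∀ x, α x ∈ S.T ↔ x ∈ S.T) : NormA S α := by
  have Z8 := S.zsys8
  have hJ := J28_of_U hU
  have hX1 : ∀ x, α x ∈ S.XZ 1 ↔ x ∈ S.XZ 1 := by
    obtain ⟨j, hj1, hj2, hj⟩ := perm hF hU hT (k := 1) le_rfl (by norm_num)
    rcases le_or_gt 2 j with h | h
    · exfalso
      have h1 : α (S.o 0 1) ∈ J S.XZ 2 8 := mem_J ((hj _).2 (S.mX1 1)) h hj2
      have h2 := (hJ _).1 h1
      exact one_ne_zero (S.o_eq_one (Z8.inter 1 _ (S.mX1 1) h2))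
    · rw [show j = 1 by omega] at hj
      exact hj
  refine ⟨hU, hT, hJ, hX1, ?_⟩
  obtain ⟨j, hj1, hj2, hj⟩ := perm hF hU hT (k := 8) (by norm_num) le_rfl
  have n8 : ∀ x ∈ S.XZ 8, ∀ k : ℤ, 1 ≤ k → k < 8 → x ∈ S.XZ k → x = 1 := fun x hx k h1 h2 hx' =>
    S.X_inf_near (i := k) (j := 8) h2 (by omega) hx' hx
  have e41 : S.e 4 1 0 ≠ 1 := fun h => one_ne_zero (S.e_eq_one h).1
  interval_cases j
  · exfalso
    have h1 := (hj _).2 (S.mX8 1 0)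
    have h2 := (hX1 _).1 h1
    exact e41 (n8 _ (S.mX8 1 0) 1 (by norm_num) (by norm_num) h2)
  · exfalso
    have h1 := (hj _).2 (S.mX8 1 0)
    have h2 := (hX1 _).2 (S.mX1 1)
    have h3 : α (S.o 0 1) * α (S.e 4 1 0) = α (S.e 4 1 0) * α (S.o 0 1) := Z8.commute_succ (k := 1) h2 h1
    have h4 : S.e 4 1 0 * S.o 0 1 = S.o 0 1 * S.e 4 1 0 := by
      apply α.injective
      rw [map_mul, map_mul, h3]
    have h5 : S.e 4 1 0 ∈ J S.XZ 1 5 := by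
      have := Z8.comm_top (k := 1) (b := 8) (r := 4) (by norm_num) (by norm_num) (S.mX1 1)
        (fun h => one_ne_zero (S.o_eq_one h)) (mem_J (S.mX8 1 0) (by norm_num) (by norm_num)) h4
      exact this
    exact e41 (Z8.inter' (k := 8) (S.mX8 1 0) (J_mono (by norm_num) (by norm_num) h5))
  · exfalso
    obtain ⟨s, hs⟩ := S.X3 ((hj _).2 (S.mX8 1 0))
    have h1 : α (S.e 4 1 0 * S.e 4 1 0) = 1 := by rw [map_mul, ← hs, o_sq]
    rw [MulEquiv.map_eq_one_iff, e_sq, one_mul, map_one] at h1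
    exact one_ne_zero (S.e_eq_one h1).2
  · exfalso
    obtain ⟨y, hy⟩ := α.surjective (S.e 2 0 1)
    have h1 : y ∈ S.XZ 8 := (hj y).1 (by rw [hy]; exact S.mX4 0 1)
    have h2 : y ∈ S.Zc 2 := (Zc_of_U hU y).1 (by rw [hy]; exact ⟨1, rfl⟩)
    have h3 := n8 y h1 4 (by norm_num) (by norm_num) (S.Zc_le 2 h2)
    rw [h3, map_one] at hy
    exact one_ne_zero (S.e_eq_one hy.symm).2
  · exfalso
    obtain ⟨s, hs⟩ := S.X5 ((hj _).2 (S.mX8 1 0))
    have h1 : α (S.e 4 1 0 * S.e 4 1 0) = 1 := by rw [map_mul, ← hs, o_sq]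
    rw [MulEquiv.map_eq_one_iff, e_sq, one_mul, map_one] at h1
    exact one_ne_zero (S.e_eq_one h1).2
  · exfalso
    obtain ⟨y, hy⟩ := α.surjective (S.e 3 0 1)
    have h1 : y ∈ S.XZ 8 := (hj y).1 (by rw [hy]; exact S.mX6 0 1)
    have h2 : y ∈ S.W46 := (W46_of_U hU y).1 (by rw [hy]; exact S.Z6_W46 1)
    have h3 := Z8.inter' (k := 8) h1 (J_mono (by norm_num) (by norm_num) (S.W46_le h2))
    rw [h3, map_one] at hy
    exact one_ne_zero (S.e_eq_one hy.symm).2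
  · exfalso
    obtain ⟨s, hs⟩ := S.X7 ((hj _).2 (S.mX8 1 0))
    have h1 : α (S.e 4 1 0 * S.e 4 1 0) = 1 := by rw [map_mul, ← hs, o_sq]
    rw [MulEquiv.map_eq_one_iff, e_sq, one_mul, map_one] at h1
    exact one_ne_zero (S.e_eq_one h1).2
  · exact hj

variable {S} in
/-- normalisation by the torus -/
theorem exists_dat [Finite F] {α : MulAut G} (N : NormA S α) :
    ∃ (c d : Fˣ) (f g γ θ : F → F), Dat S (MulAut.conj (S.h c d) * α) f g γ θ := by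
  -- the first parameters
  obtain ⟨s, hs⟩ := S.X1 ((N.X1 _).2 (S.mX1 1))
  obtain ⟨p, u, hp⟩ := S.X8 ((N.X8 _).2 (S.mX8 1 0))
  have hs0 : s ≠ 0 := by
    rintro rfl
    rw [S.o_zero] at hs
    exact one_ne_zero (S.o_eq_one ((MulEquiv.map_eq_one_iff _).1 hs.symm))
  have hp0 : p ≠ 0 := by
    rintro rfl
    have h1 : α (S.e 4 1 0 * S.e 4 1 0) = 1 := by rw [map_mul, ← hp, e_sq, zero_mul, S.e_zero]
    rw [MulEquiv.map_eq_one_iff, e_sq, one_mul, map_one] at h1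
    exact one_ne_zero (S.e_eq_one h1).2
  set c : Fˣ := Units.mk0 p hp0
  set d : Fˣ := (c * Units.mk0 s hs0)⁻¹
  have ht : S.h c d ∈ S.T := S.mem_T.2 ⟨c, d, rfl⟩
  set β : MulAut G := MulAut.conj (S.h c d) * α with hβ
  have hβa : ∀ x, β x = S.h c d * α x * (S.h c d)⁻¹ := fun x => rfl
  have conjJ : ∀ {a b : ℤ} (x : G), S.h c d * x * (S.h c d)⁻¹ ∈ J S.XZ a b ↔ x ∈ J S.XZ a b := by
    intro a b x
    refine ⟨fun h => ?_, fun h => S.T_conj_J ht h⟩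
    have h1 := S.T_conj_J (inv_mem ht) h
    have e : (S.h c d)⁻¹ * (S.h c d * x * (S.h c d)⁻¹) * (S.h c d)⁻¹⁻¹ = x := by group
    rwa [e] at h1
  have conjX : ∀ {a : ℤ} (x : G), S.h c d * x * (S.h c d)⁻¹ ∈ S.XZ a ↔ x ∈ S.XZ a := by
    intro a x
    refine ⟨fun h => ?_, fun h => S.T_conj ht a h⟩
    have h1 := S.T_conj (inv_mem ht) a h
    have e : (S.h c d)⁻¹ * (S.h c d * x * (S.h c d)⁻¹) * (S.h c d)⁻¹⁻¹ = x := by group
    rwa [e] at h1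
  have Nβ : NormA S β := by
    refine ⟨fun x => ?_, fun x => ?_, fun x => ?_, fun x => ?_, fun x => ?_⟩
    · rw [hβa, conjJ, N.U]
    · rw [hβa, ← N.T x]
      refine ⟨fun h => ?_, fun h => mul_mem (mul_mem ht h) (inv_mem ht)⟩
      have h1 := mul_mem (mul_mem (inv_mem ht) h) ht
      have e : (S.h c d)⁻¹ * (S.h c d * α x * (S.h c d)⁻¹) * S.h c d = α x := by group
      rwa [e] at h1
    · rw [hβa, conjJ, N.J28]
    · rw [hβa, conjX, N.X1]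
    · rw [hβa, conjX, N.X8]
  -- the functions
  have hf : ∀ t, ∃ s', β (S.o 0 t) = S.o 0 s' := by
    intro t
    obtain ⟨s', h⟩ := S.X1 ((Nβ.X1 _).2 (S.mX1 t))
    exact ⟨s', h.symm⟩
  have hg : ∀ p, ∃ p' u', β (S.e 4 p 0) = S.e 4 p' u' := by
    intro p
    obtain ⟨p', u', h⟩ := S.X8 ((Nβ.X8 _).2 (S.mX8 p 0))
    exact ⟨p', u', h.symm⟩
  have hz : ∀ u, ∃ u', β (S.e 4 0 u) = S.e 4 0 u' := by
    intro u
    obtain ⟨q, hq⟩ : ∃ q : F, q * σ q = u := by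
      by_cases hu : u = 0
      · exact ⟨0, by rw [hu, zero_mul]⟩
      · obtain ⟨χ, hχ⟩ := s1_surj S (Units.mk0 u hu)
        exact ⟨χ, congrArg Units.val hχ⟩
    obtain ⟨p', u', h⟩ := hg q
    refine ⟨p' * σ p', ?_⟩
    rw [← hq, ← e_sq S 4 q 0, map_mul, h, e_sq]
  choose f hf using hf
  choose g γ hg using hg
  choose θ hz using hz
  refine ⟨c, d, f, g, γ, θ, ⟨Nβ, hf, fun p u => ?_, ?_, ?_⟩⟩
  · have e : S.e 4 p u = S.e 4 p 0 * S.e 4 0 u := by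
      rw [S.e_mul, map_zero, mul_zero, add_zero, add_zero, zero_add]
    rw [e, map_mul, hg, hz, S.e_mul, map_zero, mul_zero, add_zero, add_zero]
  · apply S.injO 0
    rw [← hf, hβa, ← hs, S.h_o]
    congr 1
    show ((c * d : Fˣ) : F) * s = 1
    have : c * d * Units.mk0 s hs0 = 1 := by
      show c * (c * Units.mk0 s hs0)⁻¹ * Units.mk0 s hs0 = 1
      rw [mul_inv_rev, mul_comm (Units.mk0 s hs0)⁻¹, ← mul_assoc, mul_inv_cancel, one_mul, inv_mul_cancel]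
    exact congrArg Units.val this
  · have h1 := hg 1
    rw [hβa, ← hp, S.h_e] at h1
    have h2 := (S.injE 4 _ _ _ _ h1).1
    rw [← h2]
    show ((c⁻¹ : Fˣ) : F) * p = 1
    exact congrArg Units.val (inv_mul_cancel c)


/-- the torus has odd order -/
theorem odd_T [Finite F] [Finite G] : Odd (Nat.card S.T) := by
  rw [← Nat.not_even_iff_odd, even_iff_two_dvd]
  intro h
  have hfact : Fact (Nat.Prime 2) := ⟨Nat.prime_two⟩
  obtain ⟨⟨x, hx⟩, ho⟩ := exists_prime_orderOf_dvd_card' (G := S.T) 2 h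
  obtain ⟨c, d, rfl⟩ := S.mem_T.1 hx
  have h2 : S.h c d ^ (2 ^ 1) = 1 := by
    have := pow_orderOf_eq_one (⟨S.h c d, hx⟩ : S.T)
    rw [ho] at this
    exact congrArg Subtype.val this
  obtain ⟨rfl, rfl⟩ := torus_two S h2
  have h3 : (⟨S.h 1 1, hx⟩ : S.T) = 1 := Subtype.ext S.h_one
  rw [h3, orderOf_one] at ho
  exact absurd ho (by norm_num)

open Pointwise in
/-- **every automorphism of `²F₄(q)` is inner times field** -/
theorem aut_form [Finite F] [Finite G] (hF : ∃ c : Fˣ, c ≠ 1) (hR : S.R.p = 2) (α : MulAut G) :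
    ∃ (k : G) (τ : F →+* F), (∀ a t, α (S.o a t) = k * S.o a (τ t) * k⁻¹) ∧
      (∀ a p u, α (S.e a p u) = k * S.e a (τ p) (τ u) * k⁻¹) := by
  have hfact : Fact (Nat.Prime 2) := ⟨Nat.prime_two⟩
  obtain ⟨P, hP⟩ := exists_sylow S hF hR
  obtain ⟨g, hg⟩ := MulAction.exists_smul_eq G (α • P) P
  set α1 : MulAut G := MulAut.conj g * α with hα1
  have h1P : α1 • (P : Subgroup G) = P := by
    have h2 : ((g • (α • P) : Sylow 2 G) : Subgroup G) = MulAut.conj g • (α • (P : Subgroup G)) := rfl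
    rw [hg] at h2
    rw [hα1, mul_smul]
    exact h2.symm
  rw [hP] at h1P
  have hU1 : ∀ x, α1 x ∈ J S.XZ 1 8 ↔ x ∈ J S.XZ 1 8 := by
    intro x
    have h3 : α1 • x ∈ α1 • J S.XZ 1 8 ↔ x ∈ J S.XZ 1 8 := Subgroup.smul_mem_pointwise_smul_iff
    rw [h1P] at h3
    exact h3
  -- the torus
  have hQ : IsPGroup 2 (J S.XZ 1 8) := isPGroup_J S.zsys8 (two_X S hR) 8 1 8 (by norm_num) (by norm_num)
  have hcard : Nat.card (S.T.map α1.toMonoidHom) = Nat.card S.T :=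
    Nat.card_congr (S.T.equivMapOfInjective α1.toMonoidHom α1.injective).toEquiv.symm
  obtain ⟨q, hq, hqT⟩ := exists_conj_compl (Q := J S.XZ 1 8) (H := S.T) (H' := S.T.map α1.toMonoidHom) hQ (odd_T S)
    (fun h hh q hq => S.T_conj_J hh hq) hcard (by
      rintro _ ⟨t, ht, rfl⟩
      have h4 : ∀ x, x ∈ J S.XZ 1 8 ↔ α1 t * x * (α1 t)⁻¹ ∈ J S.XZ 1 8 := by
        intro x
        obtain ⟨y, rfl⟩ := α1.surjective x
        rw [← map_inv, ← map_mul, ← map_mul, hU1, hU1]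
        refine ⟨fun h => S.T_conj_J ht h, fun h => ?_⟩
        have h5 := S.T_conj_J (inv_mem ht) h
        have e : t⁻¹ * (t * y * t⁻¹) * t⁻¹⁻¹ = y := by group
        rwa [e] at h5
      obtain ⟨b, hb, t', ht', e⟩ := norm_U S hF hR h4
      refine ⟨t', ht', t'⁻¹ * b * t', ?_, ?_⟩
      · have h5 := S.T_conj_J (inv_mem ht') hb
        rwa [inv_inv] at h5
      · show α1 t = _
        rw [e]; group)
  set α2 : MulAut G := MulAut.conj q * α1 with hα2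
  have hα2a : ∀ x, α2 x = q * α1 x * q⁻¹ := fun x => rfl
  have hU2 : ∀ x, α2 x ∈ J S.XZ 1 8 ↔ x ∈ J S.XZ 1 8 := by
    intro x
    rw [hα2a, ← hU1 x]
    refine ⟨fun h => ?_, fun h => mul_mem (mul_mem hq h) (inv_mem hq)⟩
    have h1 := mul_mem (mul_mem (inv_mem hq) h) hq
    have e : q⁻¹ * (q * α1 x * q⁻¹) * q = α1 x := by group
    rwa [e] at h1
  have hT2 : ∀ x, α2 x ∈ S.T ↔ x ∈ S.T := by
    have hle : S.T.map α2.toMonoidHom ≤ S.T := by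
      rintro _ ⟨t, ht, rfl⟩
      exact hqT _ ⟨t, ht, rfl⟩
    have hcard2 : Nat.card (S.T.map α2.toMonoidHom) = Nat.card S.T :=
      Nat.card_congr (S.T.equivMapOfInjective α2.toMonoidHom α2.injective).toEquiv.symm
    have heq : S.T.map α2.toMonoidHom = S.T := Subgroup.eq_of_le_of_card_ge hle hcard2.ge
    intro x
    constructor
    · intro h
      rw [← heq] at h
      obtain ⟨y, hy, e⟩ := h
      have : y = x := α2.injective e
      exact this ▸ hy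
    · intro h
      exact hle ⟨x, h, rfl⟩
  have N := normA hF hU2 hT2
  obtain ⟨c, d, f, g', γ, θ, D⟩ := exists_dat N
  refine ⟨(S.h c d * q * g)⁻¹, D.τ, fun a t => ?_, fun a p u => ?_⟩
  · rw [← D.all_o hF a t]
    show α (S.o a t) = (S.h c d * q * g)⁻¹ * (S.h c d * (q * (g * α (S.o a t) * g⁻¹) * q⁻¹) * (S.h c d)⁻¹) *
      (S.h c d * q * g)⁻¹⁻¹
    group
  · rw [← D.all_e hF a p u]
    show α (S.e a p u) = (S.h c d * q * g)⁻¹ * (S.h c d * (q * (g * α (S.e a p u) * g⁻¹) * q⁻¹) * (S.h c d)⁻¹) *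
      (S.h c d * q * g)⁻¹⁻¹
    group

/-- **an automorphism which centralises `Z_4` is the conjugation by an element of `P_4`** -/
theorem inner_of_Z4 [Finite F] [Finite G] (hF : ∃ c : Fˣ, c ≠ 1) (hR : S.R.p = 2) {α : MulAut G}
    (hα : ∀ z ∈ S.Zc 2, α z = z) : ∃ k ∈ S.PL, ∀ x, α x = k * x * k⁻¹ := by
  obtain ⟨k, τ, ho, he⟩ := aut_form S hF hR α
  have hz1 : S.e 2 0 1 ≠ 1 := fun h => one_ne_zero (S.e_eq_one h).2
  have h1 : k * S.e 2 0 1 * k⁻¹ = S.e 2 0 1 := by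
    have := he 2 0 1
    rw [map_zero, map_one, hα _ (S.mem_Zc.2 ⟨1, rfl⟩)] at this
    exact this.symm
  have hk : k ∈ S.PL := by
    rw [← S.centralizer_z (S.mem_Zc.2 ⟨1, rfl⟩) hz1, Subgroup.mem_centralizer_singleton_iff]
    calc k * S.e 2 0 1 = (k * S.e 2 0 1 * k⁻¹) * k := by group
      _ = _ := by rw [h1]
  have hτ : ∀ u, τ u = u := by
    intro u
    have h2 := he 2 0 u
    rw [map_zero, hα _ (S.mem_Zc.2 ⟨u, rfl⟩), S.comm_PL hk (S.mem_Zc.2 ⟨τ u, rfl⟩)] at h2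
    have h3 : S.e 2 0 u = S.e 2 0 (τ u) := by rw [h2]; group
    exact ((S.injE 2 _ _ _ _ h3).2).symm
  refine ⟨k, hk, ?_⟩
  -- the subgroup on which they agree
  set H : Subgroup G := (MonoidHom.eqLocus α.toMonoidHom (MulAut.conj k).toMonoidHom) with hH
  have hHm : ∀ x, x ∈ H ↔ α x = k * x * k⁻¹ := fun x => Iff.rfl
  have ho' : ∀ a t, S.o a t ∈ H := fun a t => by rw [hHm, ho, hτ]
  have he' : ∀ a p u, S.e a p u ∈ H := fun a p u => by rw [hHm, he, hτ, hτ]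
  have htop : H = ⊤ := by
    refine eq_top_of S ?_ ?_ ?_ ?_
    · intro x hx
      obtain ⟨p, u, rfl⟩ := (mem_X0 S).1 hx
      exact he' _ _ _
    · intro x hx
      obtain ⟨t, rfl⟩ := S.X1 hx
      exact ho' _ _
    · intro x hx
      obtain ⟨p, u, rfl⟩ := (mem_X8 S).1 hx
      exact he' _ _ _
    · intro x hx
      obtain ⟨t, rfl⟩ := (mem_X9 S).1 hx
      exact ho' _ _
  intro x
  exact (hHm x).1 (htop ▸ Subgroup.mem_top x)

end Cfsg.Agent.KFacts.TwF4.AutNorm
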