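import Cfsg.Agent.KFacts.TwF4.Rot

/-!
# The centraliser of a short root element in a group of type `²F₄`

`HO = ⟨X_1, X_9⟩ NO`, `NO = {Z_2 X_3 X_4 X_5 X_6 X_7 Z_8}`.

* `centralizer_o`: `C(x) = HO` for `1 ≠ x ∈ X_5`;
* `centralizer_X5`: `C(X_5) = HO`;
* `not_conj`: no element of `Z_4` is conjugate to a non-trivial element of `X_5`.
-/

set_option autoImplicit false
set_option linter.unusedSectionVars false

namespace Cfsg.Agent.KFacts.TwF4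

open Cfsg.Agent.SplitTwo Cfsg.Agent.SplitTwo.ZS Cfsg.Agent.TitsThree.RankTwoZ Cfsg.Agent.TitsThree.RankTwoRGD
open Cfsg.Agent.SplitTwo.RootSysZ
open scoped commutatorElement

universe u

variable {F : Type*} [Field F] {σ : F →+* F} {G : Type u} [Group G] (S : Full σ G)

namespace Full

/-! ### elements of the root groups, in numerical form -/

theorem X1 {x : G} (hx : x ∈ S.XZ 1) : ∃ t, S.o 0 t = x := (S.mem_XZ_odd 0 x).1 hx
theorem X2 {x : G} (hx : x ∈ S.XZ 2) : ∃ p u, S.e 1 p u = x := (S.mem_XZ_even 1 x).1 hx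
theorem X3 {x : G} (hx : x ∈ S.XZ 3) : ∃ t, S.o 1 t = x := (S.mem_XZ_odd 1 x).1 hx
theorem X4 {x : G} (hx : x ∈ S.XZ 4) : ∃ p u, S.e 2 p u = x := (S.mem_XZ_even 2 x).1 hx
theorem X5 {x : G} (hx : x ∈ S.XZ 5) : ∃ t, S.o 2 t = x := (S.mem_XZ_odd 2 x).1 hx
theorem X6 {x : G} (hx : x ∈ S.XZ 6) : ∃ p u, S.e 3 p u = x := (S.mem_XZ_even 3 x).1 hx
theorem X7 {x : G} (hx : x ∈ S.XZ 7) : ∃ t, S.o 3 t = x := (S.mem_XZ_odd 3 x).1 hx
theorem X8 {x : G} (hx : x ∈ S.XZ 8) : ∃ p u, S.e 4 p u = x := (S.mem_XZ_even 4 x).1 hx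
theorem X9 {x : G} (hx : x ∈ S.XZ 9) : ∃ t, S.o 4 t = x := (S.mem_XZ_odd 4 x).1 hx

theorem mX1 (t : F) : S.o 0 t ∈ S.XZ 1 := (S.mem_XZ_odd 0 _).2 ⟨t, rfl⟩
theorem mX2 (p u : F) : S.e 1 p u ∈ S.XZ 2 := (S.mem_XZ_even 1 _).2 ⟨p, u, rfl⟩
theorem mX3 (t : F) : S.o 1 t ∈ S.XZ 3 := (S.mem_XZ_odd 1 _).2 ⟨t, rfl⟩
theorem mX4 (p u : F) : S.e 2 p u ∈ S.XZ 4 := (S.mem_XZ_even 2 _).2 ⟨p, u, rfl⟩
theorem mX5 (t : F) : S.o 2 t ∈ S.XZ 5 := (S.mem_XZ_odd 2 _).2 ⟨t, rfl⟩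
theorem mX6 (p u : F) : S.e 3 p u ∈ S.XZ 6 := (S.mem_XZ_even 3 _).2 ⟨p, u, rfl⟩
theorem mX7 (t : F) : S.o 3 t ∈ S.XZ 7 := (S.mem_XZ_odd 3 _).2 ⟨t, rfl⟩
theorem mX8 (p u : F) : S.e 4 p u ∈ S.XZ 8 := (S.mem_XZ_even 4 _).2 ⟨p, u, rfl⟩
theorem mX9 (t : F) : S.o 4 t ∈ S.XZ 9 := (S.mem_XZ_odd 4 _).2 ⟨t, rfl⟩

include S in
theorem add_self (x : F) : x + x = 0 := by
  have := S.two
  rw [← two_mul, this, zero_mul]

/-! ### the centre of `⟨X_2, …, X_8⟩` -/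

/-- `Z_4 Z_6` -/
def W46 : Subgroup G where
  carrier := {g | ∃ u v, S.e 2 0 u * S.e 3 0 v = g}
  one_mem' := ⟨0, 0, by rw [S.e_zero, S.e_zero, one_mul]⟩
  mul_mem' := by
    rintro _ _ ⟨u, v, rfl⟩ ⟨u', v', rfl⟩
    refine ⟨u + u', v + v', ?_⟩
    have h1 : S.e 3 0 v * S.e 2 0 u' = S.e 2 0 u' * S.e 3 0 v := by
      have := S.e_e1 2 0 u' 0 v
      rw [mul_zero, S.o_zero, mul_one] at this
      exact this.symm
    have h2 : S.e 2 0 u * S.e 2 0 u' = S.e 2 0 (u + u') := by rw [S.e_mul, zero_mul, add_zero, add_zero]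
    have h3 : S.e 3 0 v * S.e 3 0 v' = S.e 3 0 (v + v') := by rw [S.e_mul, zero_mul, add_zero, add_zero]
    calc S.e 2 0 (u + u') * S.e 3 0 (v + v') = (S.e 2 0 u * S.e 2 0 u') * (S.e 3 0 v * S.e 3 0 v') := by rw [h2, h3]
      _ = S.e 2 0 u * (S.e 2 0 u' * S.e 3 0 v) * S.e 3 0 v' := by group
      _ = _ := by rw [← h1]; group
  inv_mem' := by
    rintro _ ⟨u, v, rfl⟩
    refine ⟨-u, -v, ?_⟩
    have h1 : S.e 3 0 v * S.e 2 0 u = S.e 2 0 u * S.e 3 0 v := by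
      have := S.e_e1 2 0 u 0 v
      rw [mul_zero, S.o_zero, mul_one] at this
      exact this.symm
    have h2 : S.e 2 0 (-u) = (S.e 2 0 u)⁻¹ := by
      apply eq_inv_of_mul_eq_one_left
      rw [S.e_mul, zero_mul, add_zero, add_zero, neg_add_cancel, S.e_zero]
    have h3 : S.e 3 0 (-v) = (S.e 3 0 v)⁻¹ := by
      apply eq_inv_of_mul_eq_one_left
      rw [S.e_mul, zero_mul, add_zero, add_zero, neg_add_cancel, S.e_zero]
    rw [h2, h3, ← mul_inv_rev, h1]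

theorem mem_W46 {g : G} : g ∈ S.W46 ↔ ∃ u v, S.e 2 0 u * S.e 3 0 v = g := Iff.rfl

theorem Z4_W46 (u : F) : S.e 2 0 u ∈ S.W46 := ⟨u, 0, by rw [S.e_zero, mul_one]⟩
theorem Z6_W46 (u : F) : S.e 3 0 u ∈ S.W46 := ⟨0, u, by rw [S.e_zero, one_mul]⟩

theorem W46_le : S.W46 ≤ J S.XZ 4 6 := by
  rintro _ ⟨u, v, rfl⟩
  exact mul_mem (mem_J (S.mX4 0 u) (by norm_num) (by norm_num)) (mem_J (S.mX6 0 v) (by norm_num) (by norm_num))

theorem W46_inf {g : G} (hg : g ∈ S.W46) (hg' : g ∈ S.XZ 5) : g = 1 := by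
  obtain ⟨u, v, rfl⟩ := hg
  have h1 : S.e 2 0 u = 1 := by
    refine S.zsys8.inter 4 _ (S.mX4 0 u) ?_
    have : S.e 2 0 u = (S.e 2 0 u * S.e 3 0 v) * (S.e 3 0 v)⁻¹ := by group
    rw [this]
    exact mul_mem (mem_J hg' (by norm_num) (by norm_num)) (inv_mem (mem_J (S.mX6 0 v) (by norm_num) (by norm_num)))
  rw [h1, one_mul] at hg' ⊢
  exact S.X_inf_near (i := 5) (j := 6) (by norm_num) (by norm_num) hg' (S.mX6 0 v)

/-- `Z_4` commutes with `X_1, …, X_8` -/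
theorem comm_Z6 {k : ℤ} (h1 : 2 ≤ k) (h2 : k ≤ 10) {x : G} (hx : x ∈ S.XZ k) (v : F) :
    x * S.e 3 0 v = S.e 3 0 v * x := by
  have h3 := S.rotk_X' (-1) k hx
  have h4 := S.comm_Z4 (k := k + 2 * -1) (by omega) (by omega) h3 v
  have h5 : S.ck 1 ((S.rot ^ (-1 : ℤ) * x * (S.rot ^ (-1 : ℤ))⁻¹) * S.e 2 0 v) =
      S.ck 1 (S.e 2 0 v * (S.rot ^ (-1 : ℤ) * x * (S.rot ^ (-1 : ℤ))⁻¹)) := by rw [h4]
  have e1 : S.ck 1 (S.rot ^ (-1 : ℤ) * x * (S.rot ^ (-1 : ℤ))⁻¹) = x := by rw [S.ck_apply]; group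
  rw [map_mul (S.ck 1) (S.rot ^ (-1 : ℤ) * x * (S.rot ^ (-1 : ℤ))⁻¹) (S.e 2 0 v),
    map_mul (S.ck 1) (S.e 2 0 v) (S.rot ^ (-1 : ℤ) * x * (S.rot ^ (-1 : ℤ))⁻¹), e1, S.ck_e] at h5
  have e2 : (2 : ZMod 8) + ((1 : ℤ) : ZMod 8) = 3 := by decide
  rw [e2] at h5
  exact h5

/-- `W46` is central in `⟨X_2, …, X_8⟩` -/
theorem W46_comm {q w : G} (hq : q ∈ J S.XZ 2 8) (hw : w ∈ S.W46) : q * w = w * q := by
  obtain ⟨u, v, rfl⟩ := hw
  have h1 : J S.XZ 2 8 ≤ Subgroup.centralizer {S.e 2 0 u * S.e 3 0 v} := J_le fun k h1 h2 y hy => by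
    rw [Subgroup.mem_centralizer_singleton_iff]
    have a1 := S.comm_Z4 (by omega) h2 hy u
    have a2 := S.comm_Z6 h1 (by omega) hy v
    rw [← mul_assoc, a1, mul_assoc, a2, mul_assoc]
  exact Subgroup.mem_centralizer_singleton_iff.1 (h1 hq)

/-- `W46` is normalised by `⟨X_1, …, X_9⟩` -/
theorem W46_conj_X {k : ℤ} (h1 : 1 ≤ k) (h2 : k ≤ 9) {x w : G} (hx : x ∈ S.XZ k) (hw : w ∈ S.W46) :
    x * w * x⁻¹ ∈ S.W46 := by
  rcases lt_or_ge 1 k with h3 | h3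
  · rcases lt_or_ge k 9 with h4 | h4
    · rw [S.W46_comm (mem_J hx (by omega) (by omega)) hw, mul_inv_cancel_right]; exact hw
    · have hk : k = 9 := by omega
      subst hk
      obtain ⟨s, rfl⟩ := S.X9 hx
      obtain ⟨u, v, rfl⟩ := hw
      -- `[X_4, X_9]`
      have r1 : S.e 2 0 u * S.o 4 s = S.o 4 s * S.e 2 0 u * S.e 3 0 (0 * σ 0 * s + u * s) * S.o 3 (σ 0 * s) * S.e 4 0 (0 * σ s) :=
        S.e_o2 2 0 u s
      rw [map_zero, zero_mul, zero_mul, zero_mul, zero_add, S.o_zero, S.e_zero, mul_one, mul_one] at r1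
      have r2 : S.e 3 0 v * S.o 4 s = S.o 4 s * S.e 3 0 v * S.e 4 0 (0 * s) := S.e_o1 3 0 v s
      rw [zero_mul, S.e_zero, mul_one] at r2
      have r3 : S.o 4 s * S.e 2 0 u * (S.o 4 s)⁻¹ = S.e 2 0 u * S.e 3 0 (-(u * s)) := by
        rw [mul_inv_eq_iff_eq_mul]
        have r4 : S.e 3 0 (-(u * s)) * S.o 4 s = S.o 4 s * S.e 3 0 (-(u * s)) * S.e 4 0 (0 * s) := S.e_o1 3 0 _ s
        rw [zero_mul, S.e_zero, mul_one] at r4
        calc S.o 4 s * S.e 2 0 u = S.o 4 s * S.e 2 0 u * (S.e 3 0 (u * s) * S.e 3 0 (-(u * s))) := by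
              rw [S.e_mul, zero_mul, add_zero, add_zero, add_neg_cancel, S.e_zero, mul_one]
          _ = (S.o 4 s * S.e 2 0 u * S.e 3 0 (u * s)) * S.e 3 0 (-(u * s)) := by group
          _ = S.e 2 0 u * (S.o 4 s * S.e 3 0 (-(u * s))) := by rw [← r1]; group
          _ = _ := by rw [← r4]; group
      have e1 : S.o 4 s * (S.e 2 0 u * S.e 3 0 v) * (S.o 4 s)⁻¹ =
          (S.o 4 s * S.e 2 0 u * (S.o 4 s)⁻¹) * (S.o 4 s * S.e 3 0 v * (S.o 4 s)⁻¹) := by group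
      rw [e1, r3, ← r2, mul_inv_cancel_right]
      exact mul_mem (mul_mem (S.Z4_W46 _) (S.Z6_W46 _)) (S.Z6_W46 _)
  · have hk : k = 1 := by omega
    subst hk
    obtain ⟨t, rfl⟩ := S.X1 hx
    obtain ⟨u, v, rfl⟩ := hw
    have r1 : S.o 0 t * S.e 3 0 v = S.e 3 0 v * S.o 0 t * S.e 1 0 (σ t * 0) * S.o 1 (t * σ 0) *
        S.e 2 0 (t * 0 * σ 0 + t * v) := S.o_e3 0 t 0 v
    rw [map_zero, mul_zero, mul_zero, mul_zero, zero_add, S.o_zero, S.e_zero, mul_one, mul_one] at r1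
    have r2 := S.comm_Z4 (k := 1) (by norm_num) (by norm_num) (S.mX1 t) u
    have r3 := S.comm_Z4 (k := 1) (by norm_num) (by norm_num) (S.mX1 t) (t * v)
    have e1 : S.o 0 t * (S.e 2 0 u * S.e 3 0 v) * (S.o 0 t)⁻¹ = S.e 2 0 u * (S.e 3 0 v * S.e 2 0 (t * v)) := by
      rw [mul_inv_eq_iff_eq_mul]
      calc S.o 0 t * (S.e 2 0 u * S.e 3 0 v) = (S.o 0 t * S.e 2 0 u) * S.e 3 0 v := by group
        _ = S.e 2 0 u * (S.o 0 t * S.e 3 0 v) := by rw [r2]; group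
        _ = S.e 2 0 u * S.e 3 0 v * (S.o 0 t * S.e 2 0 (t * v)) := by rw [r1]; group
        _ = _ := by rw [r3]; group
    rw [e1]
    exact mul_mem (S.Z4_W46 _) (mul_mem (S.Z6_W46 _) (S.Z4_W46 _))

theorem W46_norm : J S.XZ 1 9 ≤ Subgroup.normalizer (S.W46 : Set G) := by
  refine J_le fun k h1 h2 x hx => ?_
  rw [Subgroup.mem_normalizer_iff]
  intro w
  refine ⟨fun hw => S.W46_conj_X h1 h2 hx hw, fun hw => ?_⟩
  have h3 := S.W46_conj_X h1 h2 (inv_mem hx) hw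
  have e : x⁻¹ * (x * w * x⁻¹) * x⁻¹⁻¹ = w := by group
  rwa [e] at h3

theorem W46_conj {g w : G} (hg : g ∈ J S.XZ 1 9) (hw : w ∈ S.W46) : g * w * g⁻¹ ∈ S.W46 :=
  (Subgroup.mem_normalizer_iff.1 (S.W46_norm hg) w).1 hw

theorem T_conj_W46 {t : G} (ht : t ∈ S.T) {w : G} (hw : w ∈ S.W46) : t * w * t⁻¹ ∈ S.W46 := by
  obtain ⟨u, v, rfl⟩ := hw
  have e : t * (S.e 2 0 u * S.e 3 0 v) * t⁻¹ = (t * S.e 2 0 u * t⁻¹) * (t * S.e 3 0 v * t⁻¹) := by group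
  rw [e]
  obtain ⟨u', h1⟩ := S.T_conj_Zc ht (a := 2) ⟨u, rfl⟩
  obtain ⟨v', h2⟩ := S.T_conj_Zc ht (a := 3) ⟨v, rfl⟩
  exact ⟨u', v', by rw [h1, h2]⟩

/-! ### commutators with `X_5` -/

/-- `⟨X_1, …, X_9⟩` centralises `X_5` modulo `W46` -/
theorem comm_five_X {k : ℤ} (h1 : 1 ≤ k) (h2 : k ≤ 9) {x y : G} (hx : x ∈ S.XZ k) (hy : y ∈ S.XZ 5) :
    x * y * x⁻¹ * y⁻¹ ∈ S.W46 := by
  obtain ⟨s, rfl⟩ := S.X5 hy
  have key : x * S.o 2 s = S.o 2 s * x → x * S.o 2 s * x⁻¹ * (S.o 2 s)⁻¹ ∈ S.W46 := fun h => by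
    have : x * S.o 2 s * x⁻¹ * (S.o 2 s)⁻¹ = 1 := by rw [h]; group
    rw [this]; exact one_mem _
  interval_cases k
  · obtain ⟨t, rfl⟩ := S.X1 hx
    exact key (S.o_o2 0 t s)
  · obtain ⟨p, u, rfl⟩ := S.X2 hx
    have r : S.e 1 p u * S.o 2 s = S.o 2 s * S.e 1 p u * S.e 2 0 (p * s) := S.e_o1 1 p u s
    have r2 := S.comm_Z4 (k := 2) (by norm_num) (by norm_num) (S.mX2 p u) (p * s)
    have r3 := S.comm_Z4 (k := 5) (by norm_num) (by norm_num) (S.mX5 s) (p * s)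
    have e : S.e 1 p u * S.o 2 s * (S.e 1 p u)⁻¹ * (S.o 2 s)⁻¹ = S.e 2 0 (p * s) := by
      rw [r, mul_assoc (S.o 2 s), r2]
      calc S.o 2 s * (S.e 2 0 (p * s) * S.e 1 p u) * (S.e 1 p u)⁻¹ * (S.o 2 s)⁻¹ =
          (S.o 2 s * S.e 2 0 (p * s)) * (S.o 2 s)⁻¹ := by group
        _ = _ := by rw [r3]; group
    rw [e]; exact S.Z4_W46 _
  · obtain ⟨t, rfl⟩ := S.X3 hx
    exact key (S.o_o1 1 t s)
  · obtain ⟨p, u, rfl⟩ := S.X4 hx
    exact key (S.e_o0 2 p u s)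
  · obtain ⟨t, rfl⟩ := S.X5 hx
    exact key (by rw [S.o_add, S.o_add, add_comm])
  · obtain ⟨p, u, rfl⟩ := S.X6 hx
    exact key (S.o_e1 2 s p u).symm
  · obtain ⟨t, rfl⟩ := S.X7 hx
    exact key (S.o_o1 2 s t).symm
  · obtain ⟨p, u, rfl⟩ := S.X8 hx
    have r : S.o 2 s * S.e 4 p u = S.e 4 p u * S.o 2 s * S.e 3 0 (s * p) := S.o_e2 2 s p u
    have r2 := S.comm_Z6 (k := 8) (by norm_num) (by norm_num) (S.mX8 p u) (s * p)
    have r3 := S.comm_Z6 (k := 5) (by norm_num) (by norm_num) (S.mX5 s) (s * p)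
    have e : S.e 4 p u * S.o 2 s * (S.e 4 p u)⁻¹ * (S.o 2 s)⁻¹ = (S.e 3 0 (s * p))⁻¹ := by
      have e1 : S.e 4 p u * S.o 2 s = S.o 2 s * S.e 4 p u * (S.e 3 0 (s * p))⁻¹ := by rw [r]; group
      have r2' : S.e 4 p u * (S.e 3 0 (s * p))⁻¹ = (S.e 3 0 (s * p))⁻¹ * S.e 4 p u := by
        rw [mul_inv_eq_iff_eq_mul, mul_assoc, r2]; group
      have r3' : S.o 2 s * (S.e 3 0 (s * p))⁻¹ = (S.e 3 0 (s * p))⁻¹ * S.o 2 s := by
        rw [mul_inv_eq_iff_eq_mul, mul_assoc, r3]; group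
      rw [e1, mul_assoc (S.o 2 s), r2']
      calc S.o 2 s * ((S.e 3 0 (s * p))⁻¹ * S.e 4 p u) * (S.e 4 p u)⁻¹ * (S.o 2 s)⁻¹ =
          (S.o 2 s * (S.e 3 0 (s * p))⁻¹) * (S.o 2 s)⁻¹ := by group
        _ = _ := by rw [r3']; group
    rw [e]; exact inv_mem (S.Z6_W46 _)
  · obtain ⟨t, rfl⟩ := S.X9 hx
    exact key (S.o_o2 2 s t).symm

theorem comm_five {g y : G} (hg : g ∈ J S.XZ 1 9) (hy : y ∈ S.XZ 5) : g * y * g⁻¹ * y⁻¹ ∈ S.W46 := by
  let D : Subgroup G :=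
    { carrier := {g | g ∈ Subgroup.normalizer (S.W46 : Set G) ∧ ∀ y ∈ S.XZ 5, g * y * g⁻¹ * y⁻¹ ∈ S.W46}
      one_mem' := ⟨one_mem _, fun y _ => by simp⟩
      mul_mem' := by
        rintro a b ⟨ha, ha'⟩ ⟨hb, hb'⟩
        refine ⟨mul_mem ha hb, fun y hy => ?_⟩
        have e : a * b * y * (a * b)⁻¹ * y⁻¹ = a * (b * y * b⁻¹ * y⁻¹) * a⁻¹ * (a * y * a⁻¹ * y⁻¹) := by group
        rw [e]
        exact mul_mem ((Subgroup.mem_normalizer_iff.1 ha _).1 (hb' y hy)) (ha' y hy)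
      inv_mem' := by
        rintro a ⟨ha, ha'⟩
        refine ⟨inv_mem ha, fun y hy => ?_⟩
        have e : a⁻¹ * y * a⁻¹⁻¹ * y⁻¹ = a⁻¹ * (a * y * a⁻¹ * y⁻¹)⁻¹ * a⁻¹⁻¹ := by group
        rw [e]
        exact (Subgroup.mem_normalizer_iff.1 (inv_mem ha) _).1 (inv_mem (ha' y hy)) }
  have : J S.XZ 1 9 ≤ D := J_le fun k h1 h2 x hx => ⟨S.W46_norm (mem_J hx h1 h2), fun y hy => S.comm_five_X h1 h2 hx hy⟩
  exact (this hg).2 y hy

/-- elements of `⟨X_2, …, X_8⟩` that commute with one non-trivial element of `X_5` -/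
theorem form_of_comm {q : G} (hq : q ∈ J S.XZ 2 8) {s : F} (hs : s ≠ 0) (hc : q * S.o 2 s = S.o 2 s * q) :
    ∃ u v, ∃ r ∈ J S.XZ 3 7, q = S.e 1 0 u * r * S.e 4 0 v := by
  have Z8 := S.zsys8
  obtain ⟨x2, h2, r, hr, rfl⟩ := Z8.split_ll (a := 2) (b := 8) (by norm_num) (by norm_num) hq
  obtain ⟨r, hr1, x8, h8, rfl⟩ := Z8.split_rr (a := 2 + 1) (b := 8) (by norm_num) (by norm_num) hr
  have hr2 : r ∈ J S.XZ 3 7 := hr1
  obtain ⟨p, u, rfl⟩ := S.X2 h2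
  obtain ⟨p', u', rfl⟩ := S.X8 h8
  have k1 : S.e 1 p u * S.o 2 s = S.o 2 s * S.e 1 p u * S.e 2 0 (p * s) := S.e_o1 1 p u s
  have k2 : S.o 2 s * S.e 4 p' u' = S.e 4 p' u' * S.o 2 s * S.e 3 0 (s * p') := S.o_e2 2 s p' u'
  have k3 : r * S.o 2 s = S.o 2 s * r := by
    have : J S.XZ 3 7 ≤ Subgroup.centralizer {S.o 2 s} := J_le fun k h1 h2 x hx => by
      rw [Subgroup.mem_centralizer_singleton_iff]
      interval_cases k
      · obtain ⟨t, rfl⟩ := S.X3 hx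
        exact S.o_o1 1 t s
      · obtain ⟨p, u, rfl⟩ := S.X4 hx
        exact S.e_o0 2 p u s
      · obtain ⟨t, rfl⟩ := S.X5 hx
        rw [S.o_add, S.o_add, add_comm]
      · obtain ⟨p, u, rfl⟩ := S.X6 hx
        exact (S.o_e1 2 s p u).symm
      · obtain ⟨t, rfl⟩ := S.X7 hx
        exact (S.o_o1 2 s t).symm
    exact Subgroup.mem_centralizer_singleton_iff.1 (this hr2)
  have m28 : ∀ p' u', S.e 4 p' u' ∈ J S.XZ 2 8 := fun p' u' => mem_J (S.mX8 p' u') (by norm_num) (by norm_num)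
  have mr : r ∈ J S.XZ 2 8 := J_mono (by norm_num) (by norm_num) hr2
  have c4 : r * S.e 4 p' u' * S.e 2 0 (p * s) = S.e 2 0 (p * s) * (r * S.e 4 p' u') :=
    S.W46_comm (mul_mem mr (m28 _ _)) (S.Z4_W46 _)
  have c6 : S.o 2 s * S.e 3 0 (s * p') = S.e 3 0 (s * p') * S.o 2 s :=
    S.comm_Z6 (k := 5) (by norm_num) (by norm_num) (S.mX5 s) (s * p')
  -- `q x = x (x2 r x8) (z z')`
  have e1 : S.e 1 p u * (r * S.e 4 p' u') * S.o 2 s * S.e 3 0 (s * p') =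
      S.o 2 s * (S.e 1 p u * (r * S.e 4 p' u')) * S.e 2 0 (p * s) := by
    calc S.e 1 p u * (r * S.e 4 p' u') * S.o 2 s * S.e 3 0 (s * p') =
        S.e 1 p u * r * (S.e 4 p' u' * S.o 2 s * S.e 3 0 (s * p')) := by group
      _ = S.e 1 p u * (r * S.o 2 s) * S.e 4 p' u' := by rw [← k2]; group
      _ = (S.e 1 p u * S.o 2 s) * (r * S.e 4 p' u') := by rw [k3]; group
      _ = S.o 2 s * S.e 1 p u * (S.e 2 0 (p * s) * (r * S.e 4 p' u')) := by rw [k1]; group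
      _ = _ := by rw [← c4]; group
  rw [hc] at e1
  have e2 : S.e 3 0 (s * p') = S.e 2 0 (p * s) := mul_left_cancel e1
  have e3 : S.e 3 0 (s * p') = 1 := S.X_inf_near (i := 4) (j := 6) (by norm_num) (by norm_num)
    (by rw [e2]; exact S.mX4 _ _) (S.mX6 _ _)
  have hp' : p' = 0 := by
    have := (S.e_eq_one e3).2
    rcases mul_eq_zero.1 this with h | h
    · exact absurd h hs
    · exact h
  have hp : p = 0 := by
    rw [e2] at e3
    have := (S.e_eq_one e3).2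
    rcases mul_eq_zero.1 this with h | h
    · exact h
    · exact absurd h hs
  subst hp hp'
  exact ⟨u, u', r, hr2, by group⟩

/-- `Z_2 X_3 X_4 X_5 X_6 X_7 Z_8`: the centraliser of `X_5` in `⟨X_2, …, X_8⟩` -/
def NO : Subgroup G := J S.XZ 2 8 ⊓ Subgroup.centralizer (S.XZ 5 : Set G)

/-- the Levi complement -/
def LO : Subgroup G := S.XZ 1 ⊔ S.XZ 9

/-- the centraliser of `X_5` -/
def HO : Subgroup G := S.LO ⊔ S.NO

theorem mem_centralizer_X5 {g : G} : g ∈ Subgroup.centralizer (S.XZ 5 : Set G) ↔ ∀ s, g * S.o 2 s = S.o 2 s * g := by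
  rw [Subgroup.mem_centralizer_iff]
  constructor
  · intro h s
    exact (h _ (S.mX5 s)).symm
  · intro h x hx
    obtain ⟨s, rfl⟩ := S.X5 hx
    exact (h s).symm

theorem X_cent {k : ℤ} (h1 : 3 ≤ k) (h2 : k ≤ 7) : S.XZ k ≤ Subgroup.centralizer (S.XZ 5 : Set G) := by
  intro x hx
  rw [S.mem_centralizer_X5]
  intro s
  interval_cases k
  · obtain ⟨t, rfl⟩ := S.X3 hx
    exact S.o_o1 1 t s
  · obtain ⟨p, u, rfl⟩ := S.X4 hx
    exact S.e_o0 2 p u s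
  · obtain ⟨t, rfl⟩ := S.X5 hx
    rw [S.o_add, S.o_add, add_comm]
  · obtain ⟨p, u, rfl⟩ := S.X6 hx
    exact (S.o_e1 2 s p u).symm
  · obtain ⟨t, rfl⟩ := S.X7 hx
    exact (S.o_o1 2 s t).symm

theorem J37_le : J S.XZ 3 7 ≤ S.NO :=
  J_le fun k h1 h2 x hx => ⟨mem_J hx (by omega) (by omega), S.X_cent h1 h2 hx⟩

theorem Z2_NO (u : F) : S.e 1 0 u ∈ S.NO := by
  refine ⟨mem_J (S.mX2 0 u) (by norm_num) (by norm_num), S.mem_centralizer_X5.2 fun s => ?_⟩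
  have : S.e 1 0 u * S.o 2 s = S.o 2 s * S.e 1 0 u * S.e 2 0 (0 * s) := S.e_o1 1 0 u s
  rwa [zero_mul, S.e_zero, mul_one] at this

theorem Z8_NO (u : F) : S.e 4 0 u ∈ S.NO := by
  refine ⟨mem_J (S.mX8 0 u) (by norm_num) (by norm_num), S.mem_centralizer_X5.2 fun s => ?_⟩
  have : S.o 2 s * S.e 4 0 u = S.e 4 0 u * S.o 2 s * S.e 3 0 (s * 0) := S.o_e2 2 s 0 u
  rw [mul_zero, S.e_zero, mul_one] at this
  exact this.symm

theorem mem_NO_iff {q : G} : q ∈ S.NO ↔ ∃ u v, ∃ r ∈ J S.XZ 3 7, q = S.e 1 0 u * r * S.e 4 0 v := by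
  constructor
  · rintro ⟨h1, h2⟩
    exact S.form_of_comm h1 one_ne_zero (S.mem_centralizer_X5.1 h2 1)
  · rintro ⟨u, v, r, hr, rfl⟩
    exact mul_mem (mul_mem (S.Z2_NO u) (S.J37_le hr)) (S.Z8_NO v)

theorem mem_NO_of_comm {q : G} (hq : q ∈ J S.XZ 2 8) {s : F} (hs : s ≠ 0) (hc : q * S.o 2 s = S.o 2 s * q) : q ∈ S.NO :=
  S.mem_NO_iff.2 (S.form_of_comm hq hs hc)

theorem LO_le_cent : S.LO ≤ Subgroup.centralizer (S.XZ 5 : Set G) := by
  refine sup_le ?_ ?_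
  · intro x hx
    rw [S.mem_centralizer_X5]
    intro s
    obtain ⟨t, rfl⟩ := S.X1 hx
    exact S.o_o2 0 t s
  · intro x hx
    rw [S.mem_centralizer_X5]
    intro s
    obtain ⟨t, rfl⟩ := S.X9 hx
    exact (S.o_o2 2 s t).symm

theorem LO_le_J : S.LO ≤ J S.XZ 1 9 := sup_le (X_le_J (by norm_num) (by norm_num)) (X_le_J (by norm_num) (by norm_num))

theorem HO_le_cent : S.HO ≤ Subgroup.centralizer (S.XZ 5 : Set G) := sup_le S.LO_le_cent inf_le_right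

/-- `⟨X_1, …, X_9⟩ = LO ⟨X_2, …, X_8⟩` -/
theorem J19_split {y : G} (hy : y ∈ J S.XZ 1 9) : ∃ l ∈ S.LO, ∃ q ∈ J S.XZ 2 8, y = l * q := by
  have Z8 := S.zsys8
  refine mem_sup_of_norm (A := S.LO) (B := J S.XZ 2 8) (fun l hl q hq => ?_) ?_
  · exact Z8.conj_J (a := 2) (b := 8) (c := 1) (d := 9) (by norm_num) (by norm_num) (by norm_num) (S.LO_le_J hl) hq
  · have : J S.XZ 1 9 ≤ S.LO ⊔ J S.XZ 2 8 := by
      refine J_le fun k h1 h2 x hx => ?_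
      rcases lt_or_ge 1 k with h3 | h3
      · rcases lt_or_ge k 9 with h4 | h4
        · exact Subgroup.mem_sup_right (mem_J hx (by omega) (by omega))
        · rw [show k = 9 by omega] at hx
          exact Subgroup.mem_sup_left (Subgroup.mem_sup_right hx)
      · rw [show k = 1 by omega] at hx
        exact Subgroup.mem_sup_left (Subgroup.mem_sup_left hx)
    exact this hy

theorem n1_mem_LO : S.n1 ∈ S.LO := by
  rw [S.n1_word]
  exact mul_mem (mul_mem (Subgroup.mem_sup_left (S.mX1 1)) (Subgroup.mem_sup_right (S.mX9 1))) (Subgroup.mem_sup_left (S.mX1 1))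

/-- an element `v x`, `v ∈ W46`, `1 ≠ x ∈ X_5`, lies in no other `⟨X_{m-1}, X_m, X_{m+1}⟩`, `m` odd -/
theorem no_meet {v x : G} (hv : v ∈ S.W46) (hx : x ∈ S.XZ 5) (hx1 : x ≠ 1) {c : ℤ} (h1 : -3 ≤ c) (h2 : c ≤ 4)
    (h : v * x ∈ J S.XZ (2 * c + 4) (2 * c + 6)) : c = 0 := by
  have Z8 := S.zsys8
  have hv6 : v ∈ J S.XZ 4 6 := S.W46_le hv
  have hy : v * x ∈ J S.XZ 4 6 := mul_mem hv6 (mem_J hx (by norm_num) (by norm_num))
  have hne : v * x ≠ 1 := by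
    intro h0
    have : x ∈ S.W46 := by
      have e : x = v⁻¹ := (inv_eq_of_mul_eq_one_right h0).symm
      rw [e]; exact inv_mem hv
    exact hx1 (S.W46_inf this hx)
  obtain ⟨s, rfl⟩ := S.X5 hx
  have c5 : (v * S.o 2 s) * S.o 2 1 = S.o 2 1 * (v * S.o 2 s) := by
    have a1 : S.o 2 1 * v = v * S.o 2 1 := S.W46_comm (mem_J (S.mX5 1) (by norm_num) (by norm_num)) hv
    have a2 : S.o 2 s * S.o 2 1 = S.o 2 1 * S.o 2 s := by rw [S.o_add, S.o_add, add_comm]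
    rw [mul_assoc, a2, ← mul_assoc, ← a1, mul_assoc]
  have c7 : (v * S.o 2 s) * S.o 3 1 = S.o 3 1 * (v * S.o 2 s) := by
    have a1 : S.o 3 1 * v = v * S.o 3 1 := S.W46_comm (mem_J (S.mX7 1) (by norm_num) (by norm_num)) hv
    have a2 : S.o 2 s * S.o 3 1 = S.o 3 1 * S.o 2 s := S.o_o1 2 s 1
    rw [mul_assoc, a2, ← mul_assoc, ← a1, mul_assoc]
  have n5 : S.o 2 1 ≠ 1 := fun h => one_ne_zero (S.o_eq_one h)
  have n7 : S.o 3 1 ≠ 1 := fun h => one_ne_zero (S.o_eq_one h)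
  by_contra hc
  apply hne
  interval_cases c
  · -- `J (-2) 0`
    have h3 := Z8.comm_bot (k := 5) (a := -2) (r := 4) (by norm_num) (by norm_num) (S.mX5 1) n5
      (J_mono (by norm_num) (by norm_num) h) c5
    exact Z8.inter_one (-2) h h3 (by norm_num) (by norm_num) (by norm_num) (by norm_num) (Or.inl (by norm_num))
  · exact Z8.inter_one 0 h hy (by norm_num) (by norm_num) (by norm_num) (by norm_num) (Or.inl (by norm_num))
  · -- `J 2 4`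
    exfalso
    have h3 : v * S.o 2 s ∈ S.XZ 4 := by
      have := Z8.inter_J 2 h hy (e := 4) (f := 4) (by norm_num) (by norm_num) (by norm_num) (by norm_num)
        (Or.inr le_rfl) (Or.inl (by norm_num))
      exact mem_of_J_self this le_rfl
    obtain ⟨u, w, rfl⟩ := hv
    have h4 : S.e 3 0 w * S.o 2 s ∈ S.XZ 4 := by
      have e : S.e 3 0 w * S.o 2 s = (S.e 2 0 u)⁻¹ * (S.e 2 0 u * S.e 3 0 w * S.o 2 s) := by group
      rw [e]; exact mul_mem (inv_mem (S.mX4 0 u)) h3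
    have h5 : S.e 3 0 w * S.o 2 s ∈ J S.XZ 5 6 :=
      mul_mem (mem_J (S.mX6 0 w) (by norm_num) (by norm_num)) (mem_J (S.mX5 s) (by norm_num) (by norm_num))
    have h6 := Z8.inter 4 _ h4 (J_mono (by norm_num) (by norm_num) h5)
    have h7 : S.o 2 s ∈ S.XZ 6 := by
      have e : S.o 2 s = (S.e 3 0 w)⁻¹ := (inv_eq_of_mul_eq_one_right h6).symm
      rw [e]; exact inv_mem (S.mX6 0 w)
    exact hx1 (S.X_inf_near (i := 5) (j := 6) (by norm_num) (by norm_num) hx h7)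
  · exact absurd rfl hc
  · -- `J 6 8`
    exfalso
    have h3 : v * S.o 2 s ∈ S.XZ 6 := by
      have := Z8.inter_J 4 h hy (e := 6) (f := 6) (by norm_num) (by norm_num) (by norm_num) (by norm_num)
        (Or.inl (by norm_num)) (Or.inr le_rfl)
      exact mem_of_J_self this le_rfl
    obtain ⟨u, w, rfl⟩ := hv
    have h4 : S.e 2 0 u * S.o 2 s ∈ S.XZ 6 := by
      have r : S.o 2 s * S.e 3 0 w = S.e 3 0 w * S.o 2 s := S.o_e1 2 s 0 w
      have e : S.e 2 0 u * S.o 2 s = (S.e 2 0 u * S.e 3 0 w * S.o 2 s) * (S.e 3 0 w)⁻¹ := by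
        rw [mul_assoc (S.e 2 0 u), ← r]; group
      rw [e]; exact mul_mem h3 (inv_mem (S.mX6 0 w))
    have h5 : S.e 2 0 u * S.o 2 s ∈ J S.XZ 4 5 :=
      mul_mem (mem_J (S.mX4 0 u) (by norm_num) (by norm_num)) (mem_J (S.mX5 s) (by norm_num) (by norm_num))
    have h6 := Z8.inter' (k := 6) h4 (J_mono (by norm_num) (by norm_num) h5)
    have h7 : S.o 2 s ∈ S.XZ 4 := by
      have e : S.o 2 s = (S.e 2 0 u)⁻¹ := (inv_eq_of_mul_eq_one_right h6).symm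
      rw [e]; exact inv_mem (S.mX4 0 u)
    exact hx1 (S.X_inf_near (i := 4) (j := 5) (by norm_num) (by norm_num) h7 hx)
  · exact Z8.inter_one 4 hy h (by norm_num) (by norm_num) (by norm_num) (by norm_num) (Or.inl (by norm_num))
  · -- `J 10 12`
    have h3 := Z8.comm_top (k := 5) (b := 12) (r := 4) (by norm_num) (by norm_num) (S.mX5 1) n5
      (J_mono (by norm_num) (by norm_num) h) c5
    exact Z8.inter_one 5 h3 h (by norm_num) (by norm_num) (by norm_num) (by norm_num) (Or.inl (by norm_num))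
  · -- `J 12 14`
    have h3 := Z8.comm_top (k := 7) (b := 14) (r := 4) (by norm_num) (by norm_num) (S.mX7 1) n7
      (J_mono (by norm_num) (by norm_num) h) c7
    exact Z8.inter_one 7 h3 h (by norm_num) (by norm_num) (by norm_num) (by norm_num) (Or.inl (by norm_num))

theorem map_add {w : G} {c : ℤ} (h : Maps S.R.X w (fun k => ((2 * c : ℤ) : ZMod (2 * 8)) + k)) {a b : ℤ} {x : G}
    (hx : x ∈ J S.XZ a b) : w * x * w⁻¹ ∈ J S.XZ (2 * c + a) (2 * c + b) := by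
  have : J S.XZ a b ≤ (J S.XZ (2 * c + a) (2 * c + b)).comap (MulAut.conj w).toMonoidHom := by
    refine J_le fun k h1 h2 y hy => ?_
    refine mem_J (k := 2 * c + k) ?_ (by omega) (by omega)
    have := (h (k : ZMod (2 * 8)) y).2 hy
    show w * y * w⁻¹ ∈ S.R.X _
    rw [Int.cast_add]; exact this
  exact this hx

theorem map_sub {w : G} {c : ℤ} (h : Maps S.R.X w (fun k => ((2 * c : ℤ) : ZMod (2 * 8)) - k)) {a b : ℤ} {x : G}
    (hx : x ∈ J S.XZ a b) : w * x * w⁻¹ ∈ J S.XZ (2 * c - b) (2 * c - a) := by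
  have : J S.XZ a b ≤ (J S.XZ (2 * c - b) (2 * c - a)).comap (MulAut.conj w).toMonoidHom := by
    refine J_le fun k h1 h2 y hy => ?_
    refine mem_J (k := 2 * c - k) ?_ (by omega) (by omega)
    have := (h (k : ZMod (2 * 8)) y).2 hy
    show w * y * w⁻¹ ∈ S.R.X _
    rw [Int.cast_sub]; exact this
  exact this hx

/-- reduction of the translation part modulo 8 -/
theorem reduce (c lo : ℤ) : ∃ c' : ℤ, lo ≤ c' ∧ c' < lo + 8 ∧ ((2 * c : ℤ) : ZMod (2 * 8)) = ((2 * c' : ℤ) : ZMod (2 * 8)) := by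
  refine ⟨lo + (c - lo) % 8, by omega, by omega, ?_⟩
  rw [ZMod.intCast_eq_intCast_iff]
  show (2 * c) % ((2 * 8 : ℕ) : ℤ) = (2 * (lo + (c - lo) % 8)) % ((2 * 8 : ℕ) : ℤ)
  push_cast
  omega

/-- elements of the Weyl group fixing the centre `5` -/
theorem dih_five {w : G} (hw : S.IsDihE w) {y v x : G} (hy : y ∈ J S.XZ 4 6) (hv : v ∈ S.W46) (hx : x ∈ S.XZ 5) (hx1 : x ≠ 1)
    (h : w * y * w⁻¹ = v * x) : w ∈ S.T ∨ w * S.n1 ∈ S.T := by
  obtain ⟨c, hc | hc⟩ := hw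
  · obtain ⟨c', h1, h2, h3⟩ := reduce c (-3)
    rw [h3] at hc
    have h4 := S.map_add hc hy
    rw [h] at h4
    have h5 := S.no_meet hv hx hx1 (c := c') h1 (by omega) h4
    left
    show Maps S.R.X w id
    exact hc.congr fun k => by rw [h5, mul_zero, Int.cast_zero, zero_add]; rfl
  · obtain ⟨c', h1, h2, h3⟩ := reduce c 2
    rw [h3] at hc
    have h4 := S.map_sub hc hy
    rw [h] at h4
    have h5 := S.no_meet hv hx hx1 (c := c' - 5) (by omega) (by omega) (J_mono (by omega) (by omega) h4)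
    right
    have h6 : c' = 5 := by omega
    show Maps S.R.X (w * S.n1) id
    exact (hc.mul S.n1_maps).congr fun k => by
      show ((2 * c' : ℤ) : ZMod (2 * 8)) - (10 - k) = k
      rw [h6]
      exact sub_sub_cancel 10 k

/-- an element conjugating a non-trivial element of `X_5 W46` into `X_5 W46` lies in the parabolic subgroup -/
theorem parab_of_conj {g v x v' x' : G} (hv : v ∈ S.W46) (hx : x ∈ S.XZ 5) (hv' : v' ∈ S.W46) (hx' : x' ∈ S.XZ 5)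
    (hx1' : x' ≠ 1) (h : g * (v * x) * g⁻¹ = v' * x') : ∃ y ∈ J S.XZ 1 9, ∃ t ∈ S.T, g = y * t := by
  obtain ⟨b, hb, t, ht, w, hw, b', hb', rfl⟩ := S.bruhatE g
  have hb9 : b ∈ J S.XZ 1 9 := J_mono le_rfl (by norm_num) hb
  have hb9' : b' ∈ J S.XZ 1 9 := J_mono le_rfl (by norm_num) hb'
  -- `b' (v x) b'⁻¹ ∈ J 4 6`
  have h1 : b' * (v * x) * b'⁻¹ ∈ J S.XZ 4 6 := by
    have e : b' * (v * x) * b'⁻¹ = (b' * v * b'⁻¹) * (b' * x * b'⁻¹ * x⁻¹) * x := by group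
    rw [e]
    exact mul_mem (S.W46_le (mul_mem (S.W46_conj hb9' hv) (S.comm_five hb9' hx))) (mem_J hx (by norm_num) (by norm_num))
  -- `(b t)⁻¹ (v' x') (b t)`
  have hbi := inv_mem hb9
  have h2 : w * (b' * (v * x) * b'⁻¹) * w⁻¹ =
      (t⁻¹ * ((b⁻¹ * v' * b⁻¹⁻¹) * (b⁻¹ * x' * b⁻¹⁻¹ * x'⁻¹)) * t) * (t⁻¹ * x' * t) := by
    calc w * (b' * (v * x) * b'⁻¹) * w⁻¹ = t⁻¹ * b⁻¹ * ((b * t * w * b') * (v * x) * (b * t * w * b')⁻¹) * b * t := by group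
      _ = _ := by rw [h]; group
  have h3 : t⁻¹ * ((b⁻¹ * v' * b⁻¹⁻¹) * (b⁻¹ * x' * b⁻¹⁻¹ * x'⁻¹)) * t ∈ S.W46 := by
    have := S.T_conj_W46 (inv_mem ht) (mul_mem (S.W46_conj hbi hv') (S.comm_five hbi hx'))
    rwa [inv_inv t] at this
  have h4 : t⁻¹ * x' * t ∈ S.XZ 5 := S.T_conj' ht 5 hx'
  have h5 : t⁻¹ * x' * t ≠ 1 := by
    intro h0
    apply hx1'
    have : x' = t * (t⁻¹ * x' * t) * t⁻¹ := by group
    rw [this, h0]; group
  rcases S.dih_five hw h1 h3 h4 h5 h2 with hT | hT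
  · refine ⟨b * (t * w * b' * (t * w)⁻¹), mul_mem hb9 ?_, t * w, mul_mem ht hT, by group⟩
    exact S.T_conj_J (mul_mem ht hT) hb9'
  · have hn : S.n1 ∈ J S.XZ 1 9 := S.LO_le_J S.n1_mem_LO
    have e4 : b * t * w * b' = b * ((t * (w * S.n1)) * (S.n1 * b') * (t * (w * S.n1))⁻¹) * (t * (w * S.n1)) := by
      calc b * t * w * b' = b * (t * (w * (S.n1 * S.n1))) * b' := by rw [S.n1_sq, mul_one]; group
        _ = _ := by group
    refine ⟨b * ((t * (w * S.n1)) * (S.n1 * b') * (t * (w * S.n1))⁻¹), mul_mem hb9 ?_, t * (w * S.n1), mul_mem ht hT, e4⟩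
    exact S.T_conj_J (mul_mem ht hT) (mul_mem hn hb9')

/-! ### the torus -/

/-- an element of the torus is determined by its action -/
theorem T_eq {g : G} (hg : g ∈ S.T) {c d : Fˣ} (h0 : g * S.e 0 1 0 * g⁻¹ = S.e 0 c 0) (h1 : g * S.e 1 1 0 * g⁻¹ = S.e 1 d 0) :
    g = S.h c d := by
  obtain ⟨c', d', rfl⟩ := S.mem_T.1 hg
  rw [S.h_e, mul_zero, mul_one, chE_zero] at h0
  rw [S.h_e, mul_zero, mul_one, chE_one] at h1
  have k0 : c' = c := Units.ext (S.injE 0 _ _ _ _ h0).1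
  have k1 : d' = d := Units.ext (S.injE 1 _ _ _ _ h1).1
  rw [k0, k1]

theorem n1_e' (a : ZMod 8) (p u : F) : S.n1⁻¹ * S.e a p u * S.n1 = S.e (5 - a) p u := by
  have h := S.n1_e (5 - a) p u
  rw [sub_sub_cancel] at h
  rw [← h]; group

theorem n2_e' (a : ZMod 8) (p u : F) : S.n2⁻¹ * S.e a p u * S.n2 = S.e (4 - a) p u := by
  have h := S.n2_e (4 - a) p u
  rw [sub_sub_cancel] at h
  rw [← h]; group

theorem n1_T {t : G} (ht : t ∈ S.T) : S.n1 * t * S.n1⁻¹ ∈ S.T := by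
  have hi : S.n1⁻¹ = S.n1 := inv_eq_of_mul_eq_one_left S.n1_sq
  show Maps S.R.X (S.n1 * t * S.n1⁻¹) id
  rw [hi]
  have h1 := (S.n1_maps.mul ht).mul S.n1_maps
  exact h1.congr fun k => by
    show 10 - (10 - k) = k
    exact sub_sub_cancel 10 k

/-- conjugation by `n1` on the torus -/
theorem n1_h (c d : Fˣ) : S.n1 * S.h c d * S.n1⁻¹ = S.h d⁻¹ c⁻¹ := by
  have ht : S.h c d ∈ S.T := S.mem_T.2 ⟨c, d, rfl⟩
  have key : ∀ a, (S.n1 * S.h c d * S.n1⁻¹) * S.e a 1 0 * (S.n1 * S.h c d * S.n1⁻¹)⁻¹ =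
      S.e a (chE σ (5 - a) c d : F) 0 := by
    intro a
    have e : (S.n1 * S.h c d * S.n1⁻¹) * S.e a 1 0 * (S.n1 * S.h c d * S.n1⁻¹)⁻¹ =
        S.n1 * (S.h c d * (S.n1⁻¹ * S.e a 1 0 * S.n1) * (S.h c d)⁻¹) * S.n1⁻¹ := by group
    rw [e, S.n1_e', S.h_e, S.n1_e, sub_sub_cancel, mul_one, mul_zero]
  exact S.T_eq (S.n1_T ht) (key 0) (key 1)

/-- the torus of `LO` -/
theorem h_mem_LO (c : Fˣ) : S.h c c ∈ S.LO := by
  -- `LO` is normalised by the torus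
  have hn : ∀ t ∈ S.T, ∀ x ∈ S.LO, t * x * t⁻¹ ∈ S.LO := by
    intro t ht x hx
    have : S.LO ≤ S.LO.comap (MulAut.conj t).toMonoidHom :=
      sup_le (fun y hy => Subgroup.mem_sup_left (S.T_conj ht 1 hy)) (fun y hy => Subgroup.mem_sup_right (S.T_conj ht 9 hy))
    exact this hx
  have h1 := mul_mem (hn _ (S.mem_T.2 ⟨c, 1, rfl⟩) _ S.n1_mem_LO) (inv_mem S.n1_mem_LO)
  have e : S.h c 1 * S.n1 * (S.h c 1)⁻¹ * S.n1⁻¹ = S.h c 1 * (S.n1 * (S.h c 1)⁻¹ * S.n1⁻¹) := by group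
  rw [e, S.h_inv, S.n1_h, S.h_mul] at h1
  simpa using h1

theorem T_conj_LO {t x : G} (ht : t ∈ S.T) (hx : x ∈ S.LO) : t * x * t⁻¹ ∈ S.LO := by
  have : S.LO ≤ S.LO.comap (MulAut.conj t).toMonoidHom :=
    sup_le (fun y hy => Subgroup.mem_sup_left (S.T_conj ht 1 hy)) (fun y hy => Subgroup.mem_sup_right (S.T_conj ht 9 hy))
  exact this hx

/-- elements of the torus that centralise a non-trivial element of `X_5` -/
theorem T_five {t : G} (ht : t ∈ S.T) {s : F} (hs : s ≠ 0) (h : t * S.o 2 s * t⁻¹ = S.o 2 s) : t ∈ S.LO := by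
  obtain ⟨c, d, rfl⟩ := S.mem_T.1 ht
  rw [S.h_o] at h
  have h1 : (chO σ 2 c d : F) = 1 := by
    have := S.injO 2 h
    exact mul_right_cancel₀ hs (this.trans (one_mul s).symm)
  have h2 : Units.map (σ : F →* F) d / c * (d / Units.map (σ : F →* F) c) = 1 := Units.ext h1
  have h3 : (d / c) * Units.map (σ : F →* F) (d / c) = 1 := by
    rw [map_div, ← h2, div_mul_div_comm, div_mul_div_comm, mul_comm d]
  have h4 : d = c := div_eq_one.1 (S.unit_eq_one h3)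
  rw [h4]
  exact S.h_mem_LO c

/-- **the centraliser of a short root element** -/
theorem centralizer_o {s : F} (hs : s ≠ 0) : Subgroup.centralizer {S.o 2 s} = S.HO := by
  have hs1 : S.o 2 s ≠ 1 := fun h => hs (S.o_eq_one h)
  apply le_antisymm
  · intro g hg
    rw [Subgroup.mem_centralizer_singleton_iff] at hg
    have h1 : g * (1 * S.o 2 s) * g⁻¹ = 1 * S.o 2 s := by rw [one_mul, hg, mul_inv_cancel_right]
    obtain ⟨y, hy, t, ht, rfl⟩ := S.parab_of_conj (one_mem _) (S.mX5 s) (one_mem _) (S.mX5 s) hs1 h1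
    rw [one_mul] at h1
    -- `t` centralises `x`
    have hx' : t * S.o 2 s * t⁻¹ ∈ S.XZ 5 := S.T_conj ht 5 (S.mX5 s)
    have h2 := S.comm_five hy hx'
    have h3 : y * (t * S.o 2 s * t⁻¹) * y⁻¹ = S.o 2 s := by
      calc y * (t * S.o 2 s * t⁻¹) * y⁻¹ = (y * t) * S.o 2 s * (y * t)⁻¹ := by group
        _ = _ := h1
    rw [h3] at h2
    have h4 := S.W46_inf h2 (mul_mem (S.mX5 s) (inv_mem hx'))
    have h5 : t * S.o 2 s * t⁻¹ = S.o 2 s := (mul_inv_eq_one.1 h4).symm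
    rw [h5] at h3
    refine mul_mem ?_ (Subgroup.mem_sup_left (S.T_five ht hs h5))
    obtain ⟨l, hl, q, hq, rfl⟩ := S.J19_split hy
    refine mul_mem (Subgroup.mem_sup_left hl) (Subgroup.mem_sup_right (S.mem_NO_of_comm hq hs ?_))
    have hl2 := S.mem_centralizer_X5.1 (S.LO_le_cent hl) s
    have h6 : l * (q * S.o 2 s) = l * (S.o 2 s * q) := by
      calc l * (q * S.o 2 s) = (l * q * S.o 2 s * (l * q)⁻¹) * (l * q) := by group
        _ = S.o 2 s * l * q := by rw [h3]; group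
        _ = _ := by rw [← hl2]; group
    exact mul_left_cancel h6
  · intro g hg
    rw [Subgroup.mem_centralizer_singleton_iff]
    exact S.mem_centralizer_X5.1 (S.HO_le_cent hg) s

theorem centralizer_X5 : Subgroup.centralizer (S.XZ 5 : Set G) = S.HO := by
  apply le_antisymm _ S.HO_le_cent
  rw [← S.centralizer_o (one_ne_zero (α := F))]
  exact Subgroup.centralizer_le (Set.singleton_subset_iff.2 (S.mX5 1))

/-- long and short root elements are not conjugate -/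
theorem not_conj {z : G} (hz : z ∈ S.Zc 2) {s : F} (hs : s ≠ 0) (g : G) : g * z * g⁻¹ ≠ S.o 2 s := by
  intro h
  have hs1 : S.o 2 s ≠ 1 := fun h => hs (S.o_eq_one h)
  obtain ⟨b, hb, t, ht, w, hw, b', hb', rfl⟩ := S.bruhatE g
  have e1 : b' * z * b'⁻¹ = z := by
    rw [S.comm_PL (J_mono (by norm_num) le_rfl hb') hz]; group
  have hbi : b⁻¹ ∈ J S.XZ 1 9 := inv_mem (J_mono le_rfl (by norm_num) hb)
  have h2 : w * z * w⁻¹ = (t⁻¹ * (b⁻¹ * S.o 2 s * b⁻¹⁻¹ * (S.o 2 s)⁻¹) * t) * (t⁻¹ * S.o 2 s * t) := by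
    calc w * z * w⁻¹ = w * (b' * z * b'⁻¹) * w⁻¹ := by rw [e1]
      _ = t⁻¹ * b⁻¹ * ((b * t * w * b') * z * (b * t * w * b')⁻¹) * b * t := by group
      _ = _ := by rw [h]; group
  have h3 : t⁻¹ * (b⁻¹ * S.o 2 s * b⁻¹⁻¹ * (S.o 2 s)⁻¹) * t ∈ S.W46 := by
    have := S.T_conj_W46 (inv_mem ht) (S.comm_five hbi (S.mX5 s))
    rwa [inv_inv t] at this
  have h4 : t⁻¹ * S.o 2 s * t ∈ S.XZ 5 := S.T_conj' ht 5 (S.mX5 s)
  have h5 : t⁻¹ * S.o 2 s * t ≠ 1 := by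
    intro h0
    apply hs1
    have : S.o 2 s = t * (t⁻¹ * S.o 2 s * t) * t⁻¹ := by group
    rw [this, h0]; group
  have hz4 : z ∈ J S.XZ 4 4 := mem_J (S.Zc_le 2 hz) (by norm_num) (by norm_num)
  have key : ∃ m : ℤ, -1 ≤ m ∧ m < 7 ∧ w * z * w⁻¹ ∈ J S.XZ (2 * m) (2 * m) := by
    obtain ⟨c, hc | hc⟩ := hw
    · obtain ⟨c', h6, h7, h8⟩ := reduce c (-3)
      rw [h8] at hc
      have h9 := S.map_add hc hz4
      exact ⟨c' + 2, by omega, by omega, J_mono (by omega) (by omega) h9⟩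
    · obtain ⟨c', h6, h7, h8⟩ := reduce c 1
      rw [h8] at hc
      have h9 := S.map_sub hc hz4
      exact ⟨c' - 2, by omega, by omega, J_mono (by omega) (by omega) h9⟩
  obtain ⟨m, hm1, hm2, hm⟩ := key
  rw [h2] at hm
  have k1 := S.no_meet h3 h4 h5 (c := m - 2) (by omega) (by omega) (J_mono (by omega) (by omega) hm)
  have k2 := S.no_meet h3 h4 h5 (c := m - 3) (by omega) (by omega) (J_mono (by omega) (by omega) hm)
  omega

end Full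

end Cfsg.Agent.KFacts.TwF4
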