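import Cfsg.Agent.KFacts.TwF4.CentQ

/-!
# More centralisers in a group of type `²F₄`

`M_5 = W46 = Z_4 Z_6`, `J_5 = V5 = Z_4 X_5 Z_6`, `Q_5 = ⟨X_2, …, X_8⟩`, `B0_5 = NO`.

* `centralizer_W46 : C(Z_4 Z_6) = ⟨X_2, …, X_8⟩`;
* `centralizer_V5 : C(Z_4 X_5 Z_6) = NO`;
* `centralizer_J28 : C(⟨X_2, …, X_8⟩) = Z_4 Z_6`;
* `centralizer_J26 : C(⟨X_2, …, X_6⟩) = Z_2 Z_4 Z_6`.
-/

set_option autoImplicit false
set_option linter.unusedSectionVars false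

namespace Cfsg.Agent.KFacts.TwF4

open Cfsg.Agent.SplitTwo Cfsg.Agent.SplitTwo.ZS Cfsg.Agent.TitsThree.RankTwoZ Cfsg.Agent.TitsThree.RankTwoRGD
open Cfsg.Agent.SplitTwo.RootSysZ
open scoped commutatorElement

universe u

variable {F : Type*} [Field F] {σ : F →+* F} {G : Type u} [Group G] (S : Full σ G)

namespace Full

theorem e_mul_Zc {a : ZMod 8} {u v : F} : S.e a 0 u * S.e a 0 v = S.e a 0 (u + v) := by
  rw [S.e_mul, zero_mul, add_zero, add_zero]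

/-- **`C(Z_4 Z_6) = ⟨X_2, …, X_8⟩`** -/
theorem centralizer_W46 : Subgroup.centralizer (S.W46 : Set G) = J S.XZ 2 8 := by
  have Z8 := S.zsys8
  apply le_antisymm
  · intro g hg
    rw [Subgroup.mem_centralizer_iff] at hg
    have hg' : ∀ x ∈ S.W46, g * x = x * g := fun x hx => (hg x hx).symm
    have hz : S.e 2 0 1 ∈ S.Zc 2 := ⟨1, rfl⟩
    have hz1 : S.e 2 0 1 ≠ 1 := fun h => one_ne_zero (S.e_eq_one h).2
    have h1 : g * S.e 2 0 1 * g⁻¹ ∈ S.Zc 2 := by rw [hg' _ (S.Z4_W46 1), mul_inv_cancel_right]; exact hz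
    obtain ⟨b, hb, t, ht, rfl | ⟨b', hb', rfl⟩⟩ := S.form_of_conj hz hz1 h1
    · have hbP : b⁻¹ ∈ S.PL := inv_mem (J_mono (by norm_num) le_rfl hb)
      have key : ∀ x ∈ S.W46, t * x * t⁻¹ = b⁻¹ * x * b := by
        intro x hx
        have h2 := hg' x hx
        calc t * x * t⁻¹ = b⁻¹ * ((b * t) * x) * t⁻¹ := by group
          _ = _ := by rw [h2]; group
      have k4 : t * S.e 2 0 1 * t⁻¹ = S.e 2 0 1 := by
        rw [key _ (S.Z4_W46 1), S.comm_PL hbP hz, inv_mul_cancel_right]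
      obtain ⟨v, hv⟩ := S.comm_Z6' (inv_mem hb) 1
      rw [inv_inv, ← key _ (S.Z6_W46 1)] at hv
      have k6' : t * S.e 3 0 1 * t⁻¹ * (S.e 3 0 1)⁻¹ = S.e 2 0 v := by rw [hv, mul_inv_cancel_right]
      have k6'' : S.e 2 0 v = 1 := S.X_inf_near (i := 4) (j := 6) (by norm_num) (by norm_num) (S.mX4 0 v)
        (by rw [← k6']; exact mul_mem (S.T_conj ht 6 (S.mX6 0 1)) (inv_mem (S.mX6 0 1)))
      have k6 : t * S.e 3 0 1 * t⁻¹ = S.e 3 0 1 := by rw [hv, k6'', one_mul]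
      obtain ⟨c, d, rfl⟩ := S.mem_T.1 ht
      rw [S.h_e, mul_zero, mul_one] at k4 k6
      have c4 : chE σ 2 c d = 1 := S.unit_eq_one (Units.ext (S.injE 2 _ _ _ _ k4).2)
      have c6 : chE σ 3 c d = 1 := S.unit_eq_one (Units.ext (S.injE 3 _ _ _ _ k6).2)
      rw [chE_two, div_eq_one] at c4
      rw [chE_three, div_eq_one] at c6
      have hc : c = 1 := by
        rw [c6, map_map σ S.sq, pow_two] at c4
        exact mul_eq_left.1 c4
      have hd : d = 1 := by rw [c6, hc, map_one]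
      rw [hc, hd, S.h_one, mul_one] at hg'
      rw [hc, hd, S.h_one, mul_one]
      -- the `X_1`-part
      obtain ⟨x, hx, y, hy, rfl⟩ := Z8.split_ll (a := 1) (b := 8) (by norm_num) (by norm_num) hb
      obtain ⟨s, rfl⟩ := S.X1 hx
      have h2 := hg' _ (S.Z6_W46 1)
      have h3 : y * S.e 3 0 1 = S.e 3 0 1 * y := S.W46_comm hy (S.Z6_W46 1)
      have r1 : S.o 0 s * S.e 3 0 1 = S.e 3 0 1 * S.o 0 s * S.e 1 0 (σ s * 0) * S.o 1 (s * σ 0) *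
          S.e 2 0 (s * 0 * σ 0 + s * 1) := S.o_e3 0 s 0 1
      rw [map_zero, mul_zero, mul_zero, mul_zero, zero_add, S.o_zero, S.e_zero, mul_one, mul_one, mul_one] at r1
      have e1 : S.o 0 s * y * S.e 3 0 1 = (S.o 0 s * S.e 3 0 1) * y := by
        rw [mul_assoc, h3]; group
      rw [e1, ← mul_assoc (S.e 3 0 1)] at h2
      have h4 := mul_right_cancel h2
      rw [r1] at h4
      have h5 : S.e 2 0 s = 1 := mul_eq_left.1 h4
      have hs := (S.e_eq_one h5).2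
      rw [hs, S.o_zero, one_mul]
      exact hy
    · exfalso
      have h2 := hg' _ (S.Z6_W46 1)
      obtain ⟨v, hv⟩ := S.comm_Z6' hb' 1
      obtain ⟨w, hw⟩ := S.comm_Z6' (inv_mem hb) 1
      have h3 : (t * S.n2) * (b' * S.e 3 0 1 * b'⁻¹) * (t * S.n2)⁻¹ = b⁻¹ * S.e 3 0 1 * b⁻¹⁻¹ := by
        calc (t * S.n2) * (b' * S.e 3 0 1 * b'⁻¹) * (t * S.n2)⁻¹ =
            b⁻¹ * ((b * (t * S.n2) * b') * S.e 3 0 1) * (b * (t * S.n2) * b')⁻¹ * b := by group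
          _ = _ := by rw [h2]; group
      rw [hv, hw] at h3
      have h4 : (t * S.n2) * (S.e 2 0 v * S.e 3 0 1) * (t * S.n2)⁻¹ =
          (t * (S.n2 * S.e 2 0 v * S.n2⁻¹) * t⁻¹) * (t * (S.n2 * S.e 3 0 1 * S.n2⁻¹) * t⁻¹) := by group
      rw [h4, S.n2_e, S.n2_e] at h3
      have m4 : t * S.e (4 - 2) 0 v * t⁻¹ ∈ S.XZ 4 := S.T_conj ht 4 (S.mX4 0 v)
      have m2 : t * S.e (4 - 3) 0 1 * t⁻¹ ∈ S.XZ 2 := S.T_conj ht 2 (S.mX2 0 1)
      have h5 : t * S.e (4 - 3) 0 1 * t⁻¹ ∈ J S.XZ 4 6 := by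
        have e1 : t * S.e (4 - 3) 0 1 * t⁻¹ = (t * S.e (4 - 2) 0 v * t⁻¹)⁻¹ * (S.e 2 0 w * S.e 3 0 1) := by
          rw [← h3]; group
        rw [e1]
        exact mul_mem (inv_mem (mem_J m4 (by norm_num) (by norm_num)))
          (mul_mem (mem_J (S.mX4 0 w) (by norm_num) (by norm_num)) (mem_J (S.mX6 0 1) (by norm_num) (by norm_num)))
      have h6 := Z8.inter 2 _ m2 (J_mono (by norm_num) (by norm_num) h5)
      have h7 : S.e (4 - 3) 0 1 = 1 := by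
        have e1 : S.e (4 - 3) 0 1 = t⁻¹ * (t * S.e (4 - 3) 0 1 * t⁻¹) * t := by group
        rw [e1, h6]; group
      exact one_ne_zero (S.e_eq_one h7).2
  · intro g hg
    rw [Subgroup.mem_centralizer_iff]
    intro x hx
    exact (S.W46_comm hg hx).symm

/-- **`C(Z_4 X_5 Z_6) = NO`** -/
theorem centralizer_V5 : Subgroup.centralizer (S.V5 : Set G) = S.NO := by
  apply le_antisymm
  · intro g hg
    refine ⟨?_, ?_⟩
    · show g ∈ J S.XZ 2 8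
      rw [← S.centralizer_W46]
      exact Subgroup.centralizer_le (fun x hx => Subgroup.mem_sup_left hx) hg
    · exact Subgroup.centralizer_le (fun x hx => Subgroup.mem_sup_right hx) hg
  · intro g hg
    rw [Subgroup.mem_centralizer_iff]
    intro x hx
    have h := S.centralizer_NO
    have h2 : x ∈ Subgroup.centralizer (S.NO : Set G) := by rw [h]; exact hx
    exact (Subgroup.mem_centralizer_iff.1 h2 g hg).symm

/-- **`C(⟨X_2, …, X_8⟩) = Z_4 Z_6`** -/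
theorem centralizer_J28 : Subgroup.centralizer (J S.XZ 2 8 : Set G) = S.W46 := by
  apply le_antisymm
  · intro g hg
    have h1 : g ∈ S.V5 := by
      rw [← S.centralizer_NO]
      exact Subgroup.centralizer_le (fun x hx => hx.1) hg
    obtain ⟨u, s, v, rfl⟩ := S.mem_V5.1 h1
    rw [Subgroup.mem_centralizer_iff] at hg
    have h2 := hg _ (mem_J (S.mX2 1 0) (by norm_num) (by norm_num))
    have r1 : S.e 1 1 0 * S.o 2 s = S.o 2 s * S.e 1 1 0 * S.e 2 0 (1 * s) := S.e_o1 1 1 0 s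
    have r2 : S.e 1 1 0 * S.e 2 0 u = S.e 2 0 u * S.e 1 1 0 := S.comm_Z4 (k := 2) (by norm_num) (by norm_num) (S.mX2 1 0) u
    have r3 : S.e 1 1 0 * S.e 3 0 v = S.e 3 0 v * S.e 1 1 0 := S.comm_Z6 (k := 2) (by norm_num) (by norm_num) (S.mX2 1 0) v
    have e1 : S.e 1 1 0 * (S.e 2 0 u * S.o 2 s * S.e 3 0 v) = S.e 2 0 u * S.o 2 s * S.e 1 1 0 * S.e 2 0 (1 * s) * S.e 3 0 v := by
      calc S.e 1 1 0 * (S.e 2 0 u * S.o 2 s * S.e 3 0 v) = (S.e 1 1 0 * S.e 2 0 u) * S.o 2 s * S.e 3 0 v := by group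
        _ = S.e 2 0 u * (S.e 1 1 0 * S.o 2 s) * S.e 3 0 v := by rw [r2]; group
        _ = _ := by rw [r1]; group
    have e2 : S.e 2 0 u * S.o 2 s * S.e 3 0 v * S.e 1 1 0 = S.e 2 0 u * S.o 2 s * S.e 1 1 0 * S.e 3 0 v := by
      rw [mul_assoc (S.e 2 0 u * S.o 2 s), ← r3]; group
    rw [e1, e2] at h2
    have h3 := mul_right_cancel h2
    have h4 : S.e 2 0 (1 * s) = 1 := mul_eq_left.1 h3
    have hs := (S.e_eq_one h4).2
    rw [one_mul] at hs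
    subst hs
    rw [S.o_zero, mul_one]
    exact ⟨u, v, rfl⟩
  · intro g hg
    rw [Subgroup.mem_centralizer_iff]
    intro x hx
    exact S.W46_comm hx hg

/-- **`C(⟨X_2, …, X_6⟩) = Z_2 Z_4 Z_6`** -/
theorem centralizer_J26 {g : G} : (∀ x ∈ J S.XZ 2 6, g * x = x * g) ↔
    ∃ u v w, g = S.e 1 0 u * S.e 2 0 v * S.e 3 0 w := by
  have Z8 := S.zsys8
  constructor
  · intro hg
    have h1 : g ∈ S.Q1 := by
      rw [← S.centralizer_Q2, Subgroup.mem_centralizer_iff]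
      intro x hx
      exact (hg x (S.Q2_le_J hx)).symm
    obtain ⟨u, w, r, hr, rfl⟩ := S.form_Q1 (J_mono (by norm_num) (by norm_num) (S.Q1_le_J h1)) fun x hx =>
      hg x (S.Q2_le_J hx)
    obtain ⟨x3, hx3, r, hr1, rfl⟩ := Z8.split_ll (a := 3) (b := 5) (by norm_num) (by norm_num) hr
    obtain ⟨x4, hx4, x5, hx5, rfl⟩ := Z8.split_ll (a := 3 + 1) (b := 5) (by norm_num) (by norm_num) hr1
    have hx5' : x5 ∈ S.XZ 5 := mem_of_J_self hx5 (by norm_num)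
    obtain ⟨t, rfl⟩ := S.X3 hx3
    obtain ⟨p, v, rfl⟩ := S.X4 hx4
    obtain ⟨s, rfl⟩ := S.X5 hx5'
    -- commute with `X_2`
    have c2 := hg _ (mem_J (S.mX2 1 0) (by norm_num) (by norm_num))
    have q1 : S.e 1 1 0 * S.e 1 0 u = S.e 1 0 u * S.e 1 1 0 := by
      rw [S.e_mul, S.e_mul, map_zero, mul_zero, zero_mul, add_comm (1 : F), add_comm (0 : F) u]
    have q2 : S.e 1 1 0 * S.o 1 t = S.o 1 t * S.e 1 1 0 := S.e_o0 1 1 0 t
    have q3 : S.e 1 1 0 * S.e 2 p v = S.e 2 p v * S.e 1 1 0 * S.o 1 (1 * p) := S.e_e1 1 1 0 p v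
    have q4 : S.e 1 1 0 * S.o 2 s = S.o 2 s * S.e 1 1 0 * S.e 2 0 (1 * s) := S.e_o1 1 1 0 s
    have q5 : S.e 1 1 0 * S.e 3 0 w = S.e 3 0 w * S.e 1 1 0 := S.comm_Z6 (k := 2) (by norm_num) (by norm_num) (S.mX2 1 0) w
    have q6 : S.o 1 (1 * p) * S.o 2 s = S.o 2 s * S.o 1 (1 * p) := S.o_o1 1 _ s
    have e1 : S.e 1 1 0 * (S.e 1 0 u * (S.o 1 t * (S.e 2 p v * S.o 2 s)) * S.e 3 0 w) =
        S.e 1 0 u * S.o 1 t * S.e 2 p v * S.o 2 s * S.e 1 1 0 * (S.e 2 0 (1 * s) * S.o 1 (1 * p)) * S.e 3 0 w := by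
      calc S.e 1 1 0 * (S.e 1 0 u * (S.o 1 t * (S.e 2 p v * S.o 2 s)) * S.e 3 0 w) =
          (S.e 1 1 0 * S.e 1 0 u) * S.o 1 t * S.e 2 p v * S.o 2 s * S.e 3 0 w := by group
        _ = S.e 1 0 u * (S.e 1 1 0 * S.o 1 t) * S.e 2 p v * S.o 2 s * S.e 3 0 w := by rw [q1]; group
        _ = S.e 1 0 u * S.o 1 t * (S.e 1 1 0 * S.e 2 p v) * S.o 2 s * S.e 3 0 w := by rw [q2]; group
        _ = S.e 1 0 u * S.o 1 t * S.e 2 p v * S.e 1 1 0 * (S.o 1 (1 * p) * S.o 2 s) * S.e 3 0 w := by rw [q3]; group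
        _ = S.e 1 0 u * S.o 1 t * S.e 2 p v * (S.e 1 1 0 * S.o 2 s) * S.o 1 (1 * p) * S.e 3 0 w := by rw [q6]; group
        _ = _ := by rw [q4]; group
    have e2 : S.e 1 0 u * (S.o 1 t * (S.e 2 p v * S.o 2 s)) * S.e 3 0 w * S.e 1 1 0 =
        S.e 1 0 u * S.o 1 t * S.e 2 p v * S.o 2 s * S.e 1 1 0 * S.e 3 0 w := by
      rw [mul_assoc (S.e 1 0 u * (S.o 1 t * (S.e 2 p v * S.o 2 s))), ← q5]; group
    rw [e1, e2] at c2
    have h3 := mul_right_cancel c2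
    have h4 : S.e 2 0 (1 * s) * S.o 1 (1 * p) = 1 := mul_eq_left.1 h3.symm
    have h5 : S.o 1 (1 * p) = 1 := by
      refine S.X_inf_near (i := 3) (j := 4) (by norm_num) (by norm_num) (S.mX3 _) ?_
      rw [← inv_eq_of_mul_eq_one_right h4]
      exact inv_mem (S.mX4 _ _)
    have hp := S.o_eq_one h5
    rw [h5, mul_one] at h4
    have hs := (S.e_eq_one h4).2
    rw [one_mul] at hp hs
    subst hp hs
    -- commute with `X_6`
    have c6 := hg _ (mem_J (S.mX6 1 0) (by norm_num) (by norm_num))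
    rw [S.o_zero, mul_one] at c6
    have p1 : S.e 1 0 u * S.e 3 1 0 = S.e 3 1 0 * S.e 1 0 u := S.e_e2 1 0 u 1 0
    have p2 : S.o 1 t * S.e 3 1 0 = S.e 3 1 0 * S.o 1 t * S.e 2 0 (t * 1) := S.o_e2 1 t 1 0
    have p3 : S.e 2 0 v * S.e 3 1 0 = S.e 3 1 0 * S.e 2 0 v := by
      have : S.e 2 0 v * S.e 3 1 0 = S.e 3 1 0 * S.e 2 0 v * S.o 2 (0 * 1) := S.e_e1 2 0 v 1 0
      rwa [zero_mul, S.o_zero, mul_one] at this
    have p4 : S.e 3 0 w * S.e 3 1 0 = S.e 3 1 0 * S.e 3 0 w := by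
      rw [S.e_mul, S.e_mul, map_zero, mul_zero, zero_mul, add_comm (1 : F), add_comm (0 : F) w]
    have p5 : S.e 2 0 (t * 1) * S.e 2 0 v = S.e 2 0 v * S.e 2 0 (t * 1) := by
      rw [S.e_mul_Zc, S.e_mul_Zc, add_comm]
    have e3 : S.e 1 0 u * (S.o 1 t * S.e 2 0 v) * S.e 3 0 w * S.e 3 1 0 =
        S.e 3 1 0 * (S.e 1 0 u * (S.o 1 t * S.e 2 0 v)) * S.e 2 0 (t * 1) * S.e 3 0 w := by
      calc S.e 1 0 u * (S.o 1 t * S.e 2 0 v) * S.e 3 0 w * S.e 3 1 0 =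
          S.e 1 0 u * (S.o 1 t * S.e 2 0 v) * (S.e 3 0 w * S.e 3 1 0) := by group
        _ = S.e 1 0 u * S.o 1 t * (S.e 2 0 v * S.e 3 1 0) * S.e 3 0 w := by rw [p4]; group
        _ = S.e 1 0 u * (S.o 1 t * S.e 3 1 0) * S.e 2 0 v * S.e 3 0 w := by rw [p3]; group
        _ = (S.e 1 0 u * S.e 3 1 0) * S.o 1 t * (S.e 2 0 (t * 1) * S.e 2 0 v) * S.e 3 0 w := by rw [p2]; group
        _ = _ := by rw [p1, p5]; group
    have e4 : S.e 3 1 0 * (S.e 1 0 u * (S.o 1 t * S.e 2 0 v) * S.e 3 0 w) =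
        S.e 3 1 0 * (S.e 1 0 u * (S.o 1 t * S.e 2 0 v)) * S.e 3 0 w := by group
    rw [e3, e4] at c6
    have h6 := mul_right_cancel c6
    have h7 : S.e 2 0 (t * 1) = 1 := mul_eq_left.1 h6
    have ht := (S.e_eq_one h7).2
    rw [mul_one] at ht
    subst ht
    exact ⟨u, v, w, by rw [S.o_zero, S.o_zero]; group⟩
  · rintro ⟨u, v, w, rfl⟩ x hx
    have h2 : ∀ k : ℤ, 2 ≤ k → k ≤ 6 → ∀ x ∈ S.XZ k, S.e 1 0 u * x = x * S.e 1 0 u := by
      intro k h1 h2 x hx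
      have h3 := S.rotk_X' 1 k hx
      have h4 := S.comm_Z4 (k := k + 2 * 1) (by omega) (by omega) h3 u
      have h5 : S.ck (-1) ((S.rot ^ (1 : ℤ) * x * (S.rot ^ (1 : ℤ))⁻¹) * S.e 2 0 u) =
          S.ck (-1) (S.e 2 0 u * (S.rot ^ (1 : ℤ) * x * (S.rot ^ (1 : ℤ))⁻¹)) := by rw [h4]
      have e1 : S.ck (-1) (S.rot ^ (1 : ℤ) * x * (S.rot ^ (1 : ℤ))⁻¹) = x := by rw [S.ck_apply]; group
      rw [map_mul (S.ck (-1)) (S.rot ^ (1 : ℤ) * x * (S.rot ^ (1 : ℤ))⁻¹) (S.e 2 0 u),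
        map_mul (S.ck (-1)) (S.e 2 0 u) (S.rot ^ (1 : ℤ) * x * (S.rot ^ (1 : ℤ))⁻¹), e1, S.ck_e] at h5
      have e2 : (2 : ZMod 8) + ((-1 : ℤ) : ZMod 8) = 1 := by decide
      rw [e2] at h5
      exact h5.symm
    have : J S.XZ 2 6 ≤ Subgroup.centralizer {S.e 1 0 u * S.e 2 0 v * S.e 3 0 w} := J_le fun k h3 h4 y hy => by
      rw [Subgroup.mem_centralizer_singleton_iff]
      have a1 := h2 k h3 h4 y hy
      have a2 := S.comm_Z4 (by omega) (by omega) hy v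
      have a3 := S.comm_Z6 h3 (by omega) hy w
      calc y * (S.e 1 0 u * S.e 2 0 v * S.e 3 0 w) = (y * S.e 1 0 u) * S.e 2 0 v * S.e 3 0 w := by group
        _ = S.e 1 0 u * (y * S.e 2 0 v) * S.e 3 0 w := by rw [← a1]; group
        _ = S.e 1 0 u * S.e 2 0 v * (y * S.e 3 0 w) := by rw [a2]; group
        _ = _ := by rw [a3]; group
    exact (Subgroup.mem_centralizer_singleton_iff.1 (this hx)).symm

end Full

end Cfsg.Agent.KFacts.TwF4
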