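import Cfsg.Agent.KFacts.TwF4.Full
import Cfsg.Agent.SplitTwo.ZSys

/-!
# Bruhat decomposition and the centraliser of a long root element in a group of type `²F₄`

Over `S : Full σ G`, `XZ S k` (`k : ℤ`) the root groups, `Zc a = {e a 0 u}`:

* `bruhat`: `g = b w b'`, `b, b' ∈ J 1 8 ⊔ T`, `w` acts on the root groups as `k ↦ c ± k`;
* `X_inf`: distinct root groups intersect trivially;
* `mem_of_conj`: `z ∈ Z_4`, `z ≠ 1`, `g z g⁻¹ ∈ Z_4` implies `g = y t`, `y ∈ PL = ⟨X_0, …, X_8⟩`, `t ∈ T`;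
* `centralizer_z`: `C(z) = PL` for `1 ≠ z ∈ Z_4`;
* `centralizer_Q`: `C(⟨X_1, …, X_7⟩) = Z_4`.
-/

set_option autoImplicit false
set_option linter.unusedSectionVars false

namespace Cfsg.Agent.KFacts.TwF4

open Cfsg.Agent.SplitTwo Cfsg.Agent.SplitTwo.ZS Cfsg.Agent.TitsThree.RankTwoZ Cfsg.Agent.TitsThree.RankTwoRGD
open Cfsg.Agent.SplitTwo.RootSysZ
open scoped commutatorElement

universe u

variable {F : Type*} [Field F] {σ : F →+* F} {G : Type u} [Group G] (S : Full σ G)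

namespace Full

/-- the root groups, indexed by integers -/
abbrev XZ : ℤ → Subgroup G := fam S.R

theorem zsys8 : ZSys 8 S.XZ := by
  have := zsys S.R
  exact_mod_cast this

theorem od_cast (a : ℤ) : od (a : ZMod 8) = ((2 * a + 1 : ℤ) : ZMod (2 * 8)) := by
  unfold od
  have h : (((a : ZMod 8).val : ℕ) : ℤ) = a % 8 := by
    rw [ZMod.val_intCast]; rfl
  have e1 : ((2 * (a : ZMod 8).val + 1 : ℕ) : ZMod (2 * 8)) = ((2 * (a % 8) + 1 : ℤ) : ZMod (2 * 8)) := by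
    rw [← h]; push_cast; rfl
  rw [e1, ZMod.intCast_eq_intCast_iff]
  show (2 * (a % 8) + 1) % ((2 * 8 : ℕ) : ℤ) = (2 * a + 1) % ((2 * 8 : ℕ) : ℤ)
  push_cast
  omega

theorem ev_cast (a : ℤ) : ev (a : ZMod 8) = ((2 * a : ℤ) : ZMod (2 * 8)) := by
  unfold ev
  have h : (((a : ZMod 8).val : ℕ) : ℤ) = a % 8 := by
    rw [ZMod.val_intCast]; rfl
  have e1 : ((2 * (a : ZMod 8).val : ℕ) : ZMod (2 * 8)) = ((2 * (a % 8) : ℤ) : ZMod (2 * 8)) := by
    rw [← h]; push_cast; rfl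
  rw [e1, ZMod.intCast_eq_intCast_iff]
  show (2 * (a % 8)) % ((2 * 8 : ℕ) : ℤ) = (2 * a) % ((2 * 8 : ℕ) : ℤ)
  push_cast
  omega

theorem mem_XZ_odd (a : ℤ) (g : G) : g ∈ S.XZ (2 * a + 1) ↔ ∃ t, S.o (a : ZMod 8) t = g := by
  rw [← S.mem_odd, od_cast]; rfl

theorem mem_XZ_even (a : ℤ) (g : G) : g ∈ S.XZ (2 * a) ↔ ∃ p u, S.e (a : ZMod 8) p u = g := by
  rw [← S.mem_even, ev_cast]; rfl

theorem o_mem (a : ℤ) (t : F) : S.o (a : ZMod 8) t ∈ S.XZ (2 * a + 1) := (S.mem_XZ_odd a _).2 ⟨t, rfl⟩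
theorem e_mem (a : ℤ) (p u : F) : S.e (a : ZMod 8) p u ∈ S.XZ (2 * a) := (S.mem_XZ_even a _).2 ⟨p, u, rfl⟩

theorem o_zero (a : ZMod 8) : S.o a 0 = 1 := by
  have h := S.o_add a 0 0
  rw [add_zero] at h
  exact mul_eq_left.1 h

theorem e_zero (a : ZMod 8) : S.e a 0 0 = 1 := by
  have h := S.e_mul a 0 0 0 0
  rw [add_zero, map_zero, mul_zero, add_zero] at h
  exact mul_eq_left.1 h

theorem o_eq_one {a : ZMod 8} {t : F} (h : S.o a t = 1) : t = 0 := S.injO a (h.trans (S.o_zero a).symm)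

theorem e_eq_one {a : ZMod 8} {p u : F} (h : S.e a p u = 1) : p = 0 ∧ u = 0 :=
  S.injE a _ _ _ _ (h.trans (S.e_zero a).symm)

include S in
theorem neg_one_eq : (-1 : F) = 1 := by
  have h := S.two
  rw [← one_add_one_eq_two] at h
  exact neg_eq_of_add_eq_zero_left h

/-! ### reflections -/

theorem n1_refl : Refl S.XZ 10 S.n1 := by
  have key : ∀ j x, x ∈ S.XZ j → S.n1 * x * S.n1⁻¹ ∈ S.XZ (10 - j) := by
    intro j x hx
    obtain ⟨a, h | h⟩ := Int.even_or_odd' j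
    · rw [h] at hx
      obtain ⟨p, u, rfl⟩ := (S.mem_XZ_even a x).1 hx
      rw [S.n1_e, h, show (10 : ℤ) - 2 * a = 2 * (5 - a) by ring]
      have := S.e_mem (5 - a) p u
      push_cast at this
      exact this
    · rw [h] at hx
      obtain ⟨t, rfl⟩ := (S.mem_XZ_odd a x).1 hx
      rw [S.n1_o, h, show (10 : ℤ) - (2 * a + 1) = 2 * (4 - a) + 1 by ring]
      have := S.o_mem (4 - a) t
      push_cast at this
      exact this
  intro j x
  refine ⟨key j x, fun hx => ?_⟩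
  have h1 := key _ _ hx
  have hi : S.n1⁻¹ = S.n1 := inv_eq_of_mul_eq_one_left S.n1_sq
  have e1 : S.n1 * (S.n1 * x * S.n1⁻¹) * S.n1⁻¹ = x := by
    rw [hi]
    calc S.n1 * (S.n1 * x * S.n1) * S.n1 = (S.n1 * S.n1) * x * (S.n1 * S.n1) := by group
      _ = x := by rw [S.n1_sq]; simp
  rw [e1] at h1
  rwa [sub_sub_cancel] at h1

theorem n2_refl : Refl S.XZ 8 S.n2 := by
  have key : ∀ j x, x ∈ S.XZ j → S.n2 * x * S.n2⁻¹ ∈ S.XZ (8 - j) := by
    intro j x hx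
    obtain ⟨a, h | h⟩ := Int.even_or_odd' j
    · rw [h] at hx
      obtain ⟨p, u, rfl⟩ := (S.mem_XZ_even a x).1 hx
      rw [S.n2_e, h, show (8 : ℤ) - 2 * a = 2 * (4 - a) by ring]
      have := S.e_mem (4 - a) p u
      push_cast at this
      exact this
    · rw [h] at hx
      obtain ⟨t, rfl⟩ := (S.mem_XZ_odd a x).1 hx
      rw [S.n2_o, h, show (8 : ℤ) - (2 * a + 1) = 2 * (3 - a) + 1 by ring]
      have := S.o_mem (3 - a) t
      push_cast at this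
      exact this
  intro j x
  refine ⟨key j x, fun hx => ?_⟩
  have h1 := key _ _ hx
  have hi : S.n2⁻¹ = S.n2 := inv_eq_of_mul_eq_one_left S.n2_sq
  have e1 : S.n2 * (S.n2 * x * S.n2⁻¹) * S.n2⁻¹ = x := by
    rw [hi]
    calc S.n2 * (S.n2 * x * S.n2) * S.n2 = (S.n2 * S.n2) * x * (S.n2 * S.n2) := by group
      _ = x := by rw [S.n2_sq]; simp
  rw [e1] at h1
  rwa [sub_sub_cancel] at h1

/-! ### distinct root groups intersect trivially -/

theorem X_inf_near {i j : ℤ} (h1 : i < j) (h2 : j < i + 8) {x : G} (hx : x ∈ S.XZ i) (hx' : x ∈ S.XZ j) : x = 1 :=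
  S.zsys8.inter i x hx (mem_J hx' (by omega) (by omega))

theorem X_inf_opp {i : ℤ} {x : G} (hx : x ∈ S.XZ i) (hx' : x ∈ S.XZ (i + 8)) : x = 1 := by
  by_contra hx1
  obtain ⟨v, hv, v', hv', hn⟩ := S.zsys8.mu i x hx hx1
  have hv1 : v * x * v' ∈ S.XZ (i + 8) := by
    have e1 : S.XZ (i - 8) = S.XZ (i + 8) := by
      have := S.zsys8.per (i - 8)
      rw [show i - 8 + 2 * 8 = i + 8 by ring] at this
      exact this.symm
    rw [e1] at hv hv'
    exact mul_mem (mul_mem hv hx') hv'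
  obtain ⟨y, hy, hy1⟩ := S.zsys8.exists_ne (i + 9)
  -- `y` commutes with `X (i + 8)`
  have h2 := S.zsys8.commute_succ (k := i + 8) hv1 (y := y) (by rw [show i + 8 + 1 = i + 9 by ring]; exact hy)
  have h3 : (v * x * v') * y * (v * x * v')⁻¹ = y := by rw [h2]; group
  have h4 := hn.mem hy
  rw [h3, show 2 * i - 8 - (i + 9) = (i - 1) - 2 * 8 by ring, S.zsys8.per'] at h4
  -- `y ∈ X (i - 1) ∩ X (i + 9)`
  have h5 : y ∈ S.XZ (i - 7) := by
    have := S.zsys8.per (i - 7)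
    rw [show i - 7 + 2 * 8 = i + 9 by ring] at this
    rw [← this]; exact hy
  exact hy1 (S.X_inf_near (i := i - 7) (j := i - 1) (by omega) (by omega) h5 h4)

theorem X_inf {i j : ZMod (2 * 8)} (hij : i ≠ j) {x : G} (hx : x ∈ S.R.X i) (hx' : x ∈ S.R.X j) : x = 1 := by
  obtain ⟨d, hd, hd0, hd'⟩ : ∃ d : ℤ, j = i + d ∧ 0 < d ∧ d < 16 := by
    refine ⟨((j - i).val : ℤ), ?_, ?_, ?_⟩
    · have : (((j - i).val : ℤ) : ZMod (2 * 8)) = j - i := by
        rw [Int.cast_natCast]; exact ZMod.natCast_zmod_val _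
      rw [this]; ring
    · have : (j - i).val ≠ 0 := by
        rw [Ne, ZMod.val_eq_zero]
        intro h; exact hij (sub_eq_zero.1 h).symm
      omega
    · have : (j - i).val < 16 := ZMod.val_lt _
      omega
  have hi : ((i.val : ℤ) : ZMod (2 * 8)) = i := by rw [Int.cast_natCast]; exact ZMod.natCast_zmod_val _
  have h1 : x ∈ S.XZ (i.val : ℤ) := by show x ∈ S.R.X _; rw [hi]; exact hx
  have h2 : x ∈ S.XZ ((i.val : ℤ) + d) := by
    show x ∈ S.R.X _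
    push_cast
    rw [Int.cast_natCast] at hi
    rw [hi, ← hd]; exact hx'
  rcases lt_trichotomy d 8 with h | h | h
  · exact S.X_inf_near (by omega) (by omega) h1 h2
  · rw [h] at h2; exact S.X_inf_opp h1 h2
  · have h3 : x ∈ S.XZ ((i.val : ℤ) + d - 2 * 8) := by rw [S.zsys8.per']; exact h2
    exact S.X_inf_near (i := (i.val : ℤ) + d - 2 * 8) (j := i.val) (by omega) (by omega) h3 h1

/-! ### Bruhat decomposition -/

/-- the torus -/
def T : Subgroup G := torus S.R.X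

theorem mem_T {g : G} : g ∈ S.T ↔ ∃ c d, S.h c d = g := S.mem_torus g

theorem T_conj {t : G} (ht : t ∈ S.T) (k : ℤ) {x : G} (hx : x ∈ S.XZ k) : t * x * t⁻¹ ∈ S.XZ k := (ht _ _).2 hx

theorem T_conj' {t : G} (ht : t ∈ S.T) (k : ℤ) {x : G} (hx : x ∈ S.XZ k) : t⁻¹ * x * t ∈ S.XZ k := by
  have := S.T_conj (inv_mem ht) k hx
  rwa [inv_inv] at this

theorem T_conj_J {t : G} (ht : t ∈ S.T) {a b : ℤ} {x : G} (hx : x ∈ J S.XZ a b) : t * x * t⁻¹ ∈ J S.XZ a b := by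
  have : J S.XZ a b ≤ (J S.XZ a b).comap (MulAut.conj t).toMonoidHom :=
    J_le fun k h1 h2 y hy => mem_J (S.T_conj ht k hy) h1 h2
  exact this hx

theorem rgdz_U_le : (rgdz S.R).U ≤ J S.XZ 1 8 := by
  refine iSup₂_le fun k hk => ?_
  refine le_trans ?_ (X_le_J (X := S.XZ) (k := (k : ℤ)) (a := 1) (b := 8) (by exact_mod_cast hk.1)
    (by exact_mod_cast hk.2))
  show S.R.X ((k : ℕ) : ZMod (2 * 8)) ≤ S.R.X (((k : ℕ) : ℤ) : ZMod (2 * 8))
  rw [Int.cast_natCast]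

/-- `w` acts on the root groups as an element of the dihedral group -/
def IsDih (w : G) : Prop :=
  ∃ c : ZMod (2 * 8), Maps S.R.X w (fun k => c + k) ∨ Maps S.R.X w (fun k => c - k)

theorem bruhat (g : G) : ∃ b ∈ J S.XZ 1 8, ∃ t ∈ S.T, ∃ w, S.IsDih w ∧ ∃ b' ∈ J S.XZ 1 8, g = b * t * w * b' := by
  have hg : g ∈ (rgdz S.R).core.G := by rw [core_G_eq_top]; exact Subgroup.mem_top _
  obtain ⟨b, hb, w, hw, b', hb', e⟩ := (rgdz S.R).core.bruhat (by norm_num) hg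
  obtain ⟨u, hu, t, ht, rfl⟩ := (rgdz S.R).core.mem_D.1 hb
  obtain ⟨u', hu', t', ht', rfl⟩ := (rgdz S.R).core.mem_D.1 hb'
  have hu1 : u ∈ J S.XZ 1 8 := S.rgdz_U_le hu
  have hu1' : u' ∈ J S.XZ 1 8 := S.rgdz_U_le hu'
  have ht1 : t ∈ S.T := ht
  have ht1' : t' ∈ S.T := ht'
  refine ⟨u, hu1, t, ht1, w * t', ?_, t'⁻¹ * u' * t', ?_, ?_⟩
  · obtain ⟨k, hk, h, hh, rfl | rfl⟩ := hw
    · have hm := ((rgdz S.R).alt_maps k).1
      have hm2 := (hm.mul hh).mul ht1'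
      by_cases hk2 : Even k
      · refine ⟨(k : ZMod (2 * 8)), Or.inl (hm2.congr fun j => ?_)⟩
        simp only [Function.comp, hk2, if_true, id]
        ring
      · refine ⟨((8 : ℕ) : ZMod (2 * 8)) + 1 + k, Or.inr (hm2.congr fun j => ?_)⟩
        simp only [Function.comp, hk2, if_false, id]
        push_cast
        ring
    · have hm := ((rgdz S.R).alt_maps k).2
      have hm2 := (hm.mul hh).mul ht1'
      by_cases hk2 : Even k
      · refine ⟨-(k : ZMod (2 * 8)), Or.inl (hm2.congr fun j => ?_)⟩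
        simp only [Function.comp, hk2, if_true, id]
        ring
      · refine ⟨((8 : ℕ) : ZMod (2 * 8)) + 1 - k, Or.inr (hm2.congr fun j => ?_)⟩
        simp only [Function.comp, hk2, if_false, id]
        push_cast
        ring
  · have := S.T_conj_J (inv_mem ht1') hu1'
    rwa [inv_inv] at this
  · rw [e]; group

/-! ### the centre of the Sylow group -/

/-- the centre of `X_{2a}` -/
def Zc (a : ZMod 8) : Subgroup G where
  carrier := {g | ∃ u, S.e a 0 u = g}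
  one_mem' := ⟨0, S.e_zero a⟩
  mul_mem' := by
    rintro _ _ ⟨u, rfl⟩ ⟨v, rfl⟩
    exact ⟨u + v, by rw [S.e_mul, add_zero, zero_mul, add_zero]⟩
  inv_mem' := by
    rintro _ ⟨u, rfl⟩
    refine ⟨-u, ?_⟩
    have h : S.e a 0 (-u) * S.e a 0 u = 1 := by
      rw [S.e_mul, add_zero, zero_mul, add_zero, neg_add_cancel, S.e_zero]
    exact eq_inv_of_mul_eq_one_left h

theorem mem_Zc {a : ZMod 8} {g : G} : g ∈ S.Zc a ↔ ∃ u, S.e a 0 u = g := Iff.rfl

theorem Zc_le (a : ℤ) : S.Zc (a : ZMod 8) ≤ S.XZ (2 * a) := by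
  rintro _ ⟨u, rfl⟩
  exact S.e_mem a 0 u

/-- `X_0, …, X_8` centralise `Z_4` -/
theorem comm_Z4 {k : ℤ} (h1 : 0 ≤ k) (h2 : k ≤ 8) {x : G} (hx : x ∈ S.XZ k) (v : F) :
    x * S.e 2 0 v = S.e 2 0 v * x := by
  have hO : ∀ a : ℤ, k = 2 * a + 1 → ∃ t, x = S.o (a : ZMod 8) t := by
    intro a ha
    rw [ha] at hx
    obtain ⟨t, rfl⟩ := (S.mem_XZ_odd a x).1 hx
    exact ⟨t, rfl⟩
  have hE : ∀ a : ℤ, k = 2 * a → ∃ p u, x = S.e (a : ZMod 8) p u := by
    intro a ha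
    rw [ha] at hx
    obtain ⟨p, u, rfl⟩ := (S.mem_XZ_even a x).1 hx
    exact ⟨p, u, rfl⟩
  interval_cases k
  · obtain ⟨p, u, rfl⟩ := hE 0 (by norm_num)
    exact S.e_e2 0 p u 0 v
  · obtain ⟨t, rfl⟩ := hO 0 (by norm_num)
    have h := S.o_e2 0 t 0 v
    rw [mul_zero, S.e_zero, mul_one] at h
    exact h
  · obtain ⟨p, u, rfl⟩ := hE 1 (by norm_num)
    have h := S.e_e1 1 p u 0 v
    rw [mul_zero, S.o_zero, mul_one] at h
    exact h
  · obtain ⟨t, rfl⟩ := hO 1 (by norm_num)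
    exact S.o_e1 1 t 0 v
  · obtain ⟨p, u, rfl⟩ := hE 2 (by norm_num)
    show S.e 2 p u * S.e 2 0 v = S.e 2 0 v * S.e 2 p u
    rw [S.e_mul, S.e_mul, map_zero, mul_zero, zero_mul, add_zero, add_zero, add_zero, zero_add, add_comm]
  · obtain ⟨t, rfl⟩ := hO 2 (by norm_num)
    exact (S.e_o0 2 0 v t).symm
  · obtain ⟨p, u, rfl⟩ := hE 3 (by norm_num)
    have h := S.e_e1 2 0 v p u
    rw [zero_mul, S.o_zero, mul_one] at h
    exact h.symm
  · obtain ⟨t, rfl⟩ := hO 3 (by norm_num)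
    have h := S.e_o1 2 0 v t
    rw [zero_mul, S.e_zero, mul_one] at h
    exact h.symm
  · obtain ⟨p, u, rfl⟩ := hE 4 (by norm_num)
    exact (S.e_e2 2 0 v p u).symm

/-- `⟨X_0, …, X_8⟩`, the derived subgroup of the parabolic subgroup -/
def PL : Subgroup G := J S.XZ 0 8

theorem comm_PL {x : G} (hx : x ∈ S.PL) {z : G} (hz : z ∈ S.Zc 2) : x * z = z * x := by
  obtain ⟨v, rfl⟩ := hz
  have : S.PL ≤ Subgroup.centralizer {S.e 2 0 v} := J_le fun k h1 h2 y hy => by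
    rw [Subgroup.mem_centralizer_singleton_iff]
    exact S.comm_Z4 h1 h2 hy v
  exact Subgroup.mem_centralizer_singleton_iff.1 (this hx)

theorem T_conj_Zc {t : G} (ht : t ∈ S.T) {a : ZMod 8} {z : G} (hz : z ∈ S.Zc a) : t * z * t⁻¹ ∈ S.Zc a := by
  obtain ⟨c, d, rfl⟩ := S.mem_T.1 ht
  obtain ⟨u, rfl⟩ := hz
  rw [S.h_e, mul_zero]
  exact ⟨_, rfl⟩

theorem n2_mem : S.n2 ∈ S.PL := by
  rw [S.n2_word]
  have h8 : ∀ p u, S.e 4 p u ∈ S.PL := fun p u => by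
    have := S.e_mem 4 p u
    exact mem_J (k := 8) this (by norm_num) (by norm_num)
  have h0 : ∀ p u, S.e 0 p u ∈ S.PL := fun p u => by
    have := S.e_mem 0 p u
    push_cast at this
    exact mem_J (k := 0) this (by norm_num) (by norm_num)
  exact mul_mem (mul_mem (h8 _ _) (h0 _ _)) (h8 _ _)

/-- `n2` acts on the root groups as `k ↦ 8 - k` -/
theorem n2_maps : Maps S.R.X S.n2 (fun k => 8 - k) := by
  intro k x
  have h := S.n2_refl (k.val : ℤ) x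
  have hk : (((k.val : ℕ) : ℤ) : ZMod (2 * 8)) = k := by rw [Int.cast_natCast]; exact ZMod.natCast_zmod_val _
  have h8 : x ∈ S.XZ (k.val : ℤ) ↔ x ∈ S.R.X k := by show x ∈ S.R.X _ ↔ _; rw [hk]
  have h9 : S.n2 * x * S.n2⁻¹ ∈ S.XZ (8 - (k.val : ℤ)) ↔ S.n2 * x * S.n2⁻¹ ∈ S.R.X (8 - k) := by
    show _ ∈ S.R.X _ ↔ _
    rw [Int.cast_sub, hk]; rfl
  rw [h8, h9] at h
  exact h.symm

/-- an element conjugating a non-trivial element of `Z_4` into `Z_4`: the form -/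
theorem form_of_conj {z g : G} (hz : z ∈ S.Zc 2) (hz1 : z ≠ 1) (hg : g * z * g⁻¹ ∈ S.Zc 2) :
    ∃ b ∈ J S.XZ 1 8, ∃ t ∈ S.T, g = b * t ∨ ∃ b' ∈ J S.XZ 1 8, g = b * (t * S.n2) * b' := by
  obtain ⟨b, hb, t, ht, w, hw, b', hb', rfl⟩ := S.bruhat g
  have hbP : b ∈ S.PL := J_mono (by norm_num) le_rfl hb
  have hbP' : b' ∈ S.PL := J_mono (by norm_num) le_rfl hb'
  -- `w z w⁻¹ ∈ Z_4`
  have e1 : b' * z * b'⁻¹ = z := by rw [S.comm_PL hbP' hz]; group
  have h1 : w * z * w⁻¹ ∈ S.Zc 2 := by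
    have e2 : w * z * w⁻¹ = t⁻¹ * (b⁻¹ * ((b * t * w * b') * z * (b * t * w * b')⁻¹) * b) * t := by
      calc w * z * w⁻¹ = w * (b' * z * b'⁻¹) * w⁻¹ := by rw [e1]
        _ = _ := by group
    have e3 : b⁻¹ * ((b * t * w * b') * z * (b * t * w * b')⁻¹) * b = (b * t * w * b') * z * (b * t * w * b')⁻¹ := by
      rw [mul_assoc, ← S.comm_PL hbP hg, inv_mul_cancel_left]
    rw [e2, e3]
    have := S.T_conj_Zc (inv_mem ht) hg
    rwa [inv_inv] at this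
  have h4 : ∀ z ∈ S.Zc 2, z ∈ S.R.X 4 := by
    intro z hz
    have := S.Zc_le 2 hz
    exact this
  have h2 : w * z * w⁻¹ ≠ 1 := by
    intro h
    rw [mul_inv_eq_one] at h
    exact hz1 (mul_left_cancel (h.trans (mul_one w).symm))
  obtain ⟨c, hc | hc⟩ := hw
  · -- rotation
    have h5 : w * z * w⁻¹ ∈ S.R.X (c + 4) := (hc 4 z).2 (h4 z hz)
    have h6 : c + 4 = 4 := by
      by_contra hne
      exact h2 (S.X_inf hne h5 (h4 _ h1))
    have h7 : c = 0 := by simpa using h6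
    have hwT : w ∈ S.T := by
      show Maps S.R.X w id
      exact hc.congr fun k => by rw [h7, zero_add]; rfl
    refine ⟨b * (t * w * b' * (t * w)⁻¹), mul_mem hb ?_, t * w, mul_mem ht hwT, Or.inl (by group)⟩
    exact S.T_conj_J (mul_mem ht hwT) hb'
  · have h5 : w * z * w⁻¹ ∈ S.R.X (c - 4) := (hc 4 z).2 (h4 z hz)
    have h6 : c - 4 = 4 := by
      by_contra hne
      exact h2 (S.X_inf hne h5 (h4 _ h1))
    have h7 : c = 8 := by
      have : c = 4 + 4 := sub_eq_iff_eq_add.1 h6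
      rw [this]; decide
    have hwT : w * S.n2 ∈ S.T := by
      show Maps S.R.X (w * S.n2) id
      exact (hc.mul S.n2_maps).congr fun k => by
        show c - (8 - k) = k
        rw [h7]; exact sub_sub_cancel 8 k
    refine ⟨b, hb, t * (w * S.n2), mul_mem ht hwT, Or.inr ⟨b', hb', ?_⟩⟩
    calc b * t * w * b' = b * (t * (w * (S.n2 * S.n2))) * b' := by rw [S.n2_sq, mul_one]; group
      _ = _ := by group

/-- an element conjugating a non-trivial element of `Z_4` into `Z_4` lies in the parabolic subgroup -/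
theorem mem_of_conj {z g : G} (hz : z ∈ S.Zc 2) (hz1 : z ≠ 1) (hg : g * z * g⁻¹ ∈ S.Zc 2) :
    ∃ y ∈ S.PL, ∃ t ∈ S.T, g = y * t := by
  obtain ⟨b, hb, t, ht, rfl | ⟨b', hb', rfl⟩⟩ := S.form_of_conj hz hz1 hg
  · exact ⟨b, J_mono (by norm_num) le_rfl hb, t, ht, rfl⟩
  · refine ⟨b * (t * (S.n2 * b') * t⁻¹), mul_mem (J_mono (by norm_num) le_rfl hb) ?_, t, ht, by group⟩
    exact S.T_conj_J ht (mul_mem S.n2_mem (J_mono (by norm_num) le_rfl hb'))

/-! ### the torus -/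

/-- the torus elements are determined by two characters -/
theorem h_mul (c d c' d' : Fˣ) : S.h c d * S.h c' d' = S.h (c * c') (d * d') := by
  obtain ⟨c2, d2, e1⟩ := S.mem_T.1 (mul_mem (S.mem_T.2 ⟨c, d, rfl⟩) (S.mem_T.2 ⟨c', d', rfl⟩))
  have key : ∀ a : ZMod 8, (chE σ a c2 d2 : F) = chE σ a c d * chE σ a c' d' := by
    intro a
    have h1 := S.h_e c2 d2 a 1 0
    have h2 : (S.h c d * S.h c' d') * S.e a 1 0 * (S.h c d * S.h c' d')⁻¹ =
        S.e a ((chE σ a c d : F) * ((chE σ a c' d' : F) * 1)) 0 := by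
      have e2 : (S.h c d * S.h c' d') * S.e a 1 0 * (S.h c d * S.h c' d')⁻¹ =
          S.h c d * (S.h c' d' * S.e a 1 0 * (S.h c' d')⁻¹) * (S.h c d)⁻¹ := by group
      rw [e2, S.h_e, S.h_e, mul_zero, mul_zero]
    rw [e1, h2, mul_zero] at h1
    have h3 := (S.injE a _ _ _ _ h1).1
    rw [mul_one, mul_one] at h3
    exact h3.symm
  have k0 : c2 = c * c' := Units.ext (key 0)
  have k1 : d2 = d * d' := Units.ext (key 1)
  rw [← e1, k0, k1]

theorem h_one : S.h 1 1 = 1 := by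
  have := S.h_mul 1 1 1 1
  rw [mul_one] at this
  exact mul_eq_left.1 this

theorem h_inv (c d : Fˣ) : (S.h c d)⁻¹ = S.h c⁻¹ d⁻¹ := by
  rw [inv_eq_iff_mul_eq_one, S.h_mul, mul_inv_cancel, mul_inv_cancel, S.h_one]

/-- conjugation by `n2` on the torus -/
theorem n2_h (c d : Fˣ) : S.n2 * S.h c d * S.n2⁻¹ = S.h c⁻¹ (d / Units.map (σ : F →* F) c) := by
  have hT : S.n2 * S.h c d * S.n2⁻¹ ∈ S.T := by
    have hh : S.h c d ∈ S.T := S.mem_T.2 ⟨c, d, rfl⟩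
    have key : ∀ k : ℤ, ∀ x ∈ S.XZ k, (S.n2 * S.h c d * S.n2⁻¹) * x * (S.n2 * S.h c d * S.n2⁻¹)⁻¹ ∈ S.XZ k := by
      intro k x hx
      have h1 := S.n2_refl.mem_inv hx (k := 8 - k) rfl
      have h2 := S.n2_refl.mem (S.T_conj hh _ h1)
      rw [sub_sub_cancel] at h2
      have e1 : S.n2 * (S.h c d * (S.n2⁻¹ * x * S.n2) * (S.h c d)⁻¹) * S.n2⁻¹ =
          (S.n2 * S.h c d * S.n2⁻¹) * x * (S.n2 * S.h c d * S.n2⁻¹)⁻¹ := by group
      rwa [e1] at h2
    have key' : ∀ k : ℤ, ∀ x ∈ S.XZ k, (S.n2 * S.h c d * S.n2⁻¹)⁻¹ * x * (S.n2 * S.h c d * S.n2⁻¹) ∈ S.XZ k := by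
      intro k x hx
      have h1 := S.n2_refl.mem_inv hx (k := 8 - k) rfl
      have h2 := S.n2_refl.mem (S.T_conj' hh _ h1)
      rw [sub_sub_cancel] at h2
      have e1 : S.n2 * ((S.h c d)⁻¹ * (S.n2⁻¹ * x * S.n2) * S.h c d) * S.n2⁻¹ =
          (S.n2 * S.h c d * S.n2⁻¹)⁻¹ * x * (S.n2 * S.h c d * S.n2⁻¹) := by group
      rwa [e1] at h2
    intro k x
    have hk : (((k.val : ℕ) : ℤ) : ZMod (2 * 8)) = k := by rw [Int.cast_natCast]; exact ZMod.natCast_zmod_val _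
    have hX : S.XZ (k.val : ℤ) = S.R.X k := by show S.R.X _ = _; rw [hk]
    have k1 := key (k.val : ℤ)
    have k2 := key' (k.val : ℤ)
    rw [hX] at k1 k2
    refine ⟨fun hx => ?_, fun hx => k1 x hx⟩
    have h3 := k2 _ hx
    have e1 : (S.n2 * S.h c d * S.n2⁻¹)⁻¹ * ((S.n2 * S.h c d * S.n2⁻¹) * x * (S.n2 * S.h c d * S.n2⁻¹)⁻¹) *
        (S.n2 * S.h c d * S.n2⁻¹) = x := by group
    rwa [e1] at h3
  obtain ⟨c2, d2, e1⟩ := S.mem_T.1 hT
  have key : ∀ a : ZMod 8, (chE σ a c2 d2 : F) = chE σ (4 - a) c d := by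
    intro a
    have h1 := S.h_e c2 d2 a 1 0
    have h2 : S.n2⁻¹ * S.e a 1 0 * S.n2 = S.e (4 - a) 1 0 := by
      have := S.n2_e (4 - a) 1 0
      rw [sub_sub_cancel] at this
      rw [← this]; group
    have h3 : (S.n2 * S.h c d * S.n2⁻¹) * S.e a 1 0 * (S.n2 * S.h c d * S.n2⁻¹)⁻¹ =
        S.e a ((chE σ (4 - a) c d : F) * 1) 0 := by
      have e2 : (S.n2 * S.h c d * S.n2⁻¹) * S.e a 1 0 * (S.n2 * S.h c d * S.n2⁻¹)⁻¹ =
          S.n2 * (S.h c d * (S.n2⁻¹ * S.e a 1 0 * S.n2) * (S.h c d)⁻¹) * S.n2⁻¹ := by group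
      rw [e2, h2, S.h_e, S.n2_e, sub_sub_cancel, mul_zero]
    rw [e1, h3, mul_zero] at h1
    have h4 := (S.injE a _ _ _ _ h1).1
    rw [mul_one, mul_one] at h4
    exact h4.symm
  have k0 : c2 = c⁻¹ := Units.ext (key 0)
  have k1 : d2 = d / Units.map (σ : F →* F) c := Units.ext (key 1)
  rw [← e1, k0, k1]

include S in
theorem unit_eq_one {x : Fˣ} (h : x * Units.map (σ : F →* F) x = 1) : x = 1 := by
  have h1 : Units.map (σ : F →* F) x = x⁻¹ := (inv_eq_of_mul_eq_one_right h).symm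
  have h2 := congrArg (Units.map (σ : F →* F)) h1
  rw [map_map σ S.sq, map_inv, h1, inv_inv, pow_two] at h2
  exact mul_eq_left.1 h2

/-- the torus of the Levi complement -/
theorem h_mem_PL [Finite F] (d : Fˣ) : S.h (Units.map (σ : F →* F) d) d ∈ S.PL := by
  -- all elements of this form are `h (c², σ c)`
  have hinj : Function.Injective (Units.map (σ : F →* F)) := by
    intro a b h
    exact Units.ext (σ.injective (congrArg Units.val h))
  obtain ⟨c, rfl⟩ := Finite.surjective_of_injective hinj d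
  rw [map_map σ S.sq]
  have h1 : S.h c (Units.map (σ : F →* F) c) * S.n2 * (S.h c (Units.map (σ : F →* F) c))⁻¹ ∈ S.PL :=
    S.T_conj_J (S.mem_T.2 ⟨_, _, rfl⟩) S.n2_mem
  have h2 := mul_mem h1 (inv_mem S.n2_mem)
  have e1 : S.h c (Units.map (σ : F →* F) c) * S.n2 * (S.h c (Units.map (σ : F →* F) c))⁻¹ * S.n2⁻¹ =
      S.h c (Units.map (σ : F →* F) c) * (S.n2 * (S.h c (Units.map (σ : F →* F) c))⁻¹ * S.n2⁻¹) := by group
  rw [e1, S.h_inv, S.n2_h, S.h_mul, inv_inv] at h2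
  have e2 : (Units.map (σ : F →* F) c)⁻¹ / Units.map (σ : F →* F) c⁻¹ = 1 := by rw [map_inv, div_self']
  rw [e2, mul_one, ← pow_two] at h2
  exact h2

/-- **The centraliser of a non-trivial element of `Z_4`.** -/
theorem centralizer_z [Finite F] {z : G} (hz : z ∈ S.Zc 2) (hz1 : z ≠ 1) : Subgroup.centralizer {z} = S.PL := by
  apply le_antisymm
  · intro g hg
    rw [Subgroup.mem_centralizer_singleton_iff] at hg
    have h1 : g * z * g⁻¹ = z := by rw [hg]; group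
    obtain ⟨y, hy, t, ht, rfl⟩ := S.mem_of_conj hz hz1 (by rw [h1]; exact hz)
    refine mul_mem hy ?_
    have h2 : t * z * t⁻¹ = z := by
      have h3 : y * (t * z * t⁻¹) * y⁻¹ = z := by
        calc y * (t * z * t⁻¹) * y⁻¹ = y * t * z * (y * t)⁻¹ := by group
          _ = z := h1
      have h4 := S.comm_PL hy (S.T_conj_Zc ht hz)
      rw [h4, mul_inv_cancel_right] at h3
      exact h3
    obtain ⟨c, d, rfl⟩ := S.mem_T.1 ht
    obtain ⟨u, rfl⟩ := hz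
    rw [S.h_e, mul_zero] at h2
    have h3 := (S.injE 2 _ _ _ _ h2).2
    have hu : u ≠ 0 := by rintro rfl; exact hz1 (S.e_zero 2)
    have h4 : (chE σ 2 c d : F) * σ (chE σ 2 c d : F) = 1 := by
      exact mul_right_cancel₀ hu (h3.trans (one_mul u).symm)
    have h5 : chE σ 2 c d = 1 := S.unit_eq_one (Units.ext h4)
    rw [chE_two, div_eq_one] at h5
    rw [← h5]
    exact S.h_mem_PL d
  · intro g hg
    rw [Subgroup.mem_centralizer_singleton_iff]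
    exact S.comm_PL hg hz

/-- `Z_4` is a TI-subgroup with normaliser `PL T`. -/
theorem conj_Zc_of_inter {z g : G} (hz : z ∈ S.Zc 2) (hz1 : z ≠ 1) (hg : g * z * g⁻¹ ∈ S.Zc 2) {x : G}
    (hx : x ∈ S.Zc 2) : g * x * g⁻¹ ∈ S.Zc 2 := by
  obtain ⟨y, hy, t, ht, rfl⟩ := S.mem_of_conj hz hz1 hg
  have h1 := S.T_conj_Zc ht hx
  have e : y * t * x * (y * t)⁻¹ = y * (t * x * t⁻¹) * y⁻¹ := by group
  rw [e, S.comm_PL hy h1, mul_inv_cancel_right]
  exact h1

/-- the torus is transitive on the non-trivial elements of `Z_4` -/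
theorem T_trans [Finite F] {u v : F} (hu : u ≠ 0) (hv : v ≠ 0) : ∃ t ∈ S.T, t * S.e 2 0 u * t⁻¹ = S.e 2 0 v := by
  let f : Fˣ →* Fˣ := MonoidHom.id _ * Units.map (σ : F →* F)
  have hf : Function.Injective f := by
    rw [injective_iff_map_eq_one]
    intro a ha
    exact S.unit_eq_one ha
  obtain ⟨c, hc⟩ := Finite.surjective_of_injective hf (Units.mk0 v hv / Units.mk0 u hu)
  refine ⟨S.h c⁻¹ 1, S.mem_T.2 ⟨_, _, rfl⟩, ?_⟩
  rw [S.h_e, mul_zero, chE_two, map_one, one_div, inv_inv]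
  congr 1
  have h1 : (c : F) * σ (c : F) = v / u := by
    have := congrArg Units.val hc
    rw [Units.val_div_eq_div_val] at this
    exact this
  rw [h1, div_mul_cancel₀ _ hu]

/-! ### the centraliser of `Q` -/

/-- the unipotent radical `⟨X_1, …, X_7⟩` -/
def Q : Subgroup G := J S.XZ 1 7

/-- the elements of `J 1 8` that commute with `Q` lie in `Z_4` -/
theorem mem_Zc_of_comm {b : G} (hb : b ∈ J S.XZ 1 8) (hc : ∀ x ∈ S.Q, b * x = x * b) : b ∈ S.Zc 2 := by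
  have Z8 := S.zsys8
  have m1 : ∀ r, S.o 0 r ∈ S.XZ 1 := fun r => by have := S.o_mem 0 r; push_cast at this; exact this
  have m7 : ∀ r, S.o 3 r ∈ S.XZ 7 := fun r => by have := S.o_mem 3 r; push_cast at this; exact this
  have m2 : ∀ p u, S.e 1 p u ∈ S.XZ 2 := fun p u => by have := S.e_mem 1 p u; push_cast at this; exact this
  have m6 : ∀ p u, S.e 3 p u ∈ S.XZ 6 := fun p u => by have := S.e_mem 3 p u; push_cast at this; exact this
  have h1 : b ∈ J S.XZ 1 5 := by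
    have := Z8.comm_top (k := 1) (b := 8) (r := 4) (by norm_num) (by norm_num) (h := S.o 0 1) (w := b) (m1 1)
      (fun h => one_ne_zero (S.o_eq_one h)) hb (hc _ (mem_J (m1 1) (by norm_num) (by norm_num)))
    exact this
  have h2 : b ∈ J S.XZ 3 7 := by
    have := Z8.comm_bot (k := 7) (a := 1) (r := 4) (by norm_num) (by norm_num) (h := S.o 3 1) (w := b) (m7 1)
      (fun h => one_ne_zero (S.o_eq_one h)) (J_mono le_rfl (by norm_num) h1) (hc _ (mem_J (m7 1) (by norm_num) (by norm_num)))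
    exact this
  have h3 : b ∈ J S.XZ 3 5 := Z8.inter_J 1 h1 h2 (by norm_num) (by norm_num) (by norm_num) (by norm_num)
    (Or.inr le_rfl) (Or.inl le_rfl)
  obtain ⟨x, hx, y, hy, rfl⟩ := Z8.split_ll (by norm_num) (by norm_num) h3
  obtain ⟨y1, hy1, y2, hy2, rfl⟩ := Z8.split_ll (by norm_num) (by norm_num) hy
  have hy2' := mem_of_J_self hy2 (by norm_num)
  obtain ⟨t, rfl⟩ := (S.mem_XZ_odd 1 x).1 hx
  obtain ⟨p, u, rfl⟩ := (S.mem_XZ_even 2 y1).1 hy1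
  obtain ⟨s, rfl⟩ := (S.mem_XZ_odd 2 y2).1 hy2'
  have c1 : S.o 1 t * (S.e 2 p u * S.o 2 s) * S.o 0 1 = S.o 0 1 * (S.o 1 t * (S.e 2 p u * S.o 2 s)) :=
    hc _ (mem_J (m1 1) (by norm_num) (by norm_num))
  have hp : p = 0 := by
    have r1 : S.o 0 1 * S.o 1 t = S.o 1 t * S.o 0 1 := S.o_o1 0 1 t
    have r2 : S.o 0 1 * S.e 2 p u = S.e 2 p u * S.o 0 1 * S.e 1 0 (1 * p) := S.o_e2 0 1 p u
    have r3 : S.o 0 1 * S.o 2 s = S.o 2 s * S.o 0 1 := S.o_o2 0 1 s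
    have r4 : S.e 1 0 (1 * p) = 1 := by
      have e1 : S.o 0 1 * (S.o 1 t * (S.e 2 p u * S.o 2 s)) =
          S.o 1 t * (S.e 2 p u * S.o 0 1 * S.e 1 0 (1 * p)) * S.o 2 s := by
        rw [← r2]
        calc S.o 0 1 * (S.o 1 t * (S.e 2 p u * S.o 2 s)) = (S.o 0 1 * S.o 1 t) * S.e 2 p u * S.o 2 s := by group
          _ = _ := by rw [r1]; group
      have e2 : S.o 1 t * (S.e 2 p u * S.o 2 s) * S.o 0 1 = S.o 1 t * (S.e 2 p u * S.o 0 1) * S.o 2 s := by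
        calc S.o 1 t * (S.e 2 p u * S.o 2 s) * S.o 0 1 = S.o 1 t * S.e 2 p u * (S.o 2 s * S.o 0 1) := by group
          _ = _ := by rw [← r3]; group
      rw [e1, e2] at c1
      have := mul_left_cancel (mul_right_cancel c1)
      exact mul_eq_left.1 this.symm
    have := (S.e_eq_one r4).2
    rwa [one_mul] at this
  subst hp
  have c2 : S.o 1 t * (S.e 2 0 u * S.o 2 s) * S.e 1 1 0 = S.e 1 1 0 * (S.o 1 t * (S.e 2 0 u * S.o 2 s)) :=
    hc _ (mem_J (m2 1 0) (by norm_num) (by norm_num))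
  have c3 : S.o 1 t * (S.e 2 0 u * S.o 2 s) * S.e 3 1 0 = S.e 3 1 0 * (S.o 1 t * (S.e 2 0 u * S.o 2 s)) :=
    hc _ (mem_J (m6 1 0) (by norm_num) (by norm_num))
  have hs : s = 0 := by
    have r1 : S.e 1 1 0 * S.o 1 t = S.o 1 t * S.e 1 1 0 := S.e_o0 1 1 0 t
    have r2 : S.e 1 1 0 * S.e 2 0 u = S.e 2 0 u * S.e 1 1 0 * S.o 1 (1 * 0) := S.e_e1 1 1 0 0 u
    rw [mul_zero, S.o_zero, mul_one] at r2
    have r3 : S.e 1 1 0 * S.o 2 s = S.o 2 s * S.e 1 1 0 * S.e 2 0 (1 * s) := S.e_o1 1 1 0 s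
    have r4 : S.e 2 0 (1 * s) = 1 := by
      have e1 : S.e 1 1 0 * (S.o 1 t * (S.e 2 0 u * S.o 2 s)) =
          S.o 1 t * S.e 2 0 u * (S.o 2 s * S.e 1 1 0 * S.e 2 0 (1 * s)) := by
        rw [← r3]
        calc S.e 1 1 0 * (S.o 1 t * (S.e 2 0 u * S.o 2 s)) = (S.e 1 1 0 * S.o 1 t) * S.e 2 0 u * S.o 2 s := by group
          _ = S.o 1 t * (S.e 1 1 0 * S.e 2 0 u) * S.o 2 s := by rw [r1]; group
          _ = _ := by rw [r2]; group
      rw [e1] at c2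
      have e2 : S.o 1 t * (S.e 2 0 u * S.o 2 s) * S.e 1 1 0 = S.o 1 t * S.e 2 0 u * (S.o 2 s * S.e 1 1 0) := by group
      rw [e2] at c2
      have := mul_left_cancel c2
      exact mul_eq_left.1 this.symm
    have := (S.e_eq_one r4).2
    rwa [one_mul] at this
  subst hs
  have ht : t = 0 := by
    have r1 : S.o 1 t * S.e 3 1 0 = S.e 3 1 0 * S.o 1 t * S.e 2 0 (t * 1) := S.o_e2 1 t 1 0
    have r2 : S.e 2 0 u * S.e 3 1 0 = S.e 3 1 0 * S.e 2 0 u * S.o 2 (0 * 1) := S.e_e1 2 0 u 1 0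
    rw [zero_mul, S.o_zero, mul_one] at r2
    have r3 : S.e 2 0 (t * 1) * S.e 2 0 u = S.e 2 0 u * S.e 2 0 (t * 1) := by
      rw [S.e_mul, S.e_mul, add_comm (t * 1) u]
    have r4 : S.e 2 0 (t * 1) = 1 := by
      rw [S.o_zero, mul_one] at c3
      have e1 : S.o 1 t * S.e 2 0 u * S.e 3 1 0 = S.e 3 1 0 * (S.o 1 t * S.e 2 0 u) * S.e 2 0 (t * 1) := by
        calc S.o 1 t * S.e 2 0 u * S.e 3 1 0 = S.o 1 t * (S.e 2 0 u * S.e 3 1 0) := by group
          _ = (S.o 1 t * S.e 3 1 0) * S.e 2 0 u := by rw [r2]; group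
          _ = S.e 3 1 0 * S.o 1 t * (S.e 2 0 (t * 1) * S.e 2 0 u) := by rw [r1]; group
          _ = _ := by rw [r3]; group
      rw [e1] at c3
      exact mul_eq_left.1 c3
    have := (S.e_eq_one r4).2
    rwa [mul_one] at this
  subst ht
  refine ⟨u, ?_⟩
  rw [S.o_zero, S.o_zero, one_mul, mul_one]
  rfl

theorem comm_one {b x : G} (hb : b ∈ J S.XZ 1 8) (hx : x ∈ S.XZ 1) : ⁅b, x⁆ ∈ J S.XZ 2 7 := by
  have Z8 := S.zsys8
  obtain ⟨r, hr, y, hy, rfl⟩ := Z8.split_ll (a := 1) (b := 8) (by norm_num) (by norm_num) hb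
  have h4 : ⁅y, x⁆ ∈ J S.XZ 2 7 := Z8.comm_J_left' (a := 2) (b := 8) (c := 1) (by norm_num) (by norm_num) hy hx
  have e3 : r * x = x * r := by
    obtain ⟨r, rfl⟩ := (S.mem_XZ_odd 0 r).1 hr
    obtain ⟨x, rfl⟩ := (S.mem_XZ_odd 0 x).1 hx
    rw [S.o_add, S.o_add, add_comm]
  have h5 : ⁅r * y, x⁆ = r * ⁅y, x⁆ * r⁻¹ := by
    rw [commutatorElement_def, commutatorElement_def]
    calc r * y * x * (r * y)⁻¹ * x⁻¹ = r * (y * x * y⁻¹) * (r⁻¹ * x⁻¹) := by group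
      _ = r * (y * x * y⁻¹) * (x⁻¹ * r⁻¹) := by rw [← mul_inv_rev, ← e3, mul_inv_rev]
      _ = _ := by group
  rw [h5]
  exact Z8.conj_X (a := 2) (b := 7) (k := 1) (by norm_num) (by norm_num) (by norm_num) hr h4

theorem comm_seven {b x : G} (hb : b ∈ J S.XZ 1 8) (hx : x ∈ S.XZ 7) : ⁅b, x⁆ ∈ J S.XZ 2 6 := by
  have Z8 := S.zsys8
  obtain ⟨y, hy, r, hr, rfl⟩ := Z8.split_rr (a := 1) (b := 8) (by norm_num) (by norm_num) hb
  obtain ⟨y, hy1, s, hs, rfl⟩ := Z8.split_rr (a := 1) (b := 8 - 1) (by norm_num) (by norm_num) hy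
  have h4 : ⁅y, x⁆ ∈ J S.XZ 2 6 := Z8.comm_J_right (a := 1) (b := 6) (d := 7) (by norm_num) (by norm_num) hy1 hx
  have e3 : s * x = x * s := by
    obtain ⟨r, rfl⟩ := (S.mem_XZ_odd 3 s).1 hs
    obtain ⟨x, rfl⟩ := (S.mem_XZ_odd 3 x).1 hx
    rw [S.o_add, S.o_add, add_comm]
  have e4 : r * x = x * r := (Z8.commute_succ hx hr).symm
  have h5 : ⁅y * s * r, x⁆ = ⁅y, x⁆ := by
    rw [commutatorElement_def, commutatorElement_def]
    calc y * s * r * x * (y * s * r)⁻¹ * x⁻¹ = y * s * (r * x) * (r⁻¹ * s⁻¹ * y⁻¹) * x⁻¹ := by group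
      _ = y * (s * x) * (s⁻¹ * y⁻¹) * x⁻¹ := by rw [e4]; group
      _ = _ := by rw [e3]; group
  rw [h5]
  exact h4

/-- `C(Q) = Z_4`. -/
theorem centralizer_Q : Subgroup.centralizer (S.Q : Set G) = S.Zc 2 := by
  have Z8 := S.zsys8
  have m1 : ∀ r, S.o 0 r ∈ S.XZ 1 := fun r => by have := S.o_mem 0 r; push_cast at this; exact this
  have m7 : ∀ r, S.o 3 r ∈ S.XZ 7 := fun r => by have := S.o_mem 3 r; push_cast at this; exact this
  apply le_antisymm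
  · intro g hg
    rw [Subgroup.mem_centralizer_iff] at hg
    have hg' : ∀ x ∈ S.Q, g * x = x * g := fun x hx => (hg x hx).symm
    have hz : S.e 2 0 1 ∈ S.Zc 2 := ⟨1, rfl⟩
    have hz1 : S.e 2 0 1 ≠ 1 := fun h => one_ne_zero (S.e_eq_one h).2
    have hzQ : S.e 2 0 1 ∈ S.Q := mem_J (k := 4) (by have := S.e_mem 2 0 1; push_cast at this; exact this)
      (by norm_num) (by norm_num)
    have h1 : g * S.e 2 0 1 * g⁻¹ ∈ S.Zc 2 := by rw [hg' _ hzQ, mul_inv_cancel_right]; exact hz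
    obtain ⟨b, hb, t, ht, rfl | ⟨b', hb', rfl⟩⟩ := S.form_of_conj hz hz1 h1
    · -- `t` centralises `X_1` and `X_7`
      have key : ∀ x ∈ S.Q, ⁅b, t * x * t⁻¹⁆ = x * (t * x * t⁻¹)⁻¹ := by
        intro x hx
        have h2 := hg' x hx
        rw [commutatorElement_def]
        calc b * (t * x * t⁻¹) * b⁻¹ * (t * x * t⁻¹)⁻¹ = (b * t * x) * (b * t)⁻¹ * (t * x * t⁻¹)⁻¹ := by group
          _ = _ := by rw [h2]; group
      have k1 : S.o 0 1 * (t * S.o 0 1 * t⁻¹)⁻¹ = 1 := by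
        have h2 := key _ (mem_J (m1 1) (by norm_num) (by norm_num))
        have h3 := S.comm_one hb (S.T_conj ht 1 (m1 1))
        rw [h2] at h3
        exact Z8.inter 1 _ (mul_mem (m1 1) (inv_mem (S.T_conj ht 1 (m1 1)))) (J_mono le_rfl (by norm_num) h3)
      have k7 : S.o 3 1 * (t * S.o 3 1 * t⁻¹)⁻¹ = 1 := by
        have h2 := key _ (mem_J (m7 1) (by norm_num) (by norm_num))
        have h3 := S.comm_seven hb (S.T_conj ht 7 (m7 1))
        rw [h2] at h3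
        exact Z8.inter' (k := 7) (mul_mem (m7 1) (inv_mem (S.T_conj ht 7 (m7 1)))) (J_mono (by norm_num) (by norm_num) h3)
      rw [mul_inv_eq_one] at k1 k7
      obtain ⟨c, d, rfl⟩ := S.mem_T.1 ht
      rw [S.h_o, mul_one] at k1 k7
      have c1 : c * d = 1 := Units.ext (S.injO 0 k1).symm
      have c7 : d / Units.map (σ : F →* F) c * c⁻¹ = 1 := Units.ext (S.injO 3 k7).symm
      have hd : d = c⁻¹ := (inv_eq_of_mul_eq_one_right c1).symm
      have c8 : c * Units.map (σ : F →* F) c = 1 := by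
        apply Units.ext
        apply σ.injective
        have e1 : Units.map (σ : F →* F) (c * Units.map (σ : F →* F) c) = 1 := by
          rw [map_mul, map_map σ S.sq]
          have h5 : c⁻¹ * (Units.map (σ : F →* F) c)⁻¹ * c⁻¹ = 1 := by
            rw [hd] at c7; rw [← c7, div_eq_mul_inv]
          have h6 : Units.map (σ : F →* F) c * c ^ 2 = (c⁻¹ * (Units.map (σ : F →* F) c)⁻¹ * c⁻¹)⁻¹ := by
            rw [pow_two, mul_inv_rev, mul_inv_rev, inv_inv, inv_inv, mul_left_comm]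
          rw [h6, h5, inv_one]
        have := congrArg Units.val e1
        rw [Units.val_one, map_one]
        exact this
      have hc : c = 1 := S.unit_eq_one c8
      rw [hc, inv_one] at hd
      rw [hc, hd, S.h_one, mul_one] at hg'
      rw [hc, hd, S.h_one, mul_one]
      exact S.mem_Zc_of_comm hb hg'
    · exfalso
      -- conjugate by `b`
      have hx1 : S.o 0 1 ∈ S.Q := mem_J (m1 1) (by norm_num) (by norm_num)
      have h2 := hg' _ (Z8.conj_J (a := 1) (b := 7) (by norm_num) (by norm_num) (by norm_num) hb hx1)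
      -- `g (b x b⁻¹) = (b x b⁻¹) g`, `g = b (t n) b'`
      have h3 : (t * S.n2) * (b' * b * S.o 0 1 * (b' * b)⁻¹) * (t * S.n2)⁻¹ = S.o 0 1 := by
        calc (t * S.n2) * (b' * b * S.o 0 1 * (b' * b)⁻¹) * (t * S.n2)⁻¹ =
            b⁻¹ * ((b * (t * S.n2) * b') * (b * S.o 0 1 * b⁻¹)) * (b * (t * S.n2) * b')⁻¹ * b := by group
          _ = _ := by rw [h2]; group
      have h4 := S.comm_one (mul_mem hb' hb) (m1 1)
      have h5 : (t * S.n2) * (b' * b * S.o 0 1 * (b' * b)⁻¹) * (t * S.n2)⁻¹ =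
          (t * (S.n2 * ⁅b' * b, S.o 0 1⁆ * S.n2⁻¹) * t⁻¹) * (t * (S.n2 * S.o 0 1 * S.n2⁻¹) * t⁻¹) := by
        rw [commutatorElement_def]; group
      have h6 : t * (S.n2 * ⁅b' * b, S.o 0 1⁆ * S.n2⁻¹) * t⁻¹ ∈ J S.XZ 1 6 :=
        S.T_conj_J ht (S.n2_refl.mem_J h4 (by norm_num) (by norm_num))
      have h7 : t * (S.n2 * S.o 0 1 * S.n2⁻¹) * t⁻¹ ∈ S.XZ 7 :=
        S.T_conj ht 7 (S.n2_refl.mem' (m1 1) (by norm_num))
      have h8 : t * (S.n2 * S.o 0 1 * S.n2⁻¹) * t⁻¹ ∈ J S.XZ 1 6 := by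
        have e1 : t * (S.n2 * S.o 0 1 * S.n2⁻¹) * t⁻¹ =
            (t * (S.n2 * ⁅b' * b, S.o 0 1⁆ * S.n2⁻¹) * t⁻¹)⁻¹ * S.o 0 1 := by
          rw [eq_inv_mul_iff_mul_eq, ← h5, h3]
        rw [e1]
        exact mul_mem (inv_mem h6) (mem_J (m1 1) (by norm_num) (by norm_num))
      have h9 := Z8.inter' (k := 7) h7 (J_mono (by norm_num) (by norm_num) h8)
      have h10 : S.o 0 1 = 1 := by
        have e1 : S.o 0 1 = S.n2⁻¹ * (t⁻¹ * (t * (S.n2 * S.o 0 1 * S.n2⁻¹) * t⁻¹) * t) * S.n2 := by group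
        rw [e1, h9]; group
      exact one_ne_zero (S.o_eq_one h10)
  · intro g hg
    rw [Subgroup.mem_centralizer_iff]
    intro x hx
    exact S.comm_PL (J_mono (by norm_num) (by norm_num) hx) hg

end Full

end Cfsg.Agent.KFacts.TwF4
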