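import Cfsg.Agent.KFacts.TwF4.Torus
import Cfsg.Agent.Schreier.TwFFour
import Cfsg.Agent.SplitTwo.RootSysZ

/-!
# `Full σ G`: coordinates, root group system and torus of a group of type `²F₄`

`full hK hφ : Full φ ↥(twistedF4 K (2 ^ m))`.
-/

set_option autoImplicit false
set_option linter.unusedSectionVars false

namespace Cfsg.Agent.KFacts.TwF4

open Cfsg.Agent.SplitTwo Cfsg.Agent.TitsThree.RankTwoZ

/-- the index `2 a + 1` -/
def od (a : ZMod 8) : ZMod (2 * 8) := ((2 * a.val + 1 : ℕ) : ZMod (2 * 8))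

/-- the index `2 a` -/
def ev (a : ZMod 8) : ZMod (2 * 8) := ((2 * a.val : ℕ) : ZMod (2 * 8))

theorem od_add_one : ∀ a : ZMod 8, od (a + 1) = 2 + od a := by decide
theorem ev_add_one : ∀ a : ZMod 8, ev (a + 1) = 2 + ev a := by decide
theorem od_or_ev : ∀ k : ZMod (2 * 8), (∃ a, k = od a) ∨ ∃ a, k = ev a := by decide

/-- Coordinates, root groups and torus of a group of type `²F₄`. -/
structure Full {F : Type*} [Field F] (σ : F →+* F) (G : Type*) [Group G] extends Sys σ G where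
  /-- the root groups -/
  R : RootSys 8 G
  mem_odd : ∀ (a : ZMod 8) (g : G), g ∈ R.X (od a) ↔ ∃ t, o a t = g
  mem_even : ∀ (a : ZMod 8) (g : G), g ∈ R.X (ev a) ↔ ∃ p u, e a p u = g
  /-- the torus -/
  h : Fˣ → Fˣ → G
  h_o : ∀ c d a x, h c d * o a x * (h c d)⁻¹ = o a ((chO σ a c d : F) * x)
  h_e : ∀ c d a p u, h c d * e a p u * (h c d)⁻¹ = e a ((chE σ a c d : F) * p)
    ((chE σ a c d : F) * σ (chE σ a c d : F) * u)
  mem_torus : ∀ g, g ∈ torus R.X ↔ ∃ c d, h c d = g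
  n1_word : n1 = o 0 1 * o 4 1 * o 0 1
  n2_word : n2 = e 4 0 1 * e 0 1 1 * e 4 1 0
  n1_sq : n1 * n1 = 1
  n2_sq : n2 * n2 = 1
  sq : ∀ x, σ (σ x) = x ^ 2
  two : (2 : F) = 0
  h_inj : ∀ c d c' d', h c d = h c' d' → c = c' ∧ d = d'

end Cfsg.Agent.KFacts.TwF4

namespace Cfsg.Agent.KFacts.TwF4.Inst

open Cfsg.Lie Cfsg.Agent.ChevalleyStructure.TwF4.Rel Cfsg.Agent.ChevalleyStructure.TwF4.Fix
open Cfsg.Agent.ChevalleyStructure.TwF4.Groups Cfsg.Agent.ChevalleyStructure.TwF4.RankOne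
open Cfsg.Agent.ChevalleyStructure.TwF4.Twisted Cfsg.Agent.ChevalleyStructure.TwF4.TwistedFix
open Cfsg.Agent.ChevalleyStructure.TwF4.BN
open Cfsg.Agent.ChevalleyStructure.F4NTab
open Cfsg.Agent.Octagon.Pkg Cfsg.Agent.Octagon.KRel Cfsg.Agent.Octagon.KSys Cfsg.Agent.Octagon.KPar
open Cfsg.Agent.Octagon.KRoot (maps_rot rootSys)
open Cfsg.Agent.ChevalleyStructure.TwF4.Torus Cfsg.Agent.ChevalleyStructure.TwF4.TwGen
open Cfsg.Agent.KFacts.TwF4 (Sys)
open Cfsg.Agent.TitsThree.RankTwoZ Cfsg.Agent.SplitTwo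
open Cfsg.Agent.Schreier.TwFFour (U0 B0 node1 node2 xa_U xb_U)

variable {K : Type*} [Field K] [CharP K 2] [Finite K] {φ : K →+* K} {e : ℕ}

/-! ### the root groups -/

theorem memOdd (hφ : Rln φ e) (a : ZMod 8) : ∀ g : ↥(twistedF4 K e), g ∈ XX K e (od a) ↔ ∃ t, ro hφ a t = g := by
  refine Sys.ind8 (P := fun a => ∀ g : ↥(twistedF4 K e), g ∈ XX K e (od a) ↔ ∃ t, ro hφ a t = g) 0
    (fun g => memXX1 hφ g) ?_ a
  intro a ih g
  have h1 := maps_rot hφ (od a) ((m1 K e * m2 hφ)⁻¹ * g * (m1 K e * m2 hφ))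
  have e1 : Cfsg.Agent.Octagon.KRoot.rot hφ * ((m1 K e * m2 hφ)⁻¹ * g * (m1 K e * m2 hφ)) *
      (Cfsg.Agent.Octagon.KRoot.rot hφ)⁻¹ = g := by
    show (m1 K e * m2 hφ) * ((m1 K e * m2 hφ)⁻¹ * g * (m1 K e * m2 hφ)) * (m1 K e * m2 hφ)⁻¹ = g
    group
  rw [e1] at h1
  rw [od_add_one, h1, ih]
  constructor
  · rintro ⟨t, ht⟩
    refine ⟨t, ?_⟩
    rw [← rot_ro, ht]; group
  · rintro ⟨t, rfl⟩
    refine ⟨t, ?_⟩
    rw [← rot_ro]; group

theorem memEven (hφ : Rln φ e) (a : ZMod 8) :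
    ∀ g : ↥(twistedF4 K e), g ∈ XX K e (ev a) ↔ ∃ p u, re hφ a p u = g := by
  refine Sys.ind8 (P := fun a => ∀ g : ↥(twistedF4 K e), g ∈ XX K e (ev a) ↔ ∃ p u, re hφ a p u = g) 4
    (fun g => memXX8 hφ g) ?_ a
  intro a ih g
  have h1 := maps_rot hφ (ev a) ((m1 K e * m2 hφ)⁻¹ * g * (m1 K e * m2 hφ))
  have e1 : Cfsg.Agent.Octagon.KRoot.rot hφ * ((m1 K e * m2 hφ)⁻¹ * g * (m1 K e * m2 hφ)) *
      (Cfsg.Agent.Octagon.KRoot.rot hφ)⁻¹ = g := by
    show (m1 K e * m2 hφ) * ((m1 K e * m2 hφ)⁻¹ * g * (m1 K e * m2 hφ)) * (m1 K e * m2 hφ)⁻¹ = g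
    group
  rw [e1] at h1
  rw [ev_add_one, h1, ih]
  constructor
  · rintro ⟨t, u, ht⟩
    refine ⟨t, u, ?_⟩
    rw [← rot_re, ht]; group
  · rintro ⟨t, u, rfl⟩
    refine ⟨t, u, ?_⟩
    rw [← rot_re]; group

/-! ### words -/

theorem n1_word (hφ : Rln φ e) : m1 K e = ro hφ 0 1 * ro hφ 4 1 * ro hφ 0 1 := by
  apply Subtype.ext
  show n1 K = go φ 0 1 * go φ 4 1 * go φ 0 1
  rw [n1_eq]
  have h0 : go φ 0 (1 : K) = X 33 1 * X 24 1 := by
    show X 33 1 * X 24 (φ 1) = _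
    rw [map_one]
  have h4 : go φ 4 (1 : K) = X 14 1 * X 23 1 := by
    show X 14 1 * X 23 (φ 1) = _
    rw [map_one]
  rw [h0, h4]

theorem n2_word (hφ : Rln φ e) : m2 hφ = re hφ 4 0 1 * re hφ 0 1 1 * re hφ 4 1 0 := by
  apply Subtype.ext
  show n2 K = ge φ 4 0 1 * ge φ 0 1 1 * ge φ 4 1 0
  rw [n2_eq]
  have h1 : ge φ 4 (0 : K) 1 = X 28 1 * X 30 1 := by
    show X 27 0 * X 25 (φ 0) * X 28 (0 * φ 0 + 1) * X 30 (φ 1) = _
    rw [map_zero, map_one, zero_mul, zero_add, X_zero, X_zero, one_mul, one_mul]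
  have h2 : ge φ 0 (1 : K) 1 = X 20 1 * X 22 1 * X 17 1 := by
    show X 20 1 * X 22 (φ 1) * X 19 (1 * φ 1 + 1) * X 17 (φ 1) = _
    rw [map_one, one_mul, CharTwo.add_self_eq_zero, X_zero, mul_one]
  have h3 : ge φ 4 (1 : K) 0 = X 27 1 * X 25 1 * X 28 1 := by
    show X 27 1 * X 25 (φ 1) * X 28 (1 * φ 1 + 0) * X 30 (φ 0) = _
    rw [map_one, map_zero, one_mul, add_zero, X_zero, mul_one]
  rw [h1, h2, h3]

/-! ### the torus -/

/-- all roots occur in the tables -/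
theorem tab_all : ((List.range 48).all fun r => (List.finRange 8).any fun a =>
    oA a == r || oB a == r || eA a == r || eB a == r || eC a == r || eD a == r) = true := by decide +kernel

theorem chi_all (hφ : Rln φ e) {s t : Kˣ} (h0 : chi (tc e s t) (eA 0) = 1) (h1 : chi (tc e s t) (eA 1) = 1)
    {r : ℕ} (hr : r < 48) : chi (tc e s t) r = 1 := by
  have hE : ∀ a, chi (tc e s t) (eA a) = 1 := by
    intro a
    rw [chi_eA hφ, h0, h1]
    have : ∀ a : Fin 8, chE φ (a : ZMod 8) (1 : Kˣ) 1 = 1 := by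
      intro a
      fin_cases a <;> simp [chE]
    exact this a
  have hO : ∀ a, chi (tc e s t) (oA a) = 1 := by
    intro a
    obtain ⟨-, -, -, -, h5, -⟩ := tabOk a
    rw [chi_sum h5, hE, hE, one_mul]
  have h := List.all_eq_true.1 tab_all r (List.mem_range.2 hr)
  rw [List.any_eq_true] at h
  obtain ⟨a, h⟩ : ∃ a : ZMod 8, (oA a == r || oB a == r || eA a == r || eB a == r || eC a == r || eD a == r) = true := by
    obtain ⟨a, -, h⟩ := h
    exact ⟨a, h⟩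
  obtain ⟨b1, b2, b3, b4, -, -⟩ := tabOk a
  have hB : chi (tc e s t) (oB a) = 1 := by rw [chi_bar hφ b1, hO, map_one]
  have hEB : chi (tc e s t) (eB a) = 1 := by rw [chi_bar hφ b2, hE, map_one]
  have hEC : chi (tc e s t) (eC a) = 1 := by rw [chi_sum b4, hE, hEB, one_mul]
  have hED : chi (tc e s t) (eD a) = 1 := by rw [chi_bar hφ b3, hEC, map_one]
  simp only [Bool.or_eq_true, beq_iff_eq] at h
  rcases h with ((((h | h) | h) | h) | h) | h
  · rw [← h]; exact hO a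
  · rw [← h]; exact hB
  · rw [← h]; exact hE a
  · rw [← h]; exact hEB
  · rw [← h]; exact hEC
  · rw [← h]; exact hED

theorem T_eq_one (hφ : Rln φ e) {s t : Kˣ} (h0 : chi (tc e s t) (eA 0) = 1) (h1 : chi (tc e s t) (eA 1) = 1) :
    (T (tc e s t) : GL chevF4.Idx K) = 1 := by
  apply Units.ext
  rw [coe_T, Units.val_one, ← Matrix.diagonal_one]
  congr 1
  funext j
  rcases j with j | j
  · rw [chiIdx_inl]; rfl
  · rw [chiIdx_inr, chi_all hφ h0 h1 j.2]; rfl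

theorem T_tc_eq (hφ : Rln φ e) {s t s' t' : Kˣ} (h0 : chi (tc e s t) (eA 0) = chi (tc e s' t') (eA 0))
    (h1 : chi (tc e s t) (eA 1) = chi (tc e s' t') (eA 1)) :
    (T (tc e s t) : GL chevF4.Idx K) = T (tc e s' t') := by
  have e1 : tc e s t = tc e s' t' * tc e (s'⁻¹ * s) (t'⁻¹ * t) := by
    rw [tc_mul, mul_inv_cancel_left, mul_inv_cancel_left]
  have k0 : chi (tc e (s'⁻¹ * s) (t'⁻¹ * t)) (eA 0) = 1 := by
    rw [e1, chi_mul] at h0
    exact mul_eq_left.1 h0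
  have k1 : chi (tc e (s'⁻¹ * s) (t'⁻¹ * t)) (eA 1) = 1 := by
    rw [e1, chi_mul] at h1
    exact mul_eq_left.1 h1
  rw [e1, map_mul, T_eq_one hφ k0 k1, mul_one]

/-- the torus element with the characters `chE a c d` -/
noncomputable def hT (hφ : Rln φ e) (c d : Kˣ) : ↥(twistedF4 K e) :=
  ⟨T (tc e (exists_tc hφ c d).choose (exists_tc hφ c d).choose_spec.choose), T_tc_mem hφ.pos.ne' (pow_e hφ) _ _⟩

theorem hT_spec (hφ : Rln φ e) (c d : Kˣ) : ∃ s t : Kˣ, (hT hφ c d : GL chevF4.Idx K) = T (tc e s t) ∧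
    chi (tc e s t) (eA 0) = c ∧ chi (tc e s t) (eA 1) = d :=
  ⟨_, _, rfl, (exists_tc hφ c d).choose_spec.choose_spec⟩

theorem hT_eq (hφ : Rln φ e) {c d s t : Kˣ} (h0 : chi (tc e s t) (eA 0) = c) (h1 : chi (tc e s t) (eA 1) = d) :
    (hT hφ c d : GL chevF4.Idx K) = T (tc e s t) := by
  obtain ⟨s', t', h, k0, k1⟩ := hT_spec hφ c d
  rw [h]
  exact T_tc_eq hφ (k0.trans h0.symm) (k1.trans h1.symm)

theorem hT_ro (hφ : Rln φ e) (c d : Kˣ) (a : ZMod 8) (x : K) :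
    hT hφ c d * ro hφ a x * (hT hφ c d)⁻¹ = ro hφ a ((chO φ a c d : K) * x) := by
  obtain ⟨s, t, h, h0, h1⟩ := hT_spec hφ c d
  apply Subtype.ext
  show (hT hφ c d : GL chevF4.Idx K) * go φ a x * (hT hφ c d : GL chevF4.Idx K)⁻¹ = go φ a _
  rw [h, tc_go hφ, chi_oA hφ, h0, h1]

theorem hT_re (hφ : Rln φ e) (c d : Kˣ) (a : ZMod 8) (p u : K) : hT hφ c d * re hφ a p u * (hT hφ c d)⁻¹ =
    re hφ a ((chE φ a c d : K) * p) ((chE φ a c d : K) * φ (chE φ a c d : K) * u) := by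
  obtain ⟨s, t, h, h0, h1⟩ := hT_spec hφ c d
  apply Subtype.ext
  show (hT hφ c d : GL chevF4.Idx K) * ge φ a p u * (hT hφ c d : GL chevF4.Idx K)⁻¹ = ge φ a _ _
  rw [h, tc_ge hφ, chi_eA hφ, h0, h1]

theorem hT_inj (hφ : Rln φ e) (c d c' d' : Kˣ) (h : hT hφ c d = hT hφ c' d') : c = c' ∧ d = d' := by
  have key : ∀ (a : ZMod 8), chE φ a c d = chE φ a c' d' := by
    intro a
    have h1 := hT_re hφ c d a 1 0
    have h2 := hT_re hφ c' d' a 1 0
    rw [← h, h1] at h2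
    have h3 := ((sys hφ).injE a _ _ _ _ h2).1
    rw [mul_one, mul_one] at h3
    exact Units.ext h3
  exact ⟨key 0, key 1⟩

/-! ### the torus is the pointwise stabiliser of the apartment -/

theorem U0_normal_B (hφ : Rln φ e) : Subgroup.normalizer (U0 K e : Set ↥(twistedF4 K e)) = B0 K e := by
  haveI : Fintype K := Fintype.ofFinite K
  obtain ⟨P, hB, hN, hS⟩ := exists_bnPair (K := K) hφ
  have hB' : P.B = B0 K e := hB
  rw [← hB']
  refine Cfsg.Agent.Schreier.BNSch.normalizer_eq P _ ?_ ?_ ?_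
  · rw [hB']
    intro u hu
    exact U_le_borel hu
  · intro b hb u hu
    rw [hB'] at hb
    refine Cfsg.Agent.Schreier.TwFFour.borel_norm posB ?_ hb hu
    intro u hu v hv
    exact mul_mem (mul_mem hu hv) (inv_mem hu)
  · rw [hS]
    rintro _ ⟨i, rfl⟩
    rw [hB']
    revert i
    refine Fin.forall_fin_two.2 ⟨?_, ?_⟩
    · refine ⟨⟨xa e 1, xa_mem 1⟩, xa_U 1, ?_⟩
      show (n1 K)⁻¹ * xa e 1 * n1 K ∉ chevF4.borelSubgroup K
      intro h
      refine conj_not_mem (n := n1 K) (xa_ne_one e) (neg_le_neg' (cls_neg (by norm_num)) (n1_1_9 _ (xa_pos e 1))) ?_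
      rw [n1_inv] at h ⊢
      exact h
    · refine ⟨⟨xb e 0 1, xb_mem 0 1⟩, xb_U 0 1, ?_⟩
      show (n2 K)⁻¹ * xb e 0 1 * n2 K ∉ chevF4.borelSubgroup K
      intro h
      refine conj_not_mem (n := n2 K) (xb_ne_one e) (neg_le_neg' (cls_neg (by norm_num)) (n2_8_16 _ (xb_pos e 0 1))) ?_
      rw [n2_inv] at h ⊢
      exact h

theorem XX_pos (k : ℕ) (h1 : 1 ≤ k) (h2 : k ≤ 8) : XX K e ((k : ℕ) : ZMod (2 * 8)) ≤ U0 K e := by
  intro x hx
  have h0 : rep ((k : ℕ) : ZMod (2 * 8)) = k := by interval_cases k <;> decide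
  have hx' : (x : GL chevF4.Idx K) ∈ GA K (clsB (rep ((k : ℕ) : ZMod (2 * 8)))) := hx
  rw [h0] at hx'
  exact pos_le_pos (cls_pos h2) hx'

theorem geB_mem (hφ : Rln φ e) : ∀ n k : ℕ, k + n = 8 → ∀ u : ↥(twistedF4 K e), (u : GL chevF4.Idx K) ∈ GA K (geB (k + 1)) →
    u ∈ ⨆ k ∈ Set.Icc (1 : ℕ) 8, XX K e ((k : ℕ) : ZMod (2 * 8)) := by
  intro n
  induction n with
  | zero =>
    intro k hk u hu
    have : k = 8 := by omega
    subst this
    have h1 : u = 1 := Subtype.ext (GA_geB9 (u : GL chevF4.Idx K) hu)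
    rw [h1]; exact one_mem _
  | succ n ih =>
    intro k hk u hu
    obtain ⟨v, hv, x, hx, hvF, hxF, he⟩ := peel hφ k (by omega) u hu (twisted_le_Fix hφ u.2)
    have hxG := cls_le hφ k (by omega) x hx hxF
    have hvG : v ∈ twistedF4 K e := by
      have : v = (u : GL chevF4.Idx K) * x⁻¹ := by rw [he]; group
      rw [this]; exact mul_mem u.2 (inv_mem hxG)
    have e1 : u = ⟨v, hvG⟩ * ⟨x, hxG⟩ := Subtype.ext he
    rw [e1]
    refine mul_mem (ih (k + 1) (by omega) ⟨v, hvG⟩ hv) ?_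
    have h2 : (⟨x, hxG⟩ : ↥(twistedF4 K e)) ∈ XX K e ((k + 1 : ℕ) : ZMod (2 * 8)) := by
      have h0 : rep ((k + 1 : ℕ) : ZMod (2 * 8)) = k + 1 := by
        have : k < 8 := by omega
        interval_cases k <;> decide
      show x ∈ GA K (clsB (rep ((k + 1 : ℕ) : ZMod (2 * 8))))
      rw [h0]; exact hx
    exact (le_iSup₂_of_le (f := fun (k : ℕ) (_ : k ∈ Set.Icc (1 : ℕ) 8) => XX K e ((k : ℕ) : ZMod (2 * 8)))
      (k + 1) ⟨by omega, by omega⟩ le_rfl) h2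

/-- the positive part is generated by the positive root groups -/
theorem U0_eq (hφ : Rln φ e) : U0 K e = ⨆ k ∈ Set.Icc (1 : ℕ) 8, XX K e ((k : ℕ) : ZMod (2 * 8)) := by
  apply le_antisymm
  · intro u hu
    refine geB_mem hφ 8 0 rfl u ?_
    rw [geB1]; exact hu
  · exact iSup₂_le fun k hk => XX_pos k hk.1 hk.2

theorem torus_norm (hφ : Rln φ e) {t : ↥(twistedF4 K e)} (ht : t ∈ torus (XX K e)) : t ∈ B0 K e := by
  rw [← U0_normal_B hφ, Subgroup.mem_normalizer_iff]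
  have key : ∀ t ∈ torus (XX K e), ∀ u ∈ U0 K e, t * u * t⁻¹ ∈ U0 K e := by
    intro t ht
    have h1 : U0 K e ≤ (U0 K e).comap (MulAut.conj t).toMonoidHom := by
      conv_lhs => rw [U0_eq hφ]
      refine iSup₂_le fun k hk x hx => ?_
      exact XX_pos k hk.1 hk.2 ((ht _ _).2 hx)
    exact fun u hu => h1 hu
  intro u
  refine ⟨fun hu => key t ht u hu, fun hu => ?_⟩
  have := key t⁻¹ (inv_mem ht) _ hu
  have e1 : t⁻¹ * (t * u * t⁻¹) * t⁻¹⁻¹ = u := by group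
  rwa [e1] at this

/-- the permutation of the fourth power of the rotation -/
theorem p4_neg : ((List.range 48).all fun r => decide (r < 24) ||
    decide (w1 (w2 (w1 (w2 (w1 (w2 (w1 (w2 r))))))) < 24)) = true := by decide +kernel

theorem Act_rot4 : Act ((n1 K * n2 K) * ((n1 K * n2 K) * ((n1 K * n2 K) * (n1 K * n2 K))))
    (fun r => w1 (w2 (w1 (w2 (w1 (w2 (w1 (w2 r)))))))) := by
  have a1 : Act (n1 K * n2 K) (fun r => w1 (w2 r)) := Act_mul (Act_n1 (K := K)) Act_n2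
  have a2 := Act_mul a1 a1
  have a3 := Act_mul a1 a2
  have a4 := Act_mul a1 a3
  exact a4

theorem torus_diag (hφ : Rln φ e) {t : ↥(twistedF4 K e)} (ht : t ∈ torus (XX K e)) :
    (t : GL chevF4.Idx K) ∈ chevF4.diagonalSubgroup K := by
  set w : ↥(twistedF4 K e) := (m1 K e * m2 hφ) * ((m1 K e * m2 hφ) * ((m1 K e * m2 hφ) * (m1 K e * m2 hφ))) with hw
  have hwA : Act (w : GL chevF4.Idx K) (fun r => w1 (w2 (w1 (w2 (w1 (w2 (w1 (w2 r)))))))) := Act_rot4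
  -- `w` rotates by `8`
  have hwM : Maps (XX K e) w (fun k => 8 + k) := by
    have h1 := maps_rot hφ
    exact (h1.mul (h1.mul (h1.mul h1))).congr (fun k => by simp only [Function.comp]; ring)
  have hwi : Maps (XX K e) w⁻¹ (fun k => 8 + k) := hwM.inv (fun k => by
    have : (8 : ZMod (2 * 8)) + (8 + k) = k := by rw [← add_assoc]; simp only [show (8 : ZMod (2 * 8)) + 8 = 0 by decide, zero_add]
    exact this)
  have ht' : w * t * w⁻¹ ∈ torus (XX K e) := by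
    rw [mem_torus]
    exact ((hwM.mul ht).mul hwi).congr (fun k => by
      show (8 : ZMod (2 * 8)) + (8 + k) = k
      rw [← add_assoc]; simp only [show (8 : ZMod (2 * 8)) + 8 = 0 by decide, zero_add])
  have h1 := torus_norm hφ ht
  have h2 := torus_norm hφ ht'
  obtain ⟨u, hu, h, hh, hth⟩ := (mem_borel_iff hHX (t : GL chevF4.Idx K)).1 h1
  have h3 : (w : GL chevF4.Idx K) * h * (w : GL chevF4.Idx K)⁻¹ ∈ chevF4.diagonalSubgroup K := Act_conj_H hwA h hh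
  have h4 : (w : GL chevF4.Idx K) * u * (w : GL chevF4.Idx K)⁻¹ ∈ GA K negB := by
    refine Act_conj hwA ?_ u hu
    intro r hr hA
    have h5 := List.all_eq_true.1 p4_neg r (List.mem_range.2 hr)
    have h6 : 24 ≤ r := of_decide_eq_true hA
    simp only [Bool.or_eq_true, decide_eq_true_eq] at h5
    exact decide_eq_true (h5.resolve_left (by omega))
  have h5 : (w : GL chevF4.Idx K) * u * (w : GL chevF4.Idx K)⁻¹ ∈ chevF4.borelSubgroup K := by
    have h6 : (w : GL chevF4.Idx K) * (t : GL chevF4.Idx K) * (w : GL chevF4.Idx K)⁻¹ ∈ chevF4.borelSubgroup K := h2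
    rw [hth] at h6
    have e1 : (w : GL chevF4.Idx K) * u * (w : GL chevF4.Idx K)⁻¹ =
        ((w : GL chevF4.Idx K) * (u * h) * (w : GL chevF4.Idx K)⁻¹) *
          ((w : GL chevF4.Idx K) * h * (w : GL chevF4.Idx K)⁻¹)⁻¹ := by group
    rw [e1]
    exact mul_mem h6 (inv_mem (le_sup_right (a := chevF4.posUnipotent K) h3))
  have h6 := borel_inf_negB _ h5 h4
  have h7 : u = 1 := by
    have e1 : u = (w : GL chevF4.Idx K)⁻¹ * ((w : GL chevF4.Idx K) * u * (w : GL chevF4.Idx K)⁻¹) * (w : GL chevF4.Idx K) := by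
      group
    rw [e1, h6]; group
  rw [hth, h7, one_mul]
  exact hh

theorem torus_ge {g : ↥(twistedF4 K e)} (hg : (g : GL chevF4.Idx K) ∈ chevF4.diagonalSubgroup K) :
    g ∈ torus (XX K e) := by
  have key : ∀ g : ↥(twistedF4 K e), (g : GL chevF4.Idx K) ∈ chevF4.diagonalSubgroup K → ∀ k, ∀ x ∈ XX K e k,
      g * x * g⁻¹ ∈ XX K e k := fun g hg k x hx => H_norm_GA hHX (clsB (rep k)) _ hg _ hx
  intro k x
  refine ⟨fun hx => ?_, fun hx => key g hg k x hx⟩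
  have := key g⁻¹ (inv_mem hg) k _ hx
  have e1 : g⁻¹ * (g * x * g⁻¹) * g⁻¹⁻¹ = x := by group
  rwa [e1] at this

end Cfsg.Agent.KFacts.TwF4.Inst

namespace Cfsg.Agent.KFacts.TwF4.Inst

open Cfsg.Lie Cfsg.Agent.ChevalleyStructure.TwF4.Rel Cfsg.Agent.ChevalleyStructure.TwF4.Fix
open Cfsg.Agent.ChevalleyStructure.TwF4.Groups Cfsg.Agent.ChevalleyStructure.TwF4.RankOne
open Cfsg.Agent.ChevalleyStructure.TwF4.Twisted Cfsg.Agent.ChevalleyStructure.TwF4.TwistedFix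
open Cfsg.Agent.Octagon.Pkg Cfsg.Agent.Octagon.KRel Cfsg.Agent.Octagon.KSys Cfsg.Agent.Octagon.KPar
open Cfsg.Agent.Octagon.KRoot (maps_rot rootSys)
open Cfsg.Agent.ChevalleyStructure.TwF4.Torus Cfsg.Agent.ChevalleyStructure.TwF4.TwGen
open Cfsg.Agent.TitsThree.RankTwoZ Cfsg.Agent.SplitTwo

variable {K : Type*} [Field K] [Fintype K] {m : ℕ} {φ : K →+* K}

/-- **The full coordinates of `²F₄(q)`.** -/
noncomputable def full [CharP K 2] (hK : Fintype.card K = 2 ^ (2 * m + 1)) (hφ : Rln φ (2 ^ m)) :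
    Full φ ↥(twistedF4 K (2 ^ m)) where
  toSys := sys hφ
  R := rootSys hφ
  mem_odd := memOdd hφ
  mem_even := memEven hφ
  h := hT hφ
  h_o := hT_ro hφ
  h_e := hT_re hφ
  mem_torus := by
    intro g
    constructor
    · intro hg
      have h1 := torus_diag hφ hg
      obtain ⟨s, t, h2⟩ := (Cfsg.Agent.ChevalleyStructure.TwF4.TorusFix.mem_iff hK (g : GL chevF4.Idx K)).1 ⟨h1, g.2⟩
      exact ⟨_, _, Subtype.ext ((hT_eq hφ rfl rfl).trans h2.symm)⟩
    · rintro ⟨c, d, rfl⟩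
      obtain ⟨s, t, h, -, -⟩ := hT_spec hφ c d
      refine torus_ge ?_
      rw [h, diagonal_eq_range]
      exact ⟨_, rfl⟩
  n1_word := n1_word hφ
  n2_word := n2_word hφ
  n1_sq := Subtype.ext n1_mul_self
  n2_sq := Subtype.ext n2_mul_self
  sq := sq_phi hφ
  two := CharTwo.two_eq_zero
  h_inj := hT_inj hφ

end Cfsg.Agent.KFacts.TwF4.Inst
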