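import Cfsg.Agent.KFacts.TwF4.Sys
import Cfsg.Agent.Octagon.KRoot
import Cfsg.Agent.ChevalleyStructure.TwF4.TorusFix

/-!
# The model `²F₄(q)` has coordinates `Sys`
-/

set_option autoImplicit false
set_option linter.unusedSectionVars false

namespace Cfsg.Agent.KFacts.TwF4.Inst

open Cfsg.Lie Cfsg.Agent.ChevalleyStructure.TwF4.Rel Cfsg.Agent.ChevalleyStructure.TwF4.Fix
open Cfsg.Agent.ChevalleyStructure.TwF4.Groups Cfsg.Agent.ChevalleyStructure.TwF4.RankOne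
open Cfsg.Agent.ChevalleyStructure.TwF4.Twisted Cfsg.Agent.ChevalleyStructure.TwF4.TwistedFix
open Cfsg.Agent.ChevalleyStructure.TwF4.BN
open Cfsg.Agent.ChevalleyStructure.F4NTab
open Cfsg.Agent.Octagon.Pkg Cfsg.Agent.Octagon.KRel Cfsg.Agent.Octagon.KSys Cfsg.Agent.Octagon.KPar
open Cfsg.Agent.ChevalleyStructure.TwF4.Torus Cfsg.Agent.ChevalleyStructure.TwF4.TwGen
open Cfsg.Agent.KFacts.TwF4 (Sys)

/-! ### the tables -/

/-- first root of `X_{2a+1}` -/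
def oA : ZMod 8 → ℕ := (![33, 38, 39, 37, 14, 9, 8, 10] : Fin 8 → ℕ)
/-- second root of `X_{2a+1}` -/
def oB : ZMod 8 → ℕ := (![24, 43, 45, 32, 23, 4, 2, 15] : Fin 8 → ℕ)
/-- first root of `X_{2a}` -/
def eA : ZMod 8 → ℕ := (![20, 34, 29, 35, 27, 13, 18, 12] : Fin 8 → ℕ)
/-- second root of `X_{2a}` -/
def eB : ZMod 8 → ℕ := (![22, 26, 41, 31, 25, 21, 6, 16] : Fin 8 → ℕ)
/-- third root of `X_{2a}` -/
def eC : ZMod 8 → ℕ := (![19, 36, 44, 40, 28, 11, 3, 7] : Fin 8 → ℕ)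
/-- fourth root of `X_{2a}` -/
def eD : ZMod 8 → ℕ := (![17, 42, 47, 46, 30, 5, 0, 1] : Fin 8 → ℕ)

theorem lt48 : ∀ a : ZMod 8, oA a < 48 ∧ oB a < 48 ∧ eA a < 48 ∧ eB a < 48 ∧ eC a < 48 ∧ eD a < 48 := by decide

theorem w1_tab : ∀ a : ZMod 8, w1 (oA a) = oA (4 - a) ∧ w1 (oB a) = oB (4 - a) ∧ w1 (eA a) = eA (5 - a) ∧
    w1 (eB a) = eB (5 - a) ∧ w1 (eC a) = eC (5 - a) ∧ w1 (eD a) = eD (5 - a) := by decide

theorem w2_tab : ∀ a : ZMod 8, w2 (oA a) = oA (3 - a) ∧ w2 (oB a) = oB (3 - a) ∧ w2 (eA a) = eA (4 - a) ∧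
    w2 (eB a) = eB (4 - a) ∧ w2 (eC a) = eC (4 - a) ∧ w2 (eD a) = eD (4 - a) := by decide

variable {K : Type*} [Field K] [CharP K 2] [Finite K] {φ : K →+* K} {e : ℕ}

/-- the root elements in `GL` -/
def go (φ : K →+* K) (a : ZMod 8) (t : K) : GL chevF4.Idx K := xo φ (oA a) (oB a) t

/-- the root elements in `GL` -/
def ge (φ : K →+* K) (a : ZMod 8) (p u : K) : GL chevF4.Idx K := xe φ (eA a) (eB a) (eC a) (eD a) p u

theorem n1_go (a : ZMod 8) (t : K) : n1 K * go φ a t * (n1 K)⁻¹ = go φ (4 - a) t := by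
  unfold go
  rw [conj_xo Act_n1 _ _ (lt48 a).1 (lt48 a).2.1, (w1_tab a).1, (w1_tab a).2.1]

theorem n1_ge (a : ZMod 8) (p u : K) : n1 K * ge φ a p u * (n1 K)⁻¹ = ge φ (5 - a) p u := by
  unfold ge
  obtain ⟨-, -, h1, h2, h3, h4⟩ := w1_tab a
  obtain ⟨-, -, l1, l2, l3, l4⟩ := lt48 a
  rw [conj_xe Act_n1 _ _ _ _ l1 l2 l3 l4, h1, h2, h3, h4]

theorem n2_go (a : ZMod 8) (t : K) : n2 K * go φ a t * (n2 K)⁻¹ = go φ (3 - a) t := by
  unfold go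
  rw [conj_xo Act_n2 _ _ (lt48 a).1 (lt48 a).2.1, (w2_tab a).1, (w2_tab a).2.1]

theorem n2_ge (a : ZMod 8) (p u : K) : n2 K * ge φ a p u * (n2 K)⁻¹ = ge φ (4 - a) p u := by
  unfold ge
  obtain ⟨-, -, h1, h2, h3, h4⟩ := w2_tab a
  obtain ⟨-, -, l1, l2, l3, l4⟩ := lt48 a
  rw [conj_xe Act_n2 _ _ _ _ l1 l2 l3 l4, h1, h2, h3, h4]

theorem rot_go (a : ZMod 8) (t : K) : (n1 K * n2 K) * go φ a t * (n1 K * n2 K)⁻¹ = go φ (a + 1) t := by
  have e1 : (n1 K * n2 K) * go φ a t * (n1 K * n2 K)⁻¹ = n1 K * (n2 K * go φ a t * (n2 K)⁻¹) * (n1 K)⁻¹ := by group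
  rw [e1, n2_go, n1_go]
  congr 1; ring

theorem rot_ge (a : ZMod 8) (p u : K) : (n1 K * n2 K) * ge φ a p u * (n1 K * n2 K)⁻¹ = ge φ (a + 1) p u := by
  have e1 : (n1 K * n2 K) * ge φ a p u * (n1 K * n2 K)⁻¹ = n1 K * (n2 K * ge φ a p u * (n2 K)⁻¹) * (n1 K)⁻¹ := by group
  rw [e1, n2_ge, n1_ge]
  congr 1; ring

theorem rot_mem (hφ : Rln φ e) : n1 K * n2 K ∈ twistedF4 K e := mul_mem (n1_mem _) (n2_mem hφ.pos.ne')

theorem go_mem (hφ : Rln φ e) (a : ZMod 8) : ∀ t : K, go φ a t ∈ twistedF4 K e := by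
  refine Sys.ind8 (P := fun a => ∀ t : K, go φ a t ∈ twistedF4 K e) 0 (fun t => x1_mem hφ t) ?_ a
  intro a ih t
  rw [← rot_go]
  exact mul_mem (mul_mem (rot_mem hφ) (ih t)) (inv_mem (rot_mem hφ))

theorem ge_mem (hφ : Rln φ e) (a : ZMod 8) : ∀ p u : K, ge φ a p u ∈ twistedF4 K e := by
  refine Sys.ind8 (P := fun a => ∀ p u : K, ge φ a p u ∈ twistedF4 K e) 4 (fun p u => x8_mem hφ p u) ?_ a
  intro a ih p u
  rw [← rot_ge]
  exact mul_mem (mul_mem (rot_mem hφ) (ih p u)) (inv_mem (rot_mem hφ))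

/-- the root elements of the model -/
def ro (hφ : Rln φ e) (a : ZMod 8) (t : K) : ↥(twistedF4 K e) := ⟨go φ a t, go_mem hφ a t⟩

/-- the root elements of the model -/
def re (hφ : Rln φ e) (a : ZMod 8) (p u : K) : ↥(twistedF4 K e) := ⟨ge φ a p u, ge_mem hφ a p u⟩

theorem y1_eq (hφ : Rln φ e) (t : K) : y1 hφ t = ro hφ 0 t := rfl
theorem y3_eq (hφ : Rln φ e) (t : K) : y3 hφ t = ro hφ 1 t := Subtype.ext (coe_y3 hφ t)
theorem y5_eq (hφ : Rln φ e) (t : K) : y5 hφ t = ro hφ 2 t := Subtype.ext (coe_y5 hφ t)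
theorem y7_eq (hφ : Rln φ e) (t : K) : y7 hφ t = ro hφ 3 t := Subtype.ext (coe_y7 hφ t)
theorem y2_eq (hφ : Rln φ e) (p u : K) : y2 hφ p u = re hφ 1 p u := Subtype.ext (coe_y2 hφ p u)
theorem y4_eq (hφ : Rln φ e) (p u : K) : y4 hφ p u = re hφ 2 p u := Subtype.ext (coe_y4 hφ p u)
theorem y6_eq (hφ : Rln φ e) (p u : K) : y6 hφ p u = re hφ 3 p u := Subtype.ext (coe_y6 hφ p u)
theorem y8_eq (hφ : Rln φ e) (p u : K) : y8 hφ p u = re hφ 4 p u := rfl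

theorem rot_ro (hφ : Rln φ e) (a : ZMod 8) (t : K) :
    (m1 K e * m2 hφ) * ro hφ a t * (m1 K e * m2 hφ)⁻¹ = ro hφ (a + 1) t := Subtype.ext (rot_go a t)

theorem rot_re (hφ : Rln φ e) (a : ZMod 8) (p u : K) :
    (m1 K e * m2 hφ) * re hφ a p u * (m1 K e * m2 hφ)⁻¹ = re hφ (a + 1) p u := Subtype.ext (rot_ge a p u)

/-- **The coordinates of the model.** -/
def sys (hφ : Rln φ e) : Sys φ ↥(twistedF4 K e) where
  o := ro hφ
  e := re hφ
  rot := m1 K e * m2 hφ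
  n1 := m1 K e
  n2 := m2 hφ
  rel := by
    have h := (octPar hφ).toOctRel
    have e1 : y1 hφ = ro hφ 0 := funext (y1_eq hφ)
    have e3 : y3 hφ = ro hφ 1 := funext (y3_eq hφ)
    have e5 : y5 hφ = ro hφ 2 := funext (y5_eq hφ)
    have e7 : y7 hφ = ro hφ 3 := funext (y7_eq hφ)
    have e2 : y2 hφ = re hφ 1 := funext fun p => funext (y2_eq hφ p)
    have e4 : y4 hφ = re hφ 2 := funext fun p => funext (y4_eq hφ p)
    have e6 : y6 hφ = re hφ 3 := funext fun p => funext (y6_eq hφ p)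
    have e8 : y8 hφ = re hφ 4 := funext fun p => funext (y8_eq hφ p)
    rwa [e1, e2, e3, e4, e5, e6, e7, e8] at h
  injO := by
    refine fun a => Sys.ind8 (P := fun a => Function.Injective (ro hφ a)) 0 (inj_y1 hφ) ?_ a
    intro a ih t s h
    rw [← rot_ro, ← rot_ro] at h
    exact ih (mul_left_cancel (mul_right_cancel h))
  injE := by
    refine fun a => Sys.ind8 (P := fun a => ∀ p u q v, re hφ a p u = re hφ a q v → p = q ∧ u = v) 4 (inj_y8 hφ) ?_ a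
    intro a ih p u q v h
    rw [← rot_re, ← rot_re] at h
    exact ih _ _ _ _ (mul_left_cancel (mul_right_cancel h))
  rot_o := rot_ro hφ
  rot_e := rot_re hφ
  n1_o := fun a t => Subtype.ext (n1_go a t)
  n1_e := fun a p u => Subtype.ext (n1_ge a p u)
  n2_o := fun a t => Subtype.ext (n2_go a t)
  n2_e := fun a p u => Subtype.ext (n2_ge a p u)

end Cfsg.Agent.KFacts.TwF4.Inst
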