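import Mathlib

/-!
# Involutions inverting a prime order element modulo a 2-group

`exists_conj`: `Q` a 2-group normalised by `N` and `d`, `d` of odd prime order inverted by `N`, `g = N q` an
involution with `q ∈ Q`. Then a `Q`-conjugate of `g` is `N q'` with `q' ∈ Q` centralising `d`.
-/

set_option autoImplicit false

namespace Cfsg.Agent.KFacts.TwF4.InvConj

variable {G : Type*} [Group G]

/-- coprime conjugacy for cyclic groups of prime order -/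
theorem conj_prime [Finite G] {Q : Subgroup G} (hQ : IsPGroup 2 Q) {r : ℕ} (hr : r.Prime) (hr2 : r ≠ 2)
    {w d : G} (hw : w ^ r = 1) (hd : d ^ r = 1) (hdQ : ∀ x ∈ Q, d * x * d⁻¹ ∈ Q) (hwd : w * d⁻¹ ∈ Q) :
    ∃ x ∈ Q, x⁻¹ * w * x = d := by
  classical
  have : Fact r.Prime := ⟨hr⟩
  have : Fintype Q := Fintype.ofFinite Q
  let φ : Function.End Q := fun x => ⟨w * x * d⁻¹, by
    have e : w * (x : G) * d⁻¹ = (w * d⁻¹) * (d * x * d⁻¹) := by group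
    rw [e]; exact Q.mul_mem hwd (hdQ x x.2)⟩
  have hφ : ∀ n : ℕ, ∀ x : Q, (((φ ^ n : Function.End Q) x : Q) : G) = w ^ n * x * (d ^ n)⁻¹ := by
    intro n
    induction n with
    | zero =>
      intro x
      show (x : G) = _
      simp
    | succ n ih =>
      intro x
      rw [pow_succ', pow_succ', pow_succ']
      show w * (((φ ^ n : Function.End Q) x : Q) : G) * d⁻¹ = _
      rw [ih]; group
  have hf : φ ^ r ^ 1 = 1 := by
    rw [pow_one]
    funext x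
    apply Subtype.ext
    rw [hφ, hw, hd]
    show 1 * (x : G) * 1⁻¹ = x
    simp
  have hc := Equiv.Perm.card_fixedPoints_modEq hf
  obtain ⟨k, hk⟩ := IsPGroup.iff_card.1 hQ
  have h0 : Fintype.card (Function.fixedPoints φ) ≠ 0 := by
    intro h0
    rw [h0, Nat.modEq_zero_iff_dvd, ← Nat.card_eq_fintype_card, hk] at hc
    have h2 := hr.dvd_of_dvd_pow hc
    rw [Nat.prime_dvd_prime_iff_eq hr Nat.prime_two] at h2
    exact hr2 h2
  obtain ⟨x, hx⟩ : Nonempty (Function.fixedPoints φ) := Fintype.card_pos_iff.1 (Nat.pos_of_ne_zero h0)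
  refine ⟨x, x.2, ?_⟩
  have h3 : w * (x : G) * d⁻¹ = x := congrArg Subtype.val hx
  have h4 : w * (x : G) = x * d := by
    rw [mul_inv_eq_iff_eq_mul] at h3; exact h3
  rw [mul_assoc, h4]; group

/-- powers of two of an element of odd order generate it back -/
theorem commute_of_pow {r : ℕ} (hr2 : Nat.Coprime r 2) {d q : G} (hd : d ^ r = 1) (k : ℕ)
    (h : q * d ^ (2 ^ k) = d ^ (2 ^ k) * q) : q * d = d * q := by
  have hc : Nat.Coprime (2 ^ k) r := (Nat.Coprime.pow_right k hr2).symm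
  -- `a * 2^k ≡ 1 mod r`
  obtain ⟨a, b, hab⟩ : ∃ a b : ℤ, a * (2 ^ k : ℕ) + b * r = 1 := by
    have := Nat.isCoprime_iff_coprime.2 hc
    obtain ⟨a, b, h⟩ := this
    exact ⟨a, b, h⟩
  have hd' : d = (d ^ (2 ^ k)) ^ a := by
    have e : d ^ (a * (2 ^ k : ℕ) + b * r) = (d ^ (2 ^ k)) ^ a := by
      rw [zpow_add, mul_comm b, zpow_mul d (r : ℤ), zpow_natCast d r, hd, one_zpow, mul_one, mul_comm a,
        zpow_mul, zpow_natCast]
    rw [hab, zpow_one] at e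
    exact e
  have hC : Commute q ((d ^ (2 ^ k)) ^ a) := Commute.zpow_right h a
  rw [← hd'] at hC
  exact hC

/-- **the normal form** -/
theorem exists_conj [Finite G] {Q : Subgroup G} (hQ : IsPGroup 2 Q) {r : ℕ} (hr : r.Prime) (hr2 : r ≠ 2)
    {d N q : G} (hd : d ^ r = 1) (hNd : N * d * N⁻¹ = d⁻¹) (hdQ : ∀ x ∈ Q, d * x * d⁻¹ ∈ Q)
    (hNQ : ∀ x ∈ Q, N * x * N⁻¹ ∈ Q) (hNQ' : ∀ x ∈ Q, N⁻¹ * x * N ∈ Q)
    (hq : q ∈ Q) (hg : (N * q) * (N * q) = 1) :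
    ∃ x ∈ Q, ∃ q' ∈ Q, x⁻¹ * (N * q) * x = N * q' ∧ q' * d = d * q' := by
  have hrc : Nat.Coprime r 2 := (Nat.coprime_primes hr Nat.prime_two).2 hr2
  set g := N * q with hgdef
  have hginv : g⁻¹ = g := inv_eq_of_mul_eq_one_right hg
  have hdQn : ∀ n : ℕ, ∀ x ∈ Q, d ^ n * x * (d ^ n)⁻¹ ∈ Q := by
    intro n
    induction n with
    | zero => intro x hx; simpa using hx
    | succ n ih =>
      intro x hx
      have := hdQ _ (ih x hx)
      have e : d ^ (n + 1) * x * (d ^ (n + 1))⁻¹ = d * (d ^ n * x * (d ^ n)⁻¹) * d⁻¹ := by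
        rw [pow_succ']; group
      rw [e]; exact this
  have hdQi : ∀ x ∈ Q, d⁻¹ * x * d ∈ Q := by
    intro x hx
    have h1 := hdQn (r - 1) x hx
    have e : d ^ (r - 1) = d⁻¹ := by
      have : d ^ (r - 1) * d = 1 := by
        rw [← pow_succ, Nat.sub_add_cancel hr.one_le, hd]
      exact mul_eq_one_iff_eq_inv.1 this
    rw [e, inv_inv] at h1
    exact h1
  -- `g d g⁻¹ ∈ Q d⁻¹`
  have h1 : g * d * g⁻¹ * d ∈ Q := by
    have e : g * d * g⁻¹ * d = N * (q * (d * q⁻¹ * d⁻¹)) * N⁻¹ * ((N * d * N⁻¹) * d) := by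
      rw [hgdef]; group
    rw [e, hNd, inv_mul_cancel, mul_one]
    exact hNQ _ (Q.mul_mem hq (hdQ _ (Q.inv_mem hq)))
  -- the element inverted by `g`
  set a := g * d * g⁻¹ * d⁻¹ with ha
  have haQ : a * d * d ∈ Q := by
    have e : a * d * d = g * d * g⁻¹ * d := by rw [ha]; group
    rw [e]; exact h1
  have hga : g * a * g⁻¹ = a⁻¹ := by
    rw [ha, hginv]
    have e : g * (g * d * g * d⁻¹) * g = (g * g) * (d * g * d⁻¹ * g) := by group
    rw [e, hg, one_mul]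
    have e2 : (g * d * g * d⁻¹)⁻¹ = d * g⁻¹ * d⁻¹ * g⁻¹ := by group
    rw [e2, hginv]
  -- powers of `a` modulo `Q`
  have hpow : ∀ n : ℕ, a ^ n * d ^ (2 * n) ∈ Q := by
    intro n
    induction n with
    | zero => simp
    | succ n ih =>
      have e : a ^ (n + 1) * d ^ (2 * (n + 1)) =
          a * (a ^ n * d ^ (2 * n)) * a⁻¹ * (a * d * d) := by
        rw [pow_succ', show 2 * (n + 1) = 2 * n + 1 + 1 by ring, pow_succ, pow_succ]
        group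
      rw [e]
      have haa : ∀ x ∈ Q, a * x * a⁻¹ ∈ Q := by
        intro x hx
        have e2 : a * x * a⁻¹ = (a * d * d) * (d⁻¹ * (d⁻¹ * x * d) * d) * (a * d * d)⁻¹ := by group
        rw [e2]
        exact Q.mul_mem (Q.mul_mem haQ (hdQi _ (hdQi x hx))) (Q.inv_mem haQ)
      exact Q.mul_mem (haa _ ih) haQ
  have har : a ^ r ∈ Q := by
    have h2 := hpow r
    rw [mul_comm 2 r, pow_mul, hd, one_pow, mul_one] at h2
    exact h2
  obtain ⟨k, hk⟩ := hQ ⟨_, har⟩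
  have hk' : (a ^ r) ^ (2 ^ k) = 1 := by
    have := congrArg Subtype.val hk
    simpa using this
  have hw : (a ^ (2 ^ k)) ^ r = 1 := by
    rw [← pow_mul, mul_comm, pow_mul]; exact hk'
  have hd1 : ((d ^ (2 ^ (k + 1)))⁻¹) ^ r = 1 := by
    rw [inv_pow, ← pow_mul, mul_comm, pow_mul, hd, one_pow, inv_one]
  have hdi : ∀ n : ℕ, ∀ x ∈ Q, (d ^ n)⁻¹ * x * d ^ n ∈ Q := by
    intro n
    induction n with
    | zero => intro x hx; simpa using hx
    | succ n ih =>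
      intro x hx
      have := hdQi _ (ih x hx)
      have e : (d ^ (n + 1))⁻¹ * x * d ^ (n + 1) = d⁻¹ * ((d ^ n)⁻¹ * x * d ^ n) * d := by
        rw [pow_succ]; group
      rw [e]; exact this
  obtain ⟨x, hx, hxw⟩ := conj_prime hQ hr hr2 hw hd1
    (by intro x hx
        have := hdi (2 ^ (k + 1)) x hx
        rw [inv_inv]; exact this)
    (by have := hpow (2 ^ k)
        rw [inv_inv, pow_succ, mul_comm (2 ^ k) 2]; exact this)
  have hgw : g * a ^ (2 ^ k) * g⁻¹ = (a ^ (2 ^ k))⁻¹ := by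
    have e : g * a ^ (2 ^ k) * g⁻¹ = (g * a * g⁻¹) ^ (2 ^ k) := (conj_pow).symm
    rw [e, hga, inv_pow]
  have hNd' : N * (d ^ (2 ^ (k + 1)))⁻¹ * N⁻¹ = d ^ (2 ^ (k + 1)) := by
    have e : N * (d ^ (2 ^ (k + 1)))⁻¹ * N⁻¹ = ((N * d * N⁻¹) ^ (2 ^ (k + 1)))⁻¹ := by
      rw [conj_pow]; group
    rw [e, hNd, inv_pow, inv_inv]
  refine ⟨x, hx, N⁻¹ * (x⁻¹ * g * x), ?_, by group, ?_⟩
  · have e : N⁻¹ * (x⁻¹ * g * x) = (N⁻¹ * x⁻¹ * N) * q * x := by rw [hgdef]; group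
    rw [e]
    exact Q.mul_mem (Q.mul_mem (hNQ' _ (Q.inv_mem hx)) hq) hx
  · apply commute_of_pow hrc hd (k + 1)
    set D := d ^ (2 ^ (k + 1)) with hD
    -- `(x⁻¹ g x) D⁻¹ (x⁻¹ g x)⁻¹ = D`
    have e1 : (x⁻¹ * g * x) * D⁻¹ * (x⁻¹ * g * x)⁻¹ = D := by
      rw [← hxw]
      have e2 : (x⁻¹ * g * x) * (x⁻¹ * a ^ (2 ^ k) * x) * (x⁻¹ * g * x)⁻¹ =
          x⁻¹ * (g * a ^ (2 ^ k) * g⁻¹) * x := by group
      rw [e2, hgw]
      have e3 : x⁻¹ * (a ^ (2 ^ k))⁻¹ * x = (x⁻¹ * a ^ (2 ^ k) * x)⁻¹ := by group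
      rw [e3, hxw, inv_inv]
    -- `N D⁻¹ N⁻¹ = D`
    have e4 : N⁻¹ * (x⁻¹ * g * x) * D⁻¹ = D⁻¹ * (N⁻¹ * (x⁻¹ * g * x)) := by
      have e5 : (x⁻¹ * g * x) * D⁻¹ = D * (x⁻¹ * g * x) := by
        rw [mul_inv_eq_iff_eq_mul] at e1; exact e1
      have e6 : N * D⁻¹ = D * N := by
        rw [mul_inv_eq_iff_eq_mul] at hNd'; exact hNd'
      have e7 : N⁻¹ * D = D⁻¹ * N⁻¹ := by
        have : N⁻¹ * (N * D⁻¹) * N⁻¹ = N⁻¹ * (D * N) * N⁻¹ := by rw [e6]
        have e8 : N⁻¹ * (N * D⁻¹) * N⁻¹ = D⁻¹ * N⁻¹ := by group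
        have e9 : N⁻¹ * (D * N) * N⁻¹ = N⁻¹ * D := by group
        rw [e8, e9] at this
        exact this.symm
      rw [mul_assoc, e5, ← mul_assoc, e7, mul_assoc]
    have hC : Commute (N⁻¹ * (x⁻¹ * g * x)) D⁻¹ := e4
    exact (Commute.inv_right_iff.1 hC)

end Cfsg.Agent.KFacts.TwF4.InvConj
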