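import Cfsg.Agent.KFacts.TwF4.Arc
import Cfsg.Agent.KFacts.TwF4.InvConj

/-!
# The involutions of `²F₄(q)`, `q ≥ 8`

Every involution is conjugate to some `e 0 0 u` or to some `o 0 t`.
-/

set_option autoImplicit false

namespace Cfsg.Agent.KFacts.TwF4.Inv

open Cfsg.Agent.SplitTwo Cfsg.Agent.SplitTwo.ZS Cfsg.Agent.TitsThree.RankTwoZ Cfsg.Agent.KFacts.TwF4.Arc

universe u

variable {F : Type*} [Field F] {σ : F →+* F} {G : Type u} [Group G] (S : Full σ G)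

/-- conjugacy of elements, as an existence statement -/
def Cj (x y : G) : Prop := ∃ k : G, k * x * k⁻¹ = y

theorem Cj.refl (x : G) : Cj x x := ⟨1, by simp⟩
theorem Cj.symm {x y : G} : Cj x y → Cj y x := by
  rintro ⟨k, rfl⟩; exact ⟨k⁻¹, by group⟩
theorem Cj.trans {x y z : G} : Cj x y → Cj y z → Cj x z := by
  rintro ⟨k, rfl⟩ ⟨l, rfl⟩; exact ⟨l * k, by group⟩
theorem Cj.of_mul {k x y : G} (h : k * x = y * k) : Cj x y := ⟨k, by rw [h]; group⟩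
theorem Cj.of_mul' {k x y : G} (h : x * k = k * y) : Cj x y := ⟨k⁻¹, by rw [inv_inv, mul_assoc, h]; group⟩

theorem o_sq (a : ZMod 8) (t : F) : S.o a t * S.o a t = 1 := by rw [S.o_add, char2 S, S.o_zero]
theorem z_sq (a : ZMod 8) (u : F) : S.e a 0 u * S.e a 0 u = 1 := by
  rw [S.e_mul, map_zero, mul_zero, add_zero, add_zero, char2 S, S.e_zero]

/-! ### explicit conjugations -/

/-- `z_4(v) z_2(u)` with `u = p² σ(p) v` is conjugate to `o_3(p v)` -/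
theorem zz_conj {p v : F} (hp : p ≠ 0) (hv : v ≠ 0) :
    Cj (S.o 3 (p * v)) (S.e 4 0 v * S.e 2 0 (p * p * σ p * v)) := by
  have c2 : ∀ x : F, x + x = 0 := char2 S
  -- (E1)
  have E1 : Cj (S.o 3 (p * v)) (S.o 3 (p * v) * S.e 4 0 v) := by
    apply Cj.of_mul' (k := S.e 5 (p⁻¹) 0)
    have h := S.o_e2 3 (p * v) p⁻¹ 0
    have e : p * v * p⁻¹ = v := by field_simp
    rw [show (3 : ZMod 8) + 2 = 5 by decide, show (3 : ZMod 8) + 1 = 4 by decide, e] at h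
    rw [h, mul_assoc]
  -- (E2)
  have E2 : Cj (S.o 3 (p * v) * S.e 4 0 v)
      (S.e 4 0 v * S.e 2 0 (p * p * σ p * v) * S.e 3 0 (p * σ p * σ v)) := by
    apply Cj.of_mul (k := S.e 1 p 0)
    have hA3 := S.e_o2 1 p 0 (p * v)
    have hA4 := S.e_e3 1 p 0 0 v
    rw [show (1 : ZMod 8) + 2 = 3 by decide, show (1 : ZMod 8) + 1 = 2 by decide] at hA3
    rw [show (1 : ZMod 8) + 3 = 4 by decide, show (1 : ZMod 8) + 2 = 3 by decide,
      show (1 : ZMod 8) + 1 = 2 by decide] at hA4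
    simp only [mul_zero, zero_mul, add_zero, zero_add, map_zero, S.o_zero, S.e_zero, mul_one, map_mul] at hA3 hA4
    have a1 : p * σ p * (p * v) = p * p * σ p * v := by ring
    have a2 : p * (σ p * σ v) = p * σ p * σ v := by ring
    rw [a1, a2] at hA3
    set A := S.e 1 p 0
    set α := S.e 2 0 (p * p * σ p * v)
    set β := S.o 2 (σ p * (p * v))
    set γ := S.e 3 0 (p * σ p * σ v)
    set z := S.e 4 0 v
    set s := S.o 3 (p * v)
    -- hA3 : A * s = s * A * α * β * γ, hA4 : A * z = z * A * α * γ * s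
    have zα : z * α = α * z := by
      have := S.e_e2 2 0 (p * p * σ p * v) 0 v
      exact this.symm
    have zγ : z * γ = γ * z := by
      have := S.e_e1 3 0 (p * σ p * σ v) 0 v
      rw [show (3 : ZMod 8) + 1 = 4 by decide, zero_mul, S.o_zero, mul_one] at this
      exact this.symm
    have zβ : z * β = β * z := by
      have := S.o_e2 2 (σ p * (p * v)) 0 v
      rw [show (2 : ZMod 8) + 2 = 4 by decide, mul_zero, S.e_zero, mul_one] at this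
      exact this.symm
    have zs : z * s = s * z := by
      have := S.o_e1 3 (p * v) 0 v
      exact this.symm
    have αs : α * s = s * α := by
      have := S.e_o1 2 0 (p * p * σ p * v) (p * v)
      rw [show (2 : ZMod 8) + 1 = 3 by decide, zero_mul, S.e_zero, mul_one] at this
      exact this
    have βs : β * s = s * β := S.o_o1 2 _ _
    have γs : γ * s = s * γ := S.e_o0 3 0 _ _
    have βγ : β * γ = γ * β := S.o_e1 2 _ 0 _
    have αβ : α * β = β * α := S.e_o0 2 0 _ _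
    have αγ : α * γ = γ * α := by
      have := S.e_e1 2 0 (p * p * σ p * v) 0 (p * σ p * σ v)
      rw [show (2 : ZMod 8) + 1 = 3 by decide, zero_mul, S.o_zero, mul_one] at this
      exact this
    have Aα : A * α = α * A := by
      have := S.e_e1 1 p 0 0 (p * p * σ p * v)
      rw [show (1 : ZMod 8) + 1 = 2 by decide, mul_zero, S.o_zero, mul_one] at this
      exact this
    have Aγ : A * γ = γ * A := S.e_e2 1 _ _ _ _
    have αα : α * α = 1 := z_sq S _ _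
    have ββ : β * β = 1 := o_sq S _ _
    have γγ : γ * γ = 1 := z_sq S _ _
    have ss : s * s = 1 := o_sq S _ _
    calc A * (s * z) = (A * s) * z := by group
      _ = s * A * α * β * (γ * z) := by rw [hA3]; group
      _ = s * A * α * (β * z) * γ := by rw [← zγ]; group
      _ = s * A * (α * z) * β * γ := by rw [← zβ]; group
      _ = s * (A * z) * α * β * γ := by rw [← zα]; group
      _ = s * (z * A * α * γ * s) * α * β * γ := by rw [hA4]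
      _ = s * z * A * (α * γ) * (s * α) * β * γ := by group
      _ = s * z * A * (γ * α) * (α * s) * β * γ := by rw [αγ, αs]
      _ = s * z * A * γ * (α * α) * s * β * γ := by group
      _ = s * z * A * γ * (s * (β * γ)) := by rw [αα]; group
      _ = s * z * A * γ * (s * γ) * β := by rw [βγ]; group
      _ = s * z * A * (γ * γ) * s * β := by rw [← γs]; group
      _ = s * z * (A * s) * β := by rw [γγ]; group
      _ = s * z * (s * A * α * β * γ) * β := by rw [hA3]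
      _ = s * (z * s) * A * α * (β * γ) * β := by group
      _ = s * (s * z) * A * α * (γ * β) * β := by rw [zs, βγ]
      _ = (s * s) * z * A * α * γ * (β * β) := by group
      _ = z * (A * α) * γ := by rw [ss, ββ]; group
      _ = z * α * (A * γ) := by rw [Aα]; group
      _ = z * α * γ * A := by rw [Aγ]; group
  -- (E3)
  have E3 : Cj (S.e 4 0 v * S.e 2 0 (p * p * σ p * v))
      (S.e 4 0 v * S.e 2 0 (p * p * σ p * v) * S.e 3 0 (p * σ p * σ v)) := by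
    apply Cj.of_mul' (k := S.o 1 (v⁻¹ * (p * σ p * σ v)))
    set t := v⁻¹ * (p * σ p * σ v) with ht
    have h := S.o_e3 1 t 0 v
    rw [show (1 : ZMod 8) + 3 = 4 by decide, show (1 : ZMod 8) + 2 = 3 by decide,
      show (1 : ZMod 8) + 1 = 2 by decide] at h
    simp only [mul_zero, zero_mul, add_zero, zero_add, map_zero, S.o_zero, S.e_zero, mul_one] at h
    have e : t * v = p * σ p * σ v := by rw [ht]; field_simp
    rw [e] at h
    -- h : o 1 t * z = z * o 1 t * γ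
    have h2 : S.o 1 t * S.e 2 0 (p * p * σ p * v) = S.e 2 0 (p * p * σ p * v) * S.o 1 t := S.o_e1 1 _ _ _
    have h3 : S.o 1 t * S.e 3 0 (p * σ p * σ v) = S.e 3 0 (p * σ p * σ v) * S.o 1 t := by
      have := S.o_e2 1 t 0 (p * σ p * σ v)
      rw [show (1 : ZMod 8) + 2 = 3 by decide, mul_zero, S.e_zero, mul_one] at this
      exact this
    have αγ : S.e 2 0 (p * p * σ p * v) * S.e 3 0 (p * σ p * σ v) =
        S.e 3 0 (p * σ p * σ v) * S.e 2 0 (p * p * σ p * v) := by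
      have := S.e_e1 2 0 (p * p * σ p * v) 0 (p * σ p * σ v)
      rw [show (2 : ZMod 8) + 1 = 3 by decide, zero_mul, S.o_zero, mul_one] at this
      exact this
    have γγ : S.e 3 0 (p * σ p * σ v) * S.e 3 0 (p * σ p * σ v) = 1 := z_sq S _ _
    set z := S.e 4 0 v
    set α := S.e 2 0 (p * p * σ p * v)
    set γ := S.e 3 0 (p * σ p * σ v)
    set a := S.o 1 t
    calc z * α * a = z * (α * a) := by group
      _ = z * a * α := by rw [← h2]; group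
      _ = z * a * (γ * γ) * α := by rw [γγ]; group
      _ = (z * a * γ) * (γ * α) := by group
      _ = (a * z) * (α * γ) := by rw [← h, αγ]
      _ = a * (z * α * γ) := by group
  exact (E1.trans E2).trans E3.symm

/-- `o_0(t) o_2(s)` is conjugate to `o_0(t)` -/
theorem oo_conj [Finite F] {t : F} (ht : t ≠ 0) (s : F) : Cj (S.o 0 t) (S.o 0 t * S.o 2 s) := by
  have c2 : ∀ x : F, x + x = 0 := char2 S
  obtain ⟨s', hs'⟩ := σ_surj σ (t⁻¹ * s)
  obtain ⟨q, hq⟩ := σ_surj σ (t⁻¹ * (σ t * s'))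
  have e1 : t * σ s' = s := by rw [hs']; field_simp
  have e2 : t * σ q = σ t * s' := by rw [hq]; field_simp
  -- conjugation by `o 3 s'`
  have E1 : Cj (S.o 0 t) (S.o 0 t * S.o 1 (σ t * s') * S.o 2 s) := by
    apply Cj.of_mul' (k := S.o 3 s')
    have h := S.o_o3 0 t s'
    simp only [zero_add] at h
    rw [e1] at h
    rw [h]; group
  -- conjugation by `e 3 q (q σ q)`
  have E2 : Cj (S.o 0 t * S.o 2 s) (S.o 0 t * S.e 1 0 (σ t * q) * S.o 1 (σ t * s') * S.o 2 s) := by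
    apply Cj.of_mul' (k := S.e 3 q (q * σ q))
    have h := S.o_e3 0 t q (q * σ q)
    simp only [zero_add] at h
    have e3 : t * q * σ q + t * (q * σ q) = 0 := by
      rw [← mul_assoc]; exact c2 _
    rw [e3, S.e_zero, mul_one, e2] at h
    have h2 : S.o 2 s * S.e 3 q (q * σ q) = S.e 3 q (q * σ q) * S.o 2 s := S.o_e1 2 _ _ _
    calc S.o 0 t * S.o 2 s * S.e 3 q (q * σ q) = S.o 0 t * (S.o 2 s * S.e 3 q (q * σ q)) := by group
      _ = (S.o 0 t * S.e 3 q (q * σ q)) * S.o 2 s := by rw [h2]; group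
      _ = _ := by rw [h]; group
  -- conjugation by `e 2 q' 0`
  have E3 : Cj (S.o 0 t * S.e 1 0 (σ t * q) * S.o 1 (σ t * s') * S.o 2 s)
      (S.o 0 t * S.o 1 (σ t * s') * S.o 2 s) := by
    apply Cj.of_mul' (k := S.e 2 (t⁻¹ * (σ t * q)) 0)
    set q' := t⁻¹ * (σ t * q) with hq'
    have h := S.o_e2 0 t q' 0
    simp only [zero_add] at h
    have e4 : t * q' = σ t * q := by rw [hq']; field_simp
    rw [e4] at h
    have h1 : S.e 1 0 (σ t * q) * S.e 2 q' 0 = S.e 2 q' 0 * S.e 1 0 (σ t * q) := by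
      have := S.e_e1 1 0 (σ t * q) q' 0
      rw [show (1 : ZMod 8) + 1 = 2 by decide, zero_mul, S.o_zero, mul_one] at this
      exact this
    have h2 : S.o 1 (σ t * s') * S.e 2 q' 0 = S.e 2 q' 0 * S.o 1 (σ t * s') := S.o_e1 1 _ _ _
    have h3 : S.o 2 s * S.e 2 q' 0 = S.e 2 q' 0 * S.o 2 s := (S.e_o0 2 _ _ _).symm
    have hzz : S.e 1 0 (σ t * q) * S.e 1 0 (σ t * q) = 1 := z_sq S _ _
    calc S.o 0 t * S.e 1 0 (σ t * q) * S.o 1 (σ t * s') * S.o 2 s * S.e 2 q' 0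
        = S.o 0 t * S.e 1 0 (σ t * q) * S.o 1 (σ t * s') * (S.o 2 s * S.e 2 q' 0) := by group
      _ = S.o 0 t * S.e 1 0 (σ t * q) * (S.o 1 (σ t * s') * S.e 2 q' 0) * S.o 2 s := by rw [h3]; group
      _ = S.o 0 t * (S.e 1 0 (σ t * q) * S.e 2 q' 0) * S.o 1 (σ t * s') * S.o 2 s := by rw [h2]; group
      _ = (S.o 0 t * S.e 2 q' 0) * S.e 1 0 (σ t * q) * S.o 1 (σ t * s') * S.o 2 s := by rw [h1]; group
      _ = S.e 2 q' 0 * S.o 0 t * (S.e 1 0 (σ t * q) * S.e 1 0 (σ t * q)) * S.o 1 (σ t * s') * S.o 2 s := by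
          rw [h]; group
      _ = _ := by rw [hzz]; group
  exact E1.trans (E2.trans E3).symm

/-! ### generation -/

theorem n1_word' : S.n1 = S.o 4 1 * S.o 0 1 * S.o 4 1 := by
  have h : S.n1 = S.n1 * S.n1 * S.n1⁻¹ := by group
  rw [h]
  conv_lhs => rw [show S.n1 * S.n1 * S.n1⁻¹ = S.n1 * (S.o 0 1 * S.o 4 1 * S.o 0 1) * S.n1⁻¹ by rw [← S.n1_word]]
  have e : S.n1 * (S.o 0 1 * S.o 4 1 * S.o 0 1) * S.n1⁻¹ =
      (S.n1 * S.o 0 1 * S.n1⁻¹) * (S.n1 * S.o 4 1 * S.n1⁻¹) * (S.n1 * S.o 0 1 * S.n1⁻¹) := by group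
  rw [e, S.n1_o, S.n1_o, sub_zero, sub_self]

theorem n2_word' : S.n2 = S.e 0 1 0 * S.e 4 0 1 * (S.e 0 1 0)⁻¹ := by
  have h1 : S.n2 = S.e 4 1 1 * S.e 0 1 0 * S.e 4 0 1 := by
    have h := congrArg (fun x => x⁻¹) S.n2_word
    simp only [n2_inv, mul_inv_rev, e_inv, map_one, map_zero, mul_one, mul_zero, add_zero, zero_add] at h
    rw [char2 S] at h
    rw [h]; group
  have h2 : S.n2 * S.e 0 1 0 = S.e 4 1 0 * S.n2 := by
    have h := S.n2_e 0 1 0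
    rw [sub_zero, mul_inv_eq_iff_eq_mul] at h
    exact h
  have h3 : S.e 4 1 0 * S.e 4 1 1 = 1 := by
    rw [S.e_mul, map_one, mul_one, char2 S, zero_add, char2 S, S.e_zero]
  rw [eq_mul_inv_iff_mul_eq, h2, h1]
  calc S.e 4 1 0 * (S.e 4 1 1 * S.e 0 1 0 * S.e 4 0 1) = (S.e 4 1 0 * S.e 4 1 1) * S.e 0 1 0 * S.e 4 0 1 := by group
    _ = _ := by rw [h3, one_mul]

theorem n1_mem_of {K : Subgroup G} (h1 : S.XZ 1 ≤ K) (h9 : S.XZ 9 ≤ K) : S.n1 ∈ K := by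
  rw [S.n1_word]
  have a1 : S.o 0 1 ∈ K := h1 ((mem_X1 S).2 ⟨1, rfl⟩)
  have a9 : S.o 4 1 ∈ K := h9 ((mem_X9 S).2 ⟨1, rfl⟩)
  exact K.mul_mem (K.mul_mem a1 a9) a1

theorem n2_mem_of {K : Subgroup G} (h0 : S.XZ 0 ≤ K) (h8 : S.XZ 8 ≤ K) : S.n2 ∈ K := by
  rw [S.n2_word]
  have a0 : S.e 0 1 1 ∈ K := h0 ((mem_X0 S).2 ⟨1, 1, rfl⟩)
  have a8 : ∀ p u, S.e 4 p u ∈ K := fun p u => h8 ((mem_X8 S).2 ⟨p, u, rfl⟩)
  exact K.mul_mem (K.mul_mem (a8 _ _) a0) (a8 _ _)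

/-- `X_0, X_1, X_8, X_9` generate -/
theorem eq_top_of {K : Subgroup G} (h0 : S.XZ 0 ≤ K) (h1 : S.XZ 1 ≤ K) (h8 : S.XZ 8 ≤ K) (h9 : S.XZ 9 ≤ K) :
    K = ⊤ := by
  have n1K := n1_mem_of S h1 h9
  have n2K := n2_mem_of S h0 h8
  have r1 : ∀ k, S.XZ k ≤ K → S.XZ (10 - k) ≤ K := by
    intro k hk x hx
    have h := S.n1_refl.mem_inv (k := k) hx (by ring)
    have e : x = S.n1 * (S.n1⁻¹ * x * S.n1) * S.n1⁻¹ := by group
    rw [e]; exact K.mul_mem (K.mul_mem n1K (hk h)) (K.inv_mem n1K)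
  have r2 : ∀ k, S.XZ k ≤ K → S.XZ (8 - k) ≤ K := by
    intro k hk x hx
    have h := S.n2_refl.mem_inv (k := k) hx (by ring)
    have e : x = S.n2 * (S.n2⁻¹ * x * S.n2) * S.n2⁻¹ := by group
    rw [e]; exact K.mul_mem (K.mul_mem n2K (hk h)) (K.inv_mem n2K)
  have up : ∀ k, S.XZ k ≤ K → S.XZ (k + 2) ≤ K := by
    intro k hk
    have := r1 _ (r2 _ hk)
    rwa [show (10 : ℤ) - (8 - k) = k + 2 by ring] at this
  have dn : ∀ k, S.XZ k ≤ K → S.XZ (k - 2) ≤ K := by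
    intro k hk
    have := r2 _ (r1 _ hk)
    rwa [show (8 : ℤ) - (10 - k) = k - 2 by ring] at this
  have all : ∀ n : ℕ, S.XZ (2 * n) ≤ K ∧ S.XZ (2 * n + 1) ≤ K ∧ S.XZ (-(2 * n)) ≤ K ∧ S.XZ (-(2 * n) + 1) ≤ K := by
    intro n
    induction n with
    | zero => simpa using ⟨h0, h1, h0, h1⟩
    | succ n ih =>
      obtain ⟨a, b, c, d⟩ := ih
      refine ⟨?_, ?_, ?_, ?_⟩
      · have := up _ a
        rwa [show (2 : ℤ) * n + 2 = 2 * ((n + 1 : ℕ) : ℤ) by push_cast; ring] at this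
      · have := up _ b
        rwa [show (2 : ℤ) * n + 1 + 2 = 2 * ((n + 1 : ℕ) : ℤ) + 1 by push_cast; ring] at this
      · have := dn _ c
        rwa [show -((2 : ℤ) * n) - 2 = -(2 * ((n + 1 : ℕ) : ℤ)) by push_cast; ring] at this
      · have := dn _ d
        rwa [show -((2 : ℤ) * n) + 1 - 2 = -(2 * ((n + 1 : ℕ) : ℤ)) + 1 by push_cast; ring] at this
  rw [eq_top_iff, ← S.R.gen]
  refine iSup_le fun i => ?_
  have hi : S.R.X i = S.XZ (i.val : ℤ) := by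
    show S.R.X i = S.R.X _
    congr 1
    rw [Int.cast_natCast]; exact (ZMod.natCast_zmod_val _).symm
  rw [hi]
  rcases Nat.even_or_odd' i.val with ⟨c, hc | hc⟩
  · rw [hc]; have := (all c).1; push_cast; exact this
  · rw [hc]; have := (all c).2.1; push_cast; exact this

/-- **some conjugate acts non-trivially on one of the two residues** -/
theorem exists_outside {g : G} (hg1 : g ≠ 1) (hU : ∃ k : G, k * g * k⁻¹ ∈ J S.XZ 1 8) :
    ∃ k : G, k * g * k⁻¹ ∈ J S.XZ 1 8 ∧ (k * g * k⁻¹ ∉ J S.XZ 2 8 ∨ k * g * k⁻¹ ∉ J S.XZ 1 7) := by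
  by_contra hcon
  push Not at hcon
  have Z := S.zsys8
  -- all conjugates lie in `U`
  let K : Subgroup G :=
    { carrier := {x | ∀ y, Cj g y → y ∈ J S.XZ 1 8 → (x * y * x⁻¹ ∈ J S.XZ 1 8 ∧ x⁻¹ * y * x ∈ J S.XZ 1 8)}
      one_mem' := by intro y _ hy; simpa using hy
      mul_mem' := by
        intro a b ha hb y hy hyU
        obtain ⟨h1, h2⟩ := hb y hy hyU
        obtain ⟨h3, h4⟩ := ha y hy hyU
        have h5 := (ha _ (hy.trans ⟨b, rfl⟩) h1).1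
        have h6 := (hb _ (hy.trans ⟨a⁻¹, by group⟩) h4).2
        refine ⟨?_, ?_⟩
        · have e : a * b * y * (a * b)⁻¹ = a * (b * y * b⁻¹) * a⁻¹ := by group
          rw [e]; exact h5
        · have e : (a * b)⁻¹ * y * (a * b) = b⁻¹ * (a⁻¹ * y * a) * b := by group
          rw [e]; exact h6
      inv_mem' := by
        intro a ha y hy hyU
        obtain ⟨h1, h2⟩ := ha y hy hyU
        exact ⟨by rw [inv_inv]; exact h2, by rw [inv_inv]; exact h1⟩ }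
  have key : ∀ y, Cj g y → y ∈ J S.XZ 1 8 → y ∈ J S.XZ 2 8 ∧ y ∈ J S.XZ 1 7 := by
    rintro _ ⟨k, rfl⟩ hy
    exact hcon k hy
  have hA : ∀ k, 0 ≤ k → k ≤ 8 → S.XZ k ≤ K := by
    intro k h0 h8 x hx y hy hyU
    have h1 := (key y hy hyU).2
    refine ⟨J_mono le_rfl (by norm_num) (Z.conj_X (a := 1) (b := 7) (by norm_num) (by omega) (by omega) hx h1), ?_⟩
    have := Z.conj_X (a := 1) (b := 7) (by norm_num) (by omega) (by omega) (inv_mem hx) h1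
    rw [inv_inv] at this
    exact J_mono le_rfl (by norm_num) this
  have hB : ∀ k, 1 ≤ k → k ≤ 9 → S.XZ k ≤ K := by
    intro k h0 h8 x hx y hy hyU
    have h1 := (key y hy hyU).1
    refine ⟨J_mono (by norm_num) le_rfl (Z.conj_X (a := 2) (b := 8) (by norm_num) (by omega) (by omega) hx h1), ?_⟩
    have := Z.conj_X (a := 2) (b := 8) (by norm_num) (by omega) (by omega) (inv_mem hx) h1
    rw [inv_inv] at this
    exact J_mono (by norm_num) le_rfl this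
  have hK : K = ⊤ := eq_top_of S (hA 0 le_rfl (by norm_num)) (hB 1 le_rfl (by norm_num)) (hA 8 (by norm_num) le_rfl)
    (hB 9 (by norm_num) le_rfl)
  obtain ⟨k₀, hk₀⟩ := hU
  have all : ∀ y, Cj g y → y ∈ J S.XZ 1 8 := by
    rintro _ ⟨l, rfl⟩
    have h1 : l * k₀⁻¹ ∈ K := hK ▸ Subgroup.mem_top _
    have h2 := (h1 _ ⟨k₀, rfl⟩ hk₀).1
    have e : l * k₀⁻¹ * (k₀ * g * k₀⁻¹) * (l * k₀⁻¹)⁻¹ = l * g * l⁻¹ := by group
    rwa [e] at h2
  -- shrink
  have s1 : ∀ y, Cj g y → y ∈ J S.XZ 2 7 := by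
    intro y hy
    obtain ⟨h1, h2⟩ := key y hy (all y hy)
    exact Z.inter_J 1 h1 h2 (by norm_num) (by norm_num) (by norm_num) (by norm_num) (Or.inl le_rfl) (Or.inr le_rfl)
  have cn : ∀ (n : G) y, Cj g y → Cj g (n * y * n⁻¹) := fun n y hy => hy.trans ⟨n, rfl⟩
  have s2 : ∀ y, Cj g y → y ∈ J S.XZ 3 7 := by
    intro y hy
    have h1 := s1 _ (cn S.n1⁻¹ y hy)
    have h2 := S.n1_refl.mem_J (a' := 3) (b' := 8) h1 (by norm_num) (by norm_num)
    have e : S.n1 * (S.n1⁻¹ * y * S.n1⁻¹⁻¹) * S.n1⁻¹ = y := by group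
    rw [e] at h2
    exact Z.inter_J 1 h2 (s1 y hy) (by norm_num) (by norm_num) (by norm_num) (by norm_num) (Or.inl le_rfl) (Or.inr le_rfl)
  have s3 : ∀ y, Cj g y → y ∈ J S.XZ 3 5 := by
    intro y hy
    have h1 := s2 _ (cn S.n2⁻¹ y hy)
    have h2 := S.n2_refl.mem_J (a' := 1) (b' := 5) h1 (by norm_num) (by norm_num)
    have e : S.n2 * (S.n2⁻¹ * y * S.n2⁻¹⁻¹) * S.n2⁻¹ = y := by group
    rw [e] at h2
    exact Z.inter_J 1 h2 (s2 y hy) (by norm_num) (by norm_num) (by norm_num) (by norm_num) (Or.inr le_rfl) (Or.inl le_rfl)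
  have s4 : ∀ y, Cj g y → y ∈ J S.XZ 5 5 := by
    intro y hy
    have h1 := s3 _ (cn S.n1⁻¹ y hy)
    have h2 := S.n1_refl.mem_J (a' := 5) (b' := 7) h1 (by norm_num) (by norm_num)
    have e : S.n1 * (S.n1⁻¹ * y * S.n1⁻¹⁻¹) * S.n1⁻¹ = y := by group
    rw [e] at h2
    exact Z.inter_J 1 h2 (s3 y hy) (by norm_num) (by norm_num) (by norm_num) (by norm_num) (Or.inl le_rfl) (Or.inr le_rfl)
  have h1 := s4 _ (cn S.n2⁻¹ g (Cj.refl g))
  have h2 := S.n2_refl.mem_J (a' := 3) (b' := 3) h1 (by norm_num) (by norm_num)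
  have e : S.n2 * (S.n2⁻¹ * g * S.n2⁻¹⁻¹) * S.n2⁻¹ = g := by group
  rw [e] at h2
  exact hg1 (Z.inter_one 1 h2 (s4 g (Cj.refl g)) (by norm_num) (by norm_num) (by norm_num) (by norm_num) (Or.inl (by norm_num)))

/-! ### the two cases -/

section cases

variable [Finite F] [Finite G]

theorem exists_prime_unit (hF : ∃ c : Fˣ, c ≠ 1) : ∃ (r : ℕ) (c : Fˣ), r.Prime ∧ c ^ r = 1 ∧ c ≠ 1 := by
  obtain ⟨c, hc⟩ := hF
  have h1 : orderOf c ≠ 1 := fun h => hc (orderOf_eq_one_iff.1 h)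
  obtain ⟨r, hr, hd⟩ := Nat.exists_prime_and_dvd h1
  obtain ⟨k, hk⟩ := hd
  have hk0 : orderOf c ≠ 0 := (orderOf_pos c).ne'
  refine ⟨r, c ^ k, hr, ?_, ?_⟩
  · rw [← pow_mul, mul_comm, ← hk]; exact pow_orderOf_eq_one c
  · intro h
    have h2 := orderOf_dvd_of_pow_eq_one h
    rw [hk] at h2
    have hk1 : 0 < k := Nat.pos_of_ne_zero (by rintro rfl; rw [mul_zero] at hk; exact hk0 hk)
    have h3 := Nat.le_of_dvd hk1 h2
    have h4 : k < r * k := by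
      calc k = 1 * k := (one_mul k).symm
        _ < r * k := Nat.mul_lt_mul_of_pos_right hr.one_lt hk1
    omega

include S in
omit [Finite F] [Finite G] in
theorem ne_two {r : ℕ} {c : Fˣ} (h : c ^ r = 1) (hc : c ≠ 1) : r ≠ 2 := by
  rintro rfl
  apply hc
  have h5 : ((c : F) - 1) ^ 2 = 0 := by
    have e : ((c : F) - 1) ^ 2 = (c : F) ^ 2 - 2 * c + 1 := by ring
    have h6 : (c : F) ^ 2 = 1 := by rw [← Units.val_pow_eq_pow_val, h, Units.val_one]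
    rw [e, h6, S.two, zero_mul, sub_zero, one_add_one_eq_two, S.two]
  exact Units.ext (sub_eq_zero.1 ((pow_eq_zero_iff two_ne_zero).1 h5))

theorem two_X (hR : S.R.p = 2) (k : ℤ) : IsPGroup 2 (S.XZ k) := by
  have := S.R.isPGroup (k : ZMod (2 * 8))
  rwa [hR] at this

/-- case B -/
theorem caseB (hF : ∃ c : Fˣ, c ≠ 1) (hR : S.R.p = 2) {y : G} (hy : y ∈ J S.XZ 1 8) (hy2 : y ∉ J S.XZ 2 8)
    (hyy : y * y = 1) : ∃ t s : F, t ≠ 0 ∧ Cj y (S.o 0 t * S.o 2 s) := by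
  have Z := S.zsys8
  obtain ⟨x, hx, q, hq, rfl⟩ := Z.split_ll (a := 1) (b := 8) (by norm_num) (by norm_num) hy
  rw [show (1 : ℤ) + 1 = 2 by norm_num] at hq
  obtain ⟨t, rfl⟩ := (mem_X1 S).1 hx
  have ht : t ≠ 0 := by
    rintro rfl
    apply hy2
    rw [S.o_zero, one_mul]; exact hq
  obtain ⟨r, c, hr, hcr, hc1⟩ := exists_prime_unit hF
  have hr2 : r ≠ 2 := ne_two S hcr hc1
  set τ := S.h (Units.mk0 t ht) 1 with hτ
  set xm := S.o 4 t⁻¹ with hxm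
  set N := xm * S.o 0 t * xm⁻¹ with hN
  have hch0 : (chO σ 0 (Units.mk0 t ht) 1 : F) = t := by
    rw [chO, chE_zero, zero_add, chE_one, mul_one]; rfl
  have hch4 : (chO σ 4 (Units.mk0 t ht) 1 : F) = t⁻¹ := by
    rw [chO, chE_four, show (4 : ZMod 8) + 1 = 5 by decide, chE_five, inv_one, mul_one]
    exact Units.val_inv_eq_inv_val _
  have hNτ : N = τ * S.n1 * τ⁻¹ := by
    have e0 : τ * S.o 0 1 * τ⁻¹ = S.o 0 t := by rw [hτ, S.h_o, hch0, mul_one]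
    have e4 : τ * S.o 4 1 * τ⁻¹ = xm := by rw [hτ, S.h_o, hch4, mul_one]
    rw [n1_word' S]
    have e : τ * (S.o 4 1 * S.o 0 1 * S.o 4 1) * τ⁻¹ =
        (τ * S.o 4 1 * τ⁻¹) * (τ * S.o 0 1 * τ⁻¹) * (τ * S.o 4 1 * τ⁻¹) := by group
    rw [e, e0, e4, hN, hxm, o_inv]
  -- the torus element
  set d := S.h c c with hd
  have hdr : d ^ r = 1 := by rw [hd, h_pow, hcr, S.h_one]
  have hNd : N * d * N⁻¹ = d⁻¹ := by
    have hτd : τ⁻¹ * d * τ = d := by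
      rw [hτ, hd, S.h_inv, S.h_mul, S.h_mul, mul_right_comm, mul_right_comm _ c, inv_mul_cancel, one_mul,
        inv_mul_cancel, one_mul]
    have hτd' : τ * d⁻¹ * τ⁻¹ = d⁻¹ := by
      have h1 : d⁻¹ = τ * (τ⁻¹ * d⁻¹ * τ) * τ⁻¹ := by group
      have h2 : τ⁻¹ * d⁻¹ * τ = (τ⁻¹ * d * τ)⁻¹ := by group
      rw [h2, hτd] at h1
      exact h1.symm
    have hn1 : S.n1 * d * S.n1⁻¹ = d⁻¹ := by rw [hd, n1_h, S.h_inv]
    rw [hNτ]
    calc τ * S.n1 * τ⁻¹ * d * (τ * S.n1 * τ⁻¹)⁻¹ = τ * (S.n1 * (τ⁻¹ * d * τ) * S.n1⁻¹) * τ⁻¹ := by group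
      _ = d⁻¹ := by rw [hτd, hn1, hτd']
  have hxmX : xm ∈ S.XZ 9 := (mem_X9 S).2 ⟨_, rfl⟩
  have hox : S.o 0 t ∈ S.XZ 1 := (mem_X1 S).2 ⟨_, rfl⟩
  have c9 : ∀ {w}, w ∈ S.XZ 9 → ∀ x ∈ J S.XZ 2 8, w * x * w⁻¹ ∈ J S.XZ 2 8 := fun hw x hx =>
    Z.conj_X (by norm_num) (by norm_num) (by norm_num) hw hx
  have c1 : ∀ {w}, w ∈ S.XZ 1 → ∀ x ∈ J S.XZ 2 8, w * x * w⁻¹ ∈ J S.XZ 2 8 := fun hw x hx =>
    Z.conj_X (by norm_num) (by norm_num) (by norm_num) hw hx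
  have hNQ : ∀ x ∈ J S.XZ 2 8, N * x * N⁻¹ ∈ J S.XZ 2 8 := by
    intro x hx
    have e : N * x * N⁻¹ = xm * (S.o 0 t * (xm⁻¹ * x * xm⁻¹⁻¹) * (S.o 0 t)⁻¹) * xm⁻¹ := by rw [hN]; group
    rw [e]
    exact c9 hxmX _ (c1 hox _ (c9 (inv_mem hxmX) _ hx))
  have hNinv : N⁻¹ = xm * (S.o 0 t)⁻¹ * xm⁻¹ := by rw [hN]; group
  have hNQ' : ∀ x ∈ J S.XZ 2 8, N⁻¹ * x * N ∈ J S.XZ 2 8 := by
    intro x hx
    have e : N⁻¹ * x * N = xm * ((S.o 0 t)⁻¹ * (xm⁻¹ * x * xm⁻¹⁻¹) * (S.o 0 t)⁻¹⁻¹) * xm⁻¹ := by rw [hN]; group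
    rw [e]
    exact c9 hxmX _ (c1 (inv_mem hox) _ (c9 (inv_mem hxmX) _ hx))
  have hdQ : ∀ x ∈ J S.XZ 2 8, d * x * d⁻¹ ∈ J S.XZ 2 8 := fun x hx => h_J S c c hx
  have hQ2 : IsPGroup 2 (J S.XZ 2 8) := isPGroup_J Z (two_X S hR) 8 2 8 (by norm_num) (by norm_num)
  have hq1 : xm * q * xm⁻¹ ∈ J S.XZ 2 8 := c9 hxmX q hq
  have hg : (N * (xm * q * xm⁻¹)) * (N * (xm * q * xm⁻¹)) = 1 := by
    have e : N * (xm * q * xm⁻¹) = xm * (S.o 0 t * q) * xm⁻¹ := by rw [hN]; group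
    rw [e]
    calc xm * (S.o 0 t * q) * xm⁻¹ * (xm * (S.o 0 t * q) * xm⁻¹) = xm * ((S.o 0 t * q) * (S.o 0 t * q)) * xm⁻¹ := by group
      _ = 1 := by rw [hyy]; group
  obtain ⟨w, hw, q', hq', e1, e2⟩ := InvConj.exists_conj hQ2 hr hr2 hdr hNd hdQ hNQ hNQ' hq1 hg
  -- `q' ∈ X_5`
  have hq5 : q' ∈ S.XZ 5 := by
    have hcσ : Units.map (σ : F →* F) c ≠ c := fun h => hc1 (s2 S h)
    refine fix_X Z (a := 2) (b := 8) (c := 5) (by norm_num) (d := d) (h_X S c c) ?_ hq' (by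
      rw [mul_inv_eq_iff_eq_mul]; exact e2.symm)
    intro k h1 h2 h5 x hx hf
    have hcases : k = 2 ∨ k = 3 ∨ k = 4 ∨ k = 6 ∨ k = 7 ∨ k = 8 := by omega
    rcases hcases with rfl | rfl | rfl | rfl | rfl | rfl
    · exact fixX_even S (a := 1) (c := c) (d := c) (by
        rw [Int.cast_one, chE_one]; exact hc1) hx hf
    · exact fixX_odd S (a := 1) (c := c) (d := c) (by
        rw [Int.cast_one, chO, chE_one, show (1 : ZMod 8) + 1 = 2 by decide, chE_two, mul_div_cancel]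
        exact (map_ne_one_iff _ (fun a b h => Units.ext (σ.injective (congrArg Units.val h)))).2 hc1) hx hf
    · exact fixX_even S (a := 2) (c := c) (d := c) (by
        rw [Int.cast_ofNat, chE_two, ne_eq, div_eq_one]; exact hcσ) hx hf
    · exact fixX_even S (a := 3) (c := c) (d := c) (by
        rw [Int.cast_ofNat, chE_three, ne_eq, div_eq_one]; exact fun h => hcσ h.symm) hx hf
    · exact fixX_odd S (a := 3) (c := c) (d := c) (by
        rw [Int.cast_ofNat, chO, chE_three, show (3 : ZMod 8) + 1 = 4 by decide, chE_four, div_mul_eq_mul_div,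
          mul_inv_cancel, one_div, ne_eq, inv_eq_one]
        exact (map_ne_one_iff _ (fun a b h => Units.ext (σ.injective (congrArg Units.val h)))).2 hc1) hx hf
    · exact fixX_even S (a := 4) (c := c) (d := c) (by
        rw [Int.cast_ofNat, chE_four, ne_eq, inv_eq_one]; exact hc1) hx hf
  obtain ⟨s, rfl⟩ := (mem_X5 S).1 hq5
  refine ⟨t, s, ht, ?_⟩
  -- assemble
  have C1 : Cj (S.o 0 t * q) (N * S.o 2 s) := by
    refine Cj.trans (y := N * (xm * q * xm⁻¹)) ⟨xm, by rw [hN]; group⟩ ⟨w⁻¹, ?_⟩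
    rw [inv_inv]; exact e1
  refine C1.trans ⟨xm⁻¹, ?_⟩
  have h25 : xm * S.o 2 s = S.o 2 s * xm := by
    have := S.o_o2 2 s t⁻¹
    rw [show (2 : ZMod 8) + 2 = 4 by decide] at this
    exact this.symm
  have e3 : xm⁻¹ * S.o 2 s * xm = S.o 2 s := by
    rw [mul_assoc, ← h25]; group
  calc xm⁻¹ * (N * S.o 2 s) * xm⁻¹⁻¹ = S.o 0 t * (xm⁻¹ * S.o 2 s * xm) := by rw [hN]; group
    _ = _ := by rw [e3]

/-- case A -/
theorem caseA (hF : ∃ c : Fˣ, c ≠ 1) (hR : S.R.p = 2) {y : G} (hy : y ∈ J S.XZ 1 8) (hy2 : y ∉ J S.XZ 1 7)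
    (hyy : y * y = 1) : ∃ v u : F, v ≠ 0 ∧ Cj y (S.e 4 0 v * S.e 2 0 u) := by
  have Z := S.zsys8
  obtain ⟨x, hx, q, hq, rfl⟩ := Z.split_rl (a := 1) (b := 8) (by norm_num) (by norm_num) hy
  rw [show (8 : ℤ) - 1 = 7 by norm_num] at hq
  have c8 : ∀ {w}, w ∈ S.XZ 8 → ∀ x ∈ J S.XZ 1 7, w * x * w⁻¹ ∈ J S.XZ 1 7 := fun hw x hx =>
    Z.conj_X (by norm_num) (by norm_num) (by norm_num) hw hx
  have c0 : ∀ {w}, w ∈ S.XZ 0 → ∀ x ∈ J S.XZ 1 7, w * x * w⁻¹ ∈ J S.XZ 1 7 := fun hw x hx =>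
    Z.conj_X (by norm_num) (by norm_num) (by norm_num) hw hx
  -- the `X_8`-part is an involution
  obtain ⟨p, v, rfl⟩ := (mem_X8 S).1 hx
  have hxx : S.e 4 p v * S.e 4 p v = 1 := by
    have h1 : S.e 4 p v * S.e 4 p v ∈ J S.XZ 1 7 := by
      have e : S.e 4 p v * S.e 4 p v = ((S.e 4 p v * q) * (S.e 4 p v * q)) *
          (q⁻¹ * ((S.e 4 p v)⁻¹ * q⁻¹ * (S.e 4 p v)⁻¹⁻¹)) := by group
      rw [e, hyy, one_mul]
      exact mul_mem (inv_mem hq) (c8 (inv_mem hx) _ (inv_mem hq))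
    exact Z.inter' (mul_mem hx hx) (J_mono (by norm_num) (by norm_num) h1)
  have hp : p = 0 := by
    rw [e_sq] at hxx
    have h2 := (S.e_eq_one hxx).2
    rcases mul_eq_zero.1 h2 with h | h
    · exact h
    · exact (map_eq_zero σ).1 h
  subst hp
  have hv : v ≠ 0 := by
    rintro rfl
    apply hy2
    rw [S.e_zero, one_mul]; exact hq
  obtain ⟨r, c, hr, hcr, hc1⟩ := exists_prime_unit hF
  have hr2 : r ≠ 2 := ne_two S hcr hc1
  obtain ⟨χ, hχ⟩ := s1_surj S (Units.mk0 v hv)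
  have hχv : (χ : F) * σ χ = v := congrArg Units.val hχ
  set τ := S.h χ⁻¹ 1 with hτ
  set xm := τ * S.e 0 1 0 * τ⁻¹ with hxm
  set z := S.e 4 0 v with hz
  set N := xm * z * xm⁻¹ with hN
  have hNτ : N = τ * S.n2 * τ⁻¹ := by
    have e4 : τ * S.e 4 0 1 * τ⁻¹ = z := by
      rw [hτ, S.h_e, chE_four, inv_inv, mul_zero, mul_one, hχv]
    rw [n2_word' S, hN, hxm, ← e4]; group
  set d := S.h (Units.map (σ : F →* F) c) c with hd
  have hdr : d ^ r = 1 := by rw [hd, h_pow, ← map_pow, hcr, map_one, S.h_one]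
  have hNd : N * d * N⁻¹ = d⁻¹ := by
    have hτd : τ⁻¹ * d * τ = d := by
      rw [hτ, hd, S.h_inv, S.h_mul, S.h_mul, inv_inv, inv_one, one_mul, mul_one, mul_comm χ, mul_assoc,
        mul_inv_cancel, mul_one]
    have hτd' : τ * d⁻¹ * τ⁻¹ = d⁻¹ := by
      have h1 : d⁻¹ = τ * (τ⁻¹ * d⁻¹ * τ) * τ⁻¹ := by group
      have h2 : τ⁻¹ * d⁻¹ * τ = (τ⁻¹ * d * τ)⁻¹ := by group
      rw [h2, hτd] at h1
      exact h1.symm
    have hn2 : S.n2 * d * S.n2⁻¹ = d⁻¹ := by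
      rw [hd, S.n2_h, S.h_inv, map_map σ S.sq]
      congr 1
      rw [pow_two, div_mul_eq_div_div, div_self', one_div]
    rw [hNτ]
    calc τ * S.n2 * τ⁻¹ * d * (τ * S.n2 * τ⁻¹)⁻¹ = τ * (S.n2 * (τ⁻¹ * d * τ) * S.n2⁻¹) * τ⁻¹ := by group
      _ = d⁻¹ := by rw [hτd, hn2, hτd']
  have hxmX : xm ∈ S.XZ 0 := h_X S _ _ 0 _ ((mem_X0 S).2 ⟨_, _, rfl⟩)
  have hzX : z ∈ S.XZ 8 := hx
  have hNQ : ∀ x ∈ J S.XZ 1 7, N * x * N⁻¹ ∈ J S.XZ 1 7 := by
    intro x hx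
    have e : N * x * N⁻¹ = xm * (z * (xm⁻¹ * x * xm⁻¹⁻¹) * z⁻¹) * xm⁻¹ := by rw [hN]; group
    rw [e]
    exact c0 hxmX _ (c8 hzX _ (c0 (inv_mem hxmX) _ hx))
  have hNQ' : ∀ x ∈ J S.XZ 1 7, N⁻¹ * x * N ∈ J S.XZ 1 7 := by
    intro x hx
    have e : N⁻¹ * x * N = xm * (z⁻¹ * (xm⁻¹ * x * xm⁻¹⁻¹) * z⁻¹⁻¹) * xm⁻¹ := by rw [hN]; group
    rw [e]
    exact c0 hxmX _ (c8 (inv_mem hzX) _ (c0 (inv_mem hxmX) _ hx))
  have hdQ : ∀ x ∈ J S.XZ 1 7, d * x * d⁻¹ ∈ J S.XZ 1 7 := fun x hx => h_J S _ _ hx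
  have hQ2 : IsPGroup 2 (J S.XZ 1 7) := isPGroup_J Z (two_X S hR) 8 1 7 (by norm_num) (by norm_num)
  have hq1 : xm * q * xm⁻¹ ∈ J S.XZ 1 7 := c0 hxmX q hq
  have hg : (N * (xm * q * xm⁻¹)) * (N * (xm * q * xm⁻¹)) = 1 := by
    have e : N * (xm * q * xm⁻¹) = xm * (z * q) * xm⁻¹ := by rw [hN]; group
    rw [e]
    calc xm * (z * q) * xm⁻¹ * (xm * (z * q) * xm⁻¹) = xm * ((z * q) * (z * q)) * xm⁻¹ := by group
      _ = 1 := by rw [hyy]; group
  obtain ⟨w, hw, q', hq', e1, e2⟩ := InvConj.exists_conj hQ2 hr hr2 hdr hNd hdQ hNQ hNQ' hq1 hg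
  have hσ1 : Units.map (σ : F →* F) c ≠ 1 :=
    (map_ne_one_iff _ (fun a b h => Units.ext (σ.injective (congrArg Units.val h)))).2 hc1
  have hcσ : c * Units.map (σ : F →* F) c ≠ 1 := fun h => hc1 (s1 S h)
  have hσσ : Units.map (σ : F →* F) (Units.map (σ : F →* F) c) = c ^ 2 := map_map σ S.sq c
  -- `q' ∈ X_4`
  have hq4 : q' ∈ S.XZ 4 := by
    have v2 : chE σ 2 (Units.map (σ : F →* F) c) c = 1 := by rw [chE_two, div_self']
    have v3 : chE σ 3 (Units.map (σ : F →* F) c) c = c⁻¹ := by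
      rw [chE_three, hσσ, pow_two, div_mul_eq_div_div, div_self', one_div]
    refine fix_X Z (a := 1) (b := 7) (c := 4) (by norm_num) (d := d) (h_X S _ _) ?_ hq' (by
      rw [mul_inv_eq_iff_eq_mul]; exact e2.symm)
    intro k h1 h2 h5 x hx hf
    have hcases : k = 1 ∨ k = 2 ∨ k = 3 ∨ k = 5 ∨ k = 6 ∨ k = 7 := by omega
    rcases hcases with rfl | rfl | rfl | rfl | rfl | rfl
    · exact fixX_odd S (a := 0) (by
        rw [Int.cast_zero, chO, chE_zero, zero_add, chE_one, mul_comm]; exact hcσ) hx hf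
    · exact fixX_even S (a := 1) (by
        rw [Int.cast_one, chE_one]; exact hc1) hx hf
    · exact fixX_odd S (a := 1) (by
        rw [Int.cast_one, chO, chE_one, show (1 : ZMod 8) + 1 = 2 by decide, v2, mul_one]; exact hc1) hx hf
    · exact fixX_odd S (a := 2) (by
        rw [Int.cast_ofNat, chO, v2, one_mul, show (2 : ZMod 8) + 1 = 3 by decide, v3, ne_eq, inv_eq_one]
        exact hc1) hx hf
    · exact fixX_even S (a := 3) (by
        rw [Int.cast_ofNat, v3, ne_eq, inv_eq_one]; exact hc1) hx hf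
    · exact fixX_odd S (a := 3) (by
        rw [Int.cast_ofNat, chO, v3, show (3 : ZMod 8) + 1 = 4 by decide, chE_four, ← mul_inv, ne_eq, inv_eq_one]
        exact hcσ) hx hf
  obtain ⟨p', u, rfl⟩ := (mem_X4 S).1 hq4
  -- commutation
  have x04 : ∀ {w}, w ∈ S.XZ 0 → ∀ p u, w * S.e 2 p u = S.e 2 p u * w := by
    intro w hw p u
    obtain ⟨a, b, rfl⟩ := (mem_X0 S).1 hw
    have := S.e_e2 0 a b p u
    rw [zero_add] at this
    exact this
  have x84 : ∀ {w}, w ∈ S.XZ 8 → ∀ p u, w * S.e 2 p u = S.e 2 p u * w := by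
    intro w hw p u
    obtain ⟨a, b, rfl⟩ := (mem_X8 S).1 hw
    have := S.e_e2 2 p u a b
    rw [show (2 : ZMod 8) + 2 = 4 by decide] at this
    exact this.symm
  have hNe : N * S.e 2 p' u = S.e 2 p' u * N := by
    have h1 : Commute xm (S.e 2 p' u) := x04 hxmX p' u
    have h2 : Commute z (S.e 2 p' u) := x84 hzX p' u
    exact ((h1.mul_left h2).mul_left h1.inv_left).eq
  have hNN : N * N = 1 := by
    rw [hN]
    calc xm * z * xm⁻¹ * (xm * z * xm⁻¹) = xm * (z * z) * xm⁻¹ := by group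
      _ = 1 := by rw [hz, z_sq]; group
  have hp' : p' = 0 := by
    have h1 : (N * S.e 2 p' u) * (N * S.e 2 p' u) = 1 := by
      rw [← e1]
      calc w⁻¹ * (N * (xm * q * xm⁻¹)) * w * (w⁻¹ * (N * (xm * q * xm⁻¹)) * w) =
          w⁻¹ * ((N * (xm * q * xm⁻¹)) * (N * (xm * q * xm⁻¹))) * w := by group
        _ = 1 := by rw [hg]; group
    have h2 : (N * S.e 2 p' u) * (N * S.e 2 p' u) = (N * N) * (S.e 2 p' u * S.e 2 p' u) := by
      calc (N * S.e 2 p' u) * (N * S.e 2 p' u) = N * (S.e 2 p' u * N) * S.e 2 p' u := by group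
        _ = _ := by rw [← hNe]; group
    rw [h2, hNN, one_mul, e_sq] at h1
    have h3 := (S.e_eq_one h1).2
    rcases mul_eq_zero.1 h3 with h | h
    · exact h
    · exact (map_eq_zero σ).1 h
  subst hp'
  refine ⟨v, u, hv, ?_⟩
  have C1 : Cj (z * q) (N * S.e 2 0 u) := by
    refine Cj.trans (y := N * (xm * q * xm⁻¹)) ⟨xm, by rw [hN]; group⟩ ⟨w⁻¹, ?_⟩
    rw [inv_inv]; exact e1
  refine C1.trans ⟨xm⁻¹, ?_⟩
  have h25 := x04 hxmX 0 u
  have e3 : xm⁻¹ * S.e 2 0 u * xm = S.e 2 0 u := by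
    rw [mul_assoc, ← h25]; group
  calc xm⁻¹ * (N * S.e 2 0 u) * xm⁻¹⁻¹ = z * (xm⁻¹ * S.e 2 0 u * xm) := by rw [hN]; group
    _ = _ := by rw [e3]

end cases

end Cfsg.Agent.KFacts.TwF4.Inv
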