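import Cfsg.Agent.KFacts.TwF4.Layers

/-!
# The modules of the Levi complement of `C(z)`, `z ∈ Z_4`, in `²F₄(q)`

`L4 = ⟨X_0, X_8⟩`: `irr_one` (`Q2 / Z_4` is irreducible), `irr_two` (`Q / Q1` is irreducible), `PL = L4 Q`,
two-transitivity (`pair_PL`, `pair_HO`).
-/

set_option autoImplicit false

namespace Cfsg.Agent.KFacts.TwF4.Irr

open Cfsg.Agent.SplitTwo Cfsg.Agent.SplitTwo.ZS Cfsg.Agent.TitsThree.RankTwoZ Cfsg.Agent.KFacts.TwF4.Arc
open Cfsg.Agent.KFacts.TwF4.Inv Cfsg.Agent.KFacts.TwF4.SylU Cfsg.Agent.KFacts.TwF4.Perf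
open Cfsg.Agent.KFacts.TwF4.Layers
open scoped Pointwise commutatorElement

universe u

variable {F : Type*} [Field F] {σ : F →+* F} {G : Type u} [Group G] (S : Full σ G)

/-- the Levi complement -/
def L4 : Subgroup G := S.XZ 0 ⊔ S.XZ 8

theorem X0_L4 : S.XZ 0 ≤ L4 S := le_sup_left
theorem X8_L4 : S.XZ 8 ≤ L4 S := le_sup_right

theorem L4_le_PL : L4 S ≤ S.PL := sup_le (X_le_J (by norm_num) (by norm_num)) (X_le_J (by norm_num) (by norm_num))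

theorem n2_mem_L4 : S.n2 ∈ L4 S := by
  rw [S.n2_word]
  exact mul_mem (mul_mem (X8_L4 S ((mem_X8 S).2 ⟨0, 1, rfl⟩)) (X0_L4 S ((mem_X0 S).2 ⟨1, 1, rfl⟩)))
    (X8_L4 S ((mem_X8 S).2 ⟨1, 0, rfl⟩))

theorem T_conj_L4 {t x : G} (ht : t ∈ S.T) (hx : x ∈ L4 S) : t * x * t⁻¹ ∈ L4 S := by
  have : L4 S ≤ (L4 S).comap (MulAut.conj t).toMonoidHom :=
    sup_le (fun y hy => X0_L4 S (S.T_conj ht 0 hy)) (fun y hy => X8_L4 S (S.T_conj ht 8 hy))
  exact this hx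

theorem h_mem_L4 [Finite F] (d : Fˣ) : S.h (Units.map (σ : F →* F) d) d ∈ L4 S := by
  have hinj : Function.Injective (Units.map (σ : F →* F)) := by
    intro a b h
    exact Units.ext (σ.injective (congrArg Units.val h))
  obtain ⟨c, rfl⟩ := Finite.surjective_of_injective hinj d
  rw [map_map σ S.sq]
  have h1 : S.h c (Units.map (σ : F →* F) c) * S.n2 * (S.h c (Units.map (σ : F →* F) c))⁻¹ ∈ L4 S :=
    T_conj_L4 S (S.mem_T.2 ⟨_, _, rfl⟩) (n2_mem_L4 S)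
  have h2 := mul_mem h1 (inv_mem (n2_mem_L4 S))
  have e1 : S.h c (Units.map (σ : F →* F) c) * S.n2 * (S.h c (Units.map (σ : F →* F) c))⁻¹ * S.n2⁻¹ =
      S.h c (Units.map (σ : F →* F) c) * (S.n2 * (S.h c (Units.map (σ : F →* F) c))⁻¹ * S.n2⁻¹) := by group
  rw [e1, S.h_inv, S.n2_h, S.h_mul, inv_inv] at h2
  have e2 : (Units.map (σ : F →* F) c)⁻¹ / Units.map (σ : F →* F) c⁻¹ = 1 := by rw [map_inv, div_self']
  rw [e2, mul_one, ← pow_two] at h2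
  exact h2

/-- `C(z) = L4 Q` -/
theorem PL_split {g : G} (hg : g ∈ S.PL) : ∃ l ∈ L4 S, ∃ q ∈ S.Q, g = l * q := by
  refine mem_sup_of_norm (A := L4 S) (B := S.Q) (fun l hl q hq => Q_norm S (L4_le_PL S hl) hq) ?_
  have : S.PL ≤ L4 S ⊔ S.Q := by
    refine J_le fun k h1 h2 x hx => ?_
    rcases lt_or_ge 0 k with h3 | h3
    · rcases lt_or_ge k 8 with h4 | h4
      · exact Subgroup.mem_sup_right (mem_J hx (by omega) (by omega))
      · rw [show k = 8 by omega] at hx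
        exact Subgroup.mem_sup_left (X8_L4 S hx)
    · rw [show k = 0 by omega] at hx
      exact Subgroup.mem_sup_left (X0_L4 S hx)
  exact this hg

/-! ### two-transitivity -/

/-- `g = b` or `b n2 x`, `b ∈ C(z) ∩ U T`, `x ∈ X_8` -/
theorem bruhat_PL {g : G} (hg : g ∈ S.PL) : g ∈ S.PL ⊓ (J S.XZ 1 8 ⊔ S.T) ∨
    ∃ b ∈ S.PL ⊓ (J S.XZ 1 8 ⊔ S.T), ∃ x ∈ S.XZ 8, g = b * S.n2 * x := by
  have Z8 := S.zsys8
  have hz : S.e 2 0 1 ∈ S.Zc 2 := S.mem_Zc.2 ⟨1, rfl⟩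
  have hz1 : S.e 2 0 1 ≠ 1 := fun h => one_ne_zero (S.e_eq_one h).2
  have hgz : g * S.e 2 0 1 * g⁻¹ ∈ S.Zc 2 := by
    rw [S.comm_PL hg hz, mul_inv_cancel_right]; exact hz
  obtain ⟨b, hb, t, ht, h | ⟨b', hb', h⟩⟩ := S.form_of_conj hz hz1 hgz
  · exact Or.inl ⟨hg, mem_BT S b hb t ht h⟩
  · right
    obtain ⟨x, hx, q, hq, rfl⟩ := Z8.split_rl (a := 1) (b := 8) (by norm_num) (by norm_num) hb'
    have hxP : x ∈ S.PL := mem_J hx (by norm_num) (by norm_num)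
    have hq' : q ∈ S.Q := J_mono le_rfl (by norm_num) hq
    have hq1 : x * q * x⁻¹ ∈ S.Q := Q_norm S hxP hq'
    have hq2 : S.n2 * (x * q * x⁻¹) * S.n2⁻¹ ∈ S.Q := Q_norm S S.n2_mem hq1
    have hq3 : t * (S.n2 * (x * q * x⁻¹) * S.n2⁻¹) * t⁻¹ ∈ J S.XZ 1 8 :=
      S.T_conj_J ht (J_mono (by norm_num) (by norm_num) hq2)
    have e : g = (b * (t * (S.n2 * (x * q * x⁻¹) * S.n2⁻¹) * t⁻¹)) * t * S.n2 * x := by rw [h]; group
    have e2 : (b * (t * (S.n2 * (x * q * x⁻¹) * S.n2⁻¹) * t⁻¹)) * t = g * x⁻¹ * S.n2⁻¹ := by rw [e]; group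
    have m1 : (b * (t * (S.n2 * (x * q * x⁻¹) * S.n2⁻¹) * t⁻¹)) * t ∈ S.PL := by
      rw [e2]
      exact mul_mem (mul_mem hg (inv_mem hxP)) (inv_mem S.n2_mem)
    exact ⟨_, ⟨m1, mem_BT S _ (mul_mem hb hq3) t ht rfl⟩, x, hx, e⟩

/-- `g = b` or `b n1 x`, `b ∈ C(o) ∩ U T`, `x ∈ X_1` -/
theorem bruhat_HO {g : G} (hg : g ∈ S.HO) : g ∈ S.HO ⊓ (J S.XZ 1 8 ⊔ S.T) ∨
    ∃ b ∈ S.HO ⊓ (J S.XZ 1 8 ⊔ S.T), ∃ x ∈ S.XZ 1, g = b * S.n1 * x := by
  have Z8 := S.zsys8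
  obtain ⟨b, hb, t, ht, h | ⟨b', hb', h⟩⟩ := HO_form S hg
  · exact Or.inl ⟨hg, mem_BT S b hb t ht h⟩
  · right
    obtain ⟨x, hx, q, hq, rfl⟩ := Z8.split_ll (a := 1) (b := 8) (by norm_num) (by norm_num) hb'
    have hq1 : x * q * x⁻¹ ∈ J S.XZ 2 8 :=
      Z8.conj_J (a := 2) (b := 8) (c := 1) (d := 1) (by norm_num) (by norm_num) (by norm_num)
        (mem_J hx (by norm_num) (by norm_num)) hq
    have hq2 : S.n1 * (x * q * x⁻¹) * S.n1⁻¹ ∈ J S.XZ 2 8 := S.n1_refl.mem_J hq1 (by norm_num) (by norm_num)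
    have hq3 : t * (S.n1 * (x * q * x⁻¹) * S.n1⁻¹) * t⁻¹ ∈ J S.XZ 1 8 :=
      S.T_conj_J ht (J_mono (by norm_num) le_rfl hq2)
    have hxH : x ∈ S.HO := X1_HO S hx
    have e : g = (b * (t * (S.n1 * (x * q * x⁻¹) * S.n1⁻¹) * t⁻¹)) * t * S.n1 * x := by rw [h]; group
    have e2 : (b * (t * (S.n1 * (x * q * x⁻¹) * S.n1⁻¹) * t⁻¹)) * t = g * x⁻¹ * S.n1⁻¹ := by rw [e]; group
    have m1 : (b * (t * (S.n1 * (x * q * x⁻¹) * S.n1⁻¹) * t⁻¹)) * t ∈ S.HO := by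
      rw [e2]
      exact mul_mem (mul_mem hg (inv_mem hxH)) (inv_mem (n1_mem_HO S))
    exact ⟨_, ⟨m1, mem_BT S _ (mul_mem hb hq3) t ht rfl⟩, x, hx, e⟩

/-- abstract: from a Bruhat decomposition of rank one to two-transitivity -/
theorem pair_of {H B : Subgroup G} (hBH : B ≤ H) {n : G} {P : G → Prop}
    (h : ∀ g ∈ H, g ∈ B ∨ ∃ b ∈ B, ∃ x, P x ∧ g = b * n * x) {g k : G} (hg : g ∈ H) (hk : k ∈ H) :
    ∃ m ∈ H, m * g ∈ B ∧ (m * k ∈ B ∨ ∃ x, P x ∧ m * k = n * x) := by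
  rcases h (g⁻¹ * k) (mul_mem (inv_mem hg) hk) with h1 | ⟨b, hb, x, hx, h1⟩
  · exact ⟨g⁻¹, inv_mem hg, by rw [inv_mul_cancel]; exact one_mem _, Or.inl h1⟩
  · refine ⟨b⁻¹ * g⁻¹, mul_mem (inv_mem (hBH hb)) (inv_mem hg), ?_, Or.inr ⟨x, hx, ?_⟩⟩
    · have e : b⁻¹ * g⁻¹ * g = b⁻¹ := by group
      rw [e]; exact inv_mem hb
    · calc b⁻¹ * g⁻¹ * k = b⁻¹ * (g⁻¹ * k) := by group
        _ = n * x := by rw [h1]; group

/-- **two-transitivity of `C(z)`** -/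
theorem pair_PL {g k : G} (hg : g ∈ S.PL) (hk : k ∈ S.PL) : ∃ m ∈ S.PL, m * g ∈ S.PL ⊓ (J S.XZ 1 8 ⊔ S.T) ∧
    (m * k ∈ S.PL ⊓ (J S.XZ 1 8 ⊔ S.T) ∨ ∃ x, x ∈ S.XZ 8 ∧ m * k = S.n2 * x) :=
  pair_of inf_le_left (n := S.n2) (P := fun x => x ∈ S.XZ 8) (fun _ hg => bruhat_PL S hg) hg hk

/-- **two-transitivity of `C(o)`** -/
theorem pair_HO {g k : G} (hg : g ∈ S.HO) (hk : k ∈ S.HO) : ∃ m ∈ S.HO, m * g ∈ S.HO ⊓ (J S.XZ 1 8 ⊔ S.T) ∧
    (m * k ∈ S.HO ⊓ (J S.XZ 1 8 ⊔ S.T) ∨ ∃ x, x ∈ S.XZ 1 ∧ m * k = S.n1 * x) :=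
  pair_of inf_le_left (n := S.n1) (P := fun x => x ∈ S.XZ 1) (fun _ hg => bruhat_HO S hg) hg hk

/-! ### the coordinates of `Q2` -/

/-- the elements of `Q2` -/
def q2 (u s z t w : F) : G := S.e 1 0 u * S.o 1 s * S.e 2 0 z * S.o 2 t * S.e 3 0 w

/-- `Q2` is commutative -/
theorem Q2_comm {x y : G} (hx : x ∈ S.Q2) (hy : y ∈ S.Q2) : x * y = y * x :=
  S.Q1_comm (Subgroup.mem_sup_right hx) hy

theorem z_add (a : ZMod 8) (u v : F) : S.e a 0 u * S.e a 0 v = S.e a 0 (u + v) := by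
  rw [S.e_mul, zero_mul, add_zero, add_zero]

theorem q2_mul (u s z t w u' s' z' t' w' : F) : q2 S u s z t w * q2 S u' s' z' t' w' =
    q2 S (u + u') (s + s') (z + z') (t + t') (w + w') := by
  unfold q2
  have c : ∀ {x y : G}, x ∈ S.Q2 → y ∈ S.Q2 → x * y = y * x := fun hx hy => Q2_comm S hx hy
  rw [← z_add, ← z_add, ← z_add, ← S.o_add, ← S.o_add]
  have m1 : S.e 1 0 u ∈ S.Q2 := S.q2_1 _
  have m1' : S.e 1 0 u' ∈ S.Q2 := S.q2_1 _
  have m2 : S.o 1 s ∈ S.Q2 := S.q2_2 _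
  have m2' : S.o 1 s' ∈ S.Q2 := S.q2_2 _
  have m3 : S.e 2 0 z ∈ S.Q2 := S.q2_3 _
  have m3' : S.e 2 0 z' ∈ S.Q2 := S.q2_3 _
  have m4 : S.o 2 t ∈ S.Q2 := S.q2_4 _
  have m4' : S.o 2 t' ∈ S.Q2 := S.q2_4 _
  have m5 : S.e 3 0 w ∈ S.Q2 := S.q2_5 _
  generalize S.e 1 0 u = a1 at *
  generalize S.e 1 0 u' = b1 at *
  generalize S.o 1 s = a2 at *
  generalize S.o 1 s' = b2 at *
  generalize S.e 2 0 z = a3 at *
  generalize S.e 2 0 z' = b3 at *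
  generalize S.o 2 t = a4 at *
  generalize S.o 2 t' = b4 at *
  generalize S.e 3 0 w = a5 at *
  have h1 : a2 * a3 * a4 * a5 * b1 = b1 * (a2 * a3 * a4 * a5) :=
    c (mul_mem (mul_mem (mul_mem m2 m3) m4) m5) m1'
  have h2 : a3 * a4 * a5 * b2 = b2 * (a3 * a4 * a5) := c (mul_mem (mul_mem m3 m4) m5) m2'
  have h3 : a4 * a5 * b3 = b3 * (a4 * a5) := c (mul_mem m4 m5) m3'
  have h4 : a5 * b4 = b4 * a5 := c m5 m4'
  calc a1 * a2 * a3 * a4 * a5 * (b1 * b2 * b3 * b4 * S.e 3 0 w')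
      = a1 * (a2 * a3 * a4 * a5 * b1) * b2 * b3 * b4 * S.e 3 0 w' := by group
    _ = (a1 * b1) * a2 * (a3 * a4 * a5 * b2) * b3 * b4 * S.e 3 0 w' := by rw [h1]; group
    _ = (a1 * b1) * (a2 * b2) * a3 * (a4 * a5 * b3) * b4 * S.e 3 0 w' := by rw [h2]; group
    _ = (a1 * b1) * (a2 * b2) * (a3 * b3) * a4 * (a5 * b4) * S.e 3 0 w' := by rw [h3]; group
    _ = _ := by rw [h4]; group

theorem q2_zero : q2 S 0 0 0 0 0 = 1 := by
  unfold q2
  simp only [S.e_zero, S.o_zero, mul_one]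

/-- every element of `Q2` has coordinates -/
theorem mem_Q2 {x : G} : x ∈ S.Q2 ↔ ∃ u s z t w, q2 S u s z t w = x := by
  constructor
  · intro hx
    let K : Subgroup G :=
      { carrier := {x | ∃ u s z t w, q2 S u s z t w = x}
        one_mem' := ⟨0, 0, 0, 0, 0, q2_zero S⟩
        mul_mem' := by
          rintro _ _ ⟨u, s, z, t, w, rfl⟩ ⟨u', s', z', t', w', rfl⟩
          exact ⟨_, _, _, _, _, (q2_mul S _ _ _ _ _ _ _ _ _ _).symm⟩
        inv_mem' := by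
          rintro _ ⟨u, s, z, t, w, rfl⟩
          refine ⟨u, s, z, t, w, ?_⟩
          rw [eq_inv_iff_mul_eq_one, q2_mul]
          simp only [char2 S, q2_zero] }
    have : S.Q2 ≤ K := S.Q2_le
      (fun u => ⟨u, 0, 0, 0, 0, by unfold q2; simp only [S.e_zero, S.o_zero, mul_one]⟩)
      (fun t => ⟨0, t, 0, 0, 0, by unfold q2; simp only [S.e_zero, S.o_zero, mul_one, one_mul]⟩)
      (fun u => ⟨0, 0, u, 0, 0, by unfold q2; simp only [S.e_zero, S.o_zero, mul_one, one_mul]⟩)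
      (fun t => ⟨0, 0, 0, t, 0, by unfold q2; simp only [S.e_zero, S.o_zero, mul_one, one_mul]⟩)
      (fun u => ⟨0, 0, 0, 0, u, by unfold q2; simp only [S.e_zero, S.o_zero, one_mul]⟩)
    exact this hx
  · rintro ⟨u, s, z, t, w, rfl⟩
    exact mul_mem (mul_mem (mul_mem (mul_mem (S.q2_1 _) (S.q2_2 _)) (S.q2_3 _)) (S.q2_4 _)) (S.q2_5 _)

/-! ### `δ g x = x⁻¹ g⁻¹ x g` -/

/-- `x⁻¹ g⁻¹ x g` -/
def dl (g x : G) : G := x⁻¹ * (g⁻¹ * x * g)

omit S in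
theorem dl_of {g x r : G} (h : x * g = g * x * r) : dl g x = r := by
  unfold dl
  rw [mul_assoc g⁻¹, h]; group

omit S in
theorem dl_mul (g x y : G) : dl g (x * y) = (y⁻¹ * dl g x * y) * dl g y := by
  unfold dl; group

omit S in
theorem dl_mem {N : Subgroup G} {g x : G} (hn : g⁻¹ * x * g ∈ N) (hx : x ∈ N) : dl g x ∈ N :=
  mul_mem (inv_mem hx) hn

/-- on `Q2` the map `dl g` is multiplicative -/
theorem dl_Q2 {g x y : G} (hg : g ∈ S.PL) (hx : x ∈ S.Q2) (hy : y ∈ S.Q2) : dl g (x * y) = dl g x * dl g y := by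
  rw [dl_mul]
  have h1 : dl g x ∈ S.Q2 := by
    refine dl_mem ?_ hx
    have := Q2_norm' S (inv_mem hg) hx
    rwa [inv_inv] at this
  congr 1
  rw [mul_assoc, Q2_comm S h1 hy, inv_mul_cancel_left]

theorem dl_01_z1 (u : F) : dl (S.e 4 0 1) (S.e 1 0 u) = S.e 2 0 (σ u) * S.o 2 u * S.e 3 0 u := by
  have h := S.e_e3 1 0 u 0 1
  simp only [map_zero, map_one, mul_zero, zero_mul, mul_one, zero_add, add_zero, S.o_zero] at h
  have h' : S.e 1 0 u * S.e 4 0 1 = S.e 4 0 1 * S.e 1 0 u * (S.e 2 0 (σ u) * S.o 2 u * S.e 3 0 u) := by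
    rw [← mul_assoc, ← mul_assoc]; exact h
  exact dl_of h'

theorem dl_01_o1 (s : F) : dl (S.e 4 0 1) (S.o 1 s) = S.e 3 0 s := by
  have h := S.o_e3 1 s 0 1
  simp only [map_zero, mul_zero, mul_one, zero_add, S.o_zero, S.e_zero] at h
  exact dl_of h

theorem dl_z2 (q v z : F) : dl (S.e 4 q v) (S.e 2 0 z) = 1 := by
  refine dl_of ?_
  rw [mul_one]
  exact (S.comm_Z4 (k := 8) (by norm_num) (by norm_num) ((mem_X8 S).2 ⟨q, v, rfl⟩) z).symm

theorem dl_o2 (q v t : F) : dl (S.e 4 q v) (S.o 2 t) = S.e 3 0 (t * q) := dl_of (S.o_e2 2 t q v)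

theorem dl_e3 (q v p w : F) : dl (S.e 4 q v) (S.e 3 p w) = S.o 3 (p * q) := dl_of (S.e_e1 3 p w q v)

theorem dl_o3 (q v s : F) : dl (S.e 4 q v) (S.o 3 s) = 1 := by
  refine dl_of ?_
  rw [mul_one]
  exact S.o_e1 3 s q v

theorem e401 : S.e 4 0 1 ∈ S.PL := mem_J ((mem_X8 S).2 ⟨0, 1, rfl⟩) (by norm_num) (by norm_num)
theorem e410 : S.e 4 1 0 ∈ S.PL := mem_J ((mem_X8 S).2 ⟨1, 0, rfl⟩) (by norm_num) (by norm_num)

theorem dl_01_q2 (u s z t w : F) : dl (S.e 4 0 1) (q2 S u s z t w) = S.e 2 0 (σ u) * S.o 2 u * S.e 3 0 (u + s) := by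
  unfold q2
  rw [dl_Q2 S (e401 S) (mul_mem (mul_mem (mul_mem (S.q2_1 _) (S.q2_2 _)) (S.q2_3 _)) (S.q2_4 _)) (S.q2_5 _),
    dl_Q2 S (e401 S) (mul_mem (mul_mem (S.q2_1 _) (S.q2_2 _)) (S.q2_3 _)) (S.q2_4 _),
    dl_Q2 S (e401 S) (mul_mem (S.q2_1 _) (S.q2_2 _)) (S.q2_3 _),
    dl_Q2 S (e401 S) (S.q2_1 _) (S.q2_2 _), dl_01_z1, dl_01_o1, dl_z2, dl_o2, dl_e3, mul_zero, S.e_zero, zero_mul,
    S.o_zero, mul_one, mul_one, mul_one, mul_assoc _ (S.e 3 0 u), z_add]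

theorem dl_10_q2 (z t w : F) : dl (S.e 4 1 0) (q2 S 0 0 z t w) = S.e 3 0 t := by
  have e : q2 S 0 0 z t w = S.e 2 0 z * S.o 2 t * S.e 3 0 w := by
    unfold q2; rw [S.e_zero, S.o_zero, one_mul, one_mul]
  rw [e, dl_Q2 S (e410 S) (mul_mem (S.q2_3 _) (S.q2_4 _)) (S.q2_5 _), dl_Q2 S (e410 S) (S.q2_3 _) (S.q2_4 _), dl_z2,
    dl_o2, dl_e3, zero_mul, S.o_zero, mul_one, mul_one, one_mul]

/-- a subgroup invariant under `X_0` and `X_8` is normalised by `L4` -/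
theorem L4_conj {N : Subgroup G} (h0 : ∀ g ∈ S.XZ 0, ∀ x ∈ N, g * x * g⁻¹ ∈ N)
    (h8 : ∀ g ∈ S.XZ 8, ∀ x ∈ N, g * x * g⁻¹ ∈ N) {g x : G} (hg : g ∈ L4 S) (hx : x ∈ N) : g * x * g⁻¹ ∈ N := by
  have key : ∀ {X : Subgroup G}, (∀ g ∈ X, ∀ x ∈ N, g * x * g⁻¹ ∈ N) → X ≤ Subgroup.normalizer (N : Set G) := by
    intro X h g hg
    rw [Subgroup.mem_normalizer_iff]
    intro x
    refine ⟨fun hx => h g hg x hx, fun hx => ?_⟩
    have := h g⁻¹ (inv_mem hg) _ hx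
    have e : g⁻¹ * (g * x * g⁻¹) * g⁻¹⁻¹ = x := by group
    rwa [e] at this
  exact (Subgroup.mem_normalizer_iff.1 ((sup_le (key h0) (key h8)) hg) x).1 hx

/-- **`Q2 / Z_4` is irreducible** -/
theorem irr_one [Finite F] {N : Subgroup G} (hZ : S.Zc 2 ≤ N) (hN : N ≤ S.Q2)
    (h0 : ∀ g ∈ S.XZ 0, ∀ x ∈ N, g * x * g⁻¹ ∈ N) (h8 : ∀ g ∈ S.XZ 8, ∀ x ∈ N, g * x * g⁻¹ ∈ N)
    (hne : ¬ N ≤ S.Zc 2) : N = S.Q2 := by
  apply le_antisymm hN
  have hd : ∀ {q v : F} {x : G}, x ∈ N → dl (S.e 4 q v) x ∈ N := by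
    intro q v x hx
    refine dl_mem ?_ hx
    have := h8 (S.e 4 q v)⁻¹ (inv_mem ((mem_X8 S).2 ⟨q, v, rfl⟩)) x hx
    rwa [inv_inv] at this
  have hz : ∀ z, S.e 2 0 z ∈ N := fun z => hZ ⟨z, rfl⟩
  obtain ⟨x, hx, hxZ⟩ := SetLike.not_le_iff_exists.1 hne
  obtain ⟨u, s, z, t, w, rfl⟩ := (mem_Q2 S).1 (hN hx)
  -- a non-trivial element of `Z_6`
  have h6 : ∃ w, w ≠ 0 ∧ S.e 3 0 w ∈ N := by
    by_cases hu : u = 0
    · subst hu
      by_cases hs : s = 0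
      · subst hs
        by_cases ht : t = 0
        · subst ht
          have e : q2 S 0 0 z 0 w = S.e 2 0 z * S.e 3 0 w := by
            unfold q2; rw [S.e_zero, S.o_zero, S.o_zero, one_mul, one_mul, mul_one]
          rw [e] at hx hxZ
          refine ⟨w, ?_, ?_⟩
          · rintro rfl
            apply hxZ
            rw [S.e_zero, mul_one]; exact ⟨z, rfl⟩
          · have := mul_mem (inv_mem (hz z)) hx
            rwa [inv_mul_cancel_left] at this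
        · refine ⟨t, ht, ?_⟩
          have := hd (q := 1) (v := 0) hx
          rwa [dl_10_q2] at this
      · refine ⟨s, hs, ?_⟩
        have := hd (q := 0) (v := 1) hx
        rw [dl_01_q2, map_zero, S.e_zero, S.o_zero, one_mul, one_mul, zero_add] at this
        exact this
    · refine ⟨u, hu, ?_⟩
      have h1 := hd (q := 0) (v := 1) hx
      rw [dl_01_q2] at h1
      have e : S.e 2 0 (σ u) * S.o 2 u * S.e 3 0 (u + s) = q2 S 0 0 (σ u) u (u + s) := by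
        unfold q2; rw [S.e_zero, S.o_zero, one_mul, one_mul]
      rw [e] at h1
      have h2 := hd (q := 1) (v := 0) h1
      rwa [dl_10_q2] at h2
  obtain ⟨w, hw, hwN⟩ := h6
  have hL : ∀ {g x : G}, g ∈ L4 S → x ∈ N → g * x * g⁻¹ ∈ N := fun hg hx => L4_conj S h0 h8 hg hx
  have k6 : ∀ w', S.e 3 0 w' ∈ N := by
    intro w'
    by_cases hw' : w' = 0
    · subst hw'; rw [S.e_zero]; exact one_mem _
    obtain ⟨χ, hχ⟩ := s1_surj S (Units.mk0 (w' * w⁻¹) (mul_ne_zero hw' (inv_ne_zero hw)))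
    have h1 := hL (h_mem_L4 S χ⁻¹) hwN
    rw [S.h_e, mul_zero] at h1
    have e3 : chE σ 3 (Units.map (σ : F →* F) χ⁻¹) χ⁻¹ = χ := by
      rw [chE_three, map_map σ S.sq, pow_two, div_mul_cancel_left, inv_inv]
    rw [e3] at h1
    have e4 : (χ : F) * σ (χ : F) = w' * w⁻¹ := congrArg Units.val hχ
    rw [e4, mul_assoc, inv_mul_cancel₀ hw, mul_one] at h1
    exact h1
  have hn : ∀ {x : G}, x ∈ N → S.n2 * x * S.n2⁻¹ ∈ N := fun hx => hL (n2_mem_L4 S) hx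
  have k2 : ∀ w', S.e 1 0 w' ∈ N := by
    intro w'
    have := hn (k6 w')
    rwa [S.n2_e] at this
  have k5 : ∀ t', S.o 2 t' ∈ N := by
    intro t'
    have h1 := hd (q := 0) (v := 1) (k2 t')
    rw [dl_01_z1] at h1
    have e : S.o 2 t' = (S.e 2 0 (σ t'))⁻¹ * (S.e 2 0 (σ t') * S.o 2 t' * S.e 3 0 t') * (S.e 3 0 t')⁻¹ := by group
    rw [e]
    exact mul_mem (mul_mem (inv_mem (hz _)) h1) (inv_mem (k6 _))
  have k3 : ∀ t', S.o 1 t' ∈ N := by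
    intro t'
    have := hn (k5 t')
    rwa [S.n2_o] at this
  exact S.Q2_le k2 k3 hz k5 k6

/-! ### `Q / Q1` -/

theorem Q1_le_Q : S.Q1 ≤ S.Q := S.Q1_le_J.trans (J_mono (by norm_num) (by norm_num))

theorem Q2_le_Q1 : S.Q2 ≤ S.Q1 := le_sup_right

/-- `Q1 = C(Q2)` is normalised by `C(z)` -/
theorem Q1_norm {g x : G} (hg : g ∈ S.PL) (hx : x ∈ S.Q1) : g * x * g⁻¹ ∈ S.Q1 := by
  rw [← S.centralizer_Q2, Subgroup.mem_centralizer_iff] at hx ⊢
  intro y hy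
  have h1 : g⁻¹ * y * g ∈ S.Q2 := by
    have := Q2_norm' S (inv_mem hg) hy
    rwa [inv_inv] at this
  have h2 := hx _ h1
  calc y * (g * x * g⁻¹) = g * ((g⁻¹ * y * g) * x) * g⁻¹ := by group
    _ = _ := by rw [h2]; group

theorem Q1_norm_inv {g x : G} (hg : g ∈ S.PL) (hx : x ∈ S.Q1) : g⁻¹ * x * g ∈ S.Q1 := by
  have := Q1_norm S (inv_mem hg) hx
  rwa [inv_inv] at this

theorem J35_le_Q1 : J S.XZ 3 5 ≤ S.Q1 := by
  refine J_le fun k h1 h2 x hx => ?_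
  have hk : k = 3 ∨ k = 4 ∨ k = 5 := by omega
  rcases hk with rfl | rfl | rfl
  · obtain ⟨t, rfl⟩ := (mem_X3 S).1 hx
    exact Q2_le_Q1 S (S.q2_2 t)
  · exact Subgroup.mem_sup_left hx
  · obtain ⟨t, rfl⟩ := (mem_X5 S).1 hx
    exact Q2_le_Q1 S (S.q2_4 t)

/-- congruence modulo `Q1` -/
def M (x y : G) : Prop := x⁻¹ * y ∈ S.Q1

theorem M.refl (x : G) : M S x x := by unfold M; rw [inv_mul_cancel]; exact one_mem _

variable {S} in
theorem M.trans {x y z : G} (h1 : M S x y) (h2 : M S y z) : M S x z := by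
  unfold M at *
  have e : x⁻¹ * z = (x⁻¹ * y) * (y⁻¹ * z) := by group
  rw [e]; exact mul_mem h1 h2

variable {S} in
theorem M.mul {a a' b b' : G} (hb : b ∈ S.PL) (h1 : M S a a') (h2 : M S b b') : M S (a * b) (a' * b') := by
  unfold M at *
  have e : (a * b)⁻¹ * (a' * b') = (b⁻¹ * (a⁻¹ * a') * b) * (b⁻¹ * b') := by group
  rw [e]; exact mul_mem (Q1_norm_inv S hb h1) h2

variable {S} in
/-- elements congruent modulo `Q1 ≤ N` -/
theorem M.mem {N : Subgroup G} (hN : S.Q1 ≤ N) {x y : G} (h : M S x y) (hx : x ∈ N) : y ∈ N := by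
  have e : y = x * (x⁻¹ * y) := by group
  rw [e]; exact mul_mem hx (hN h)

/-- elements of `Q1` are congruent to `1` -/
theorem M_one {x : G} (hx : x ∈ S.Q1) : M S x 1 := by unfold M; rw [mul_one]; exact inv_mem hx

theorem M_pre {a y : G} (ha : a ∈ S.Q1) (hy : y ∈ S.PL) : M S (a * y) y := by
  have := M.mul (S := S) hy (M_one S ha) (M.refl S y)
  rwa [one_mul] at this

/-- `dl g` is multiplicative modulo `Q1` on `Q` -/
theorem dl_M {g x y : G} (hg : g ∈ S.PL) (hx : x ∈ S.Q) (hy : y ∈ S.Q) :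
    M S (dl g (x * y)) (dl g x * dl g y) := by
  have hQP : S.Q ≤ S.PL := J_mono (by norm_num) (by norm_num)
  have h1 : dl g x ∈ S.Q := dl_mem (by have := Q_norm S (inv_mem hg) hx; rwa [inv_inv] at this) hx
  have h2 : dl g y ∈ S.Q := dl_mem (by have := Q_norm S (inv_mem hg) hy; rwa [inv_inv] at this) hy
  rw [dl_mul]
  refine M.mul (hQP h2) ?_ (M.refl S _)
  unfold M
  have e : (y⁻¹ * dl g x * y)⁻¹ * dl g x = ⁅y⁻¹, (dl g x)⁻¹⁆ := by rw [commutatorElement_def]; group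
  rw [e]
  apply Q2_le_Q1 S
  rw [← comm_Q S]
  exact Subgroup.commutator_mem_commutator (inv_mem hy) (inv_mem h1)

theorem dl_Q1 {g x : G} (hg : g ∈ S.PL) (hx : x ∈ S.Q1) : dl g x ∈ S.Q1 := dl_mem (Q1_norm_inv S hg hx) hx

/-- `dl (e 4 0 1)` on `X_1` -/
theorem dl_01_o0 (t : F) : ∃ a ∈ S.Q1, ∃ A, dl (S.e 4 0 1) (S.o 0 t) = a * (S.e 3 t A * S.o 3 (t * σ 1)) := by
  have key : ∀ {g x A B C D E K : G}, x * g = g * x * A * B * C * D * E * K → dl g x = A * B * C * D * (E * K) := by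
    intro g x A B C D E K h
    refine dl_of (h.trans ?_)
    group
  have h := key (S.o_e4 0 t 0 1)
  rw [mul_one t] at h
  have e3 : t * 0 * 1 + t * 0 * 0 * σ 0 + t * σ 1 = t * σ 1 := by ring
  rw [e3, mul_zero t] at h
  exact ⟨_, mul_mem (mul_mem (mul_mem (Q2_le_Q1 S (S.q2_1 _)) (Q2_le_Q1 S (S.q2_2 _)))
      (Subgroup.mem_sup_left (S.mX4 _ _))) (Q2_le_Q1 S (S.q2_4 _)), _, h⟩

/-- `dl (e 4 0 1)` on `X_2` -/
theorem dl_01_e1 (p u : F) : ∃ a ∈ S.Q1, dl (S.e 4 0 1) (S.e 1 p u) = a * S.o 3 p := by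
  have key : ∀ {g x A B C D E : G}, x * g = g * x * A * B * C * D * E → dl g x = A * B * C * D * E := by
    intro g x A B C D E h
    refine dl_of (h.trans ?_)
    group
  have h := key (S.e_e3 1 p u 0 1)
  have e3 : p * 0 * σ 0 + p * 1 = p := by ring
  have e4 : p * σ 0 = 0 := by rw [map_zero, mul_zero]
  rw [e3, e4] at h
  exact ⟨_, mul_mem (mul_mem (mul_mem (Q2_le_Q1 S (S.q2_2 _)) (Subgroup.mem_sup_left (S.mX4 _ _)))
      (Q2_le_Q1 S (S.q2_4 _))) (Q2_le_Q1 S (S.q2_5 _)), h⟩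

theorem o0_Q (t : F) : S.o 0 t ∈ S.Q := mem_J (S.mX1 t) (by norm_num) (by norm_num)
theorem e1_Q (p u : F) : S.e 1 p u ∈ S.Q := mem_J (S.mX2 p u) (by norm_num) (by norm_num)
theorem e3_Q (p u : F) : S.e 3 p u ∈ S.Q := mem_J (S.mX6 p u) (by norm_num) (by norm_num)
theorem o3_Q (t : F) : S.o 3 t ∈ S.Q := mem_J (S.mX7 t) (by norm_num) (by norm_num)
theorem Q_PL {x : G} (hx : x ∈ S.Q) : x ∈ S.PL := J_mono (by norm_num) (by norm_num) hx

/-- the elements of `Q` -/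
theorem form_Q {x : G} (hx : x ∈ S.Q) : ∃ t p u, ∃ m ∈ S.Q1, ∃ r w s, x = S.o 0 t * (S.e 1 p u * (m * (S.e 3 r w * S.o 3 s))) := by
  have Z8 := S.zsys8
  obtain ⟨a, ha, y, hy, rfl⟩ := Z8.split_ll (a := 1) (b := 7) (by norm_num) (by norm_num) hx
  obtain ⟨b, hb, z, hz, rfl⟩ := Z8.split_ll (a := 1 + 1) (b := 7) (by norm_num) (by norm_num) hy
  have hz' : z ∈ J S.XZ 3 7 := hz
  obtain ⟨y7, hy7, c, hc, hcc⟩ := Z8.split_rr (a := 3) (b := 7) (by norm_num) (by norm_num) hz'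
  have hy7' : y7 ∈ J S.XZ 3 6 := hy7
  obtain ⟨y6, hy6, d, hd, hdd⟩ := Z8.split_rr (a := 3) (b := 6) (by norm_num) (by norm_num) hy7'
  obtain ⟨t, rfl⟩ := (mem_X1 S).1 ha
  obtain ⟨p, u, rfl⟩ := (mem_X2 S).1 hb
  obtain ⟨s, rfl⟩ := (mem_X7 S).1 hc
  obtain ⟨r, w, rfl⟩ := (mem_X6 S).1 hd
  refine ⟨t, p, u, y6, J35_le_Q1 S hy6, r, w, s, ?_⟩
  rw [hcc, hdd]; group

/-- **`Q / Q1` is irreducible** -/
theorem irr_two [Finite F] {N : Subgroup G} (hQ1 : S.Q1 ≤ N) (hN : N ≤ S.Q)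
    (h0 : ∀ g ∈ S.XZ 0, ∀ x ∈ N, g * x * g⁻¹ ∈ N) (h8 : ∀ g ∈ S.XZ 8, ∀ x ∈ N, g * x * g⁻¹ ∈ N)
    (hne : ¬ N ≤ S.Q1) : N = S.Q := by
  apply le_antisymm hN
  have hd : ∀ {q v : F} {x : G}, x ∈ N → dl (S.e 4 q v) x ∈ N := by
    intro q v x hx
    refine dl_mem ?_ hx
    have := h8 (S.e 4 q v)⁻¹ (inv_mem ((mem_X8 S).2 ⟨q, v, rfl⟩)) x hx
    rwa [inv_inv] at this
  have g01 := e401 S
  have g10 := e410 S
  have hQP : ∀ {x : G}, x ∈ S.Q → x ∈ S.PL := fun hx => Q_PL S hx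
  obtain ⟨x, hx, hxZ⟩ := SetLike.not_le_iff_exists.1 hne
  obtain ⟨t, p, u, m, hm, r, w, s, rfl⟩ := form_Q S (hN hx)
  have hmQ : m ∈ S.Q := Q1_le_Q S hm
  have q1 := o0_Q S t
  have q2' := e1_Q S p u
  have q3 := e3_Q S r w
  have q4 := o3_Q S s
  -- the images under `dl`
  have D : ∀ {g : G}, g ∈ S.PL → M S (dl g (S.o 0 t * (S.e 1 p u * (m * (S.e 3 r w * S.o 3 s)))))
      (dl g (S.o 0 t) * (dl g (S.e 1 p u) * (dl g m * (dl g (S.e 3 r w) * dl g (S.o 3 s))))) := by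
    intro g hg
    have dQ : ∀ {x : G}, x ∈ S.Q → dl g x ∈ S.Q := fun {x} hx =>
      dl_mem (by have := Q_norm S (inv_mem hg) hx; rwa [inv_inv] at this) hx
    have n1 := mul_mem q3 q4
    have n2 := mul_mem hmQ n1
    have n3 := mul_mem q2' n2
    refine (dl_M S hg q1 n3).trans (M.mul (hQP (dQ n3)) (M.refl S _) ?_)
    refine (dl_M S hg q2' n2).trans (M.mul (hQP (dQ n2)) (M.refl S _) ?_)
    refine (dl_M S hg hmQ n1).trans (M.mul (hQP (dQ n1)) (M.refl S _) ?_)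
    exact dl_M S hg q3 q4
  -- a non-trivial element of `X_7`
  have h7 : ∃ s, s ≠ 0 ∧ S.o 3 s ∈ N := by
    by_cases ht : t = 0
    · subst ht
      have d1 : ∀ g : G, dl g (S.o 0 0) = 1 := by
        intro g; rw [S.o_zero]; unfold dl; group
      by_cases hp : p = 0
      · subst hp
        have hu1 : S.e 1 0 u ∈ S.Q1 := Q2_le_Q1 S (S.q2_1 u)
        by_cases hr : r = 0
        · subst hr
          refine ⟨s, ?_, ?_⟩
          · rintro rfl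
            apply hxZ
            rw [S.o_zero, S.o_zero, one_mul, mul_one]
            exact mul_mem hu1 (mul_mem hm (Q2_le_Q1 S (S.q2_5 w)))
          · rw [S.o_zero, one_mul] at hx
            have e : S.o 3 s = (S.e 1 0 u * (m * S.e 3 0 w))⁻¹ * (S.e 1 0 u * (m * (S.e 3 0 w * S.o 3 s))) := by group
            rw [e]
            exact mul_mem (inv_mem (hQ1 (mul_mem hu1 (mul_mem hm (Q2_le_Q1 S (S.q2_5 w)))))) hx
        · refine ⟨r, hr, ?_⟩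
          have h1 := D g10
          rw [d1, one_mul, dl_e3, dl_o3, mul_one, mul_one] at h1
          have h2 : M S (dl (S.e 4 1 0) (S.e 1 0 u) * (dl (S.e 4 1 0) m * S.o 3 r)) (S.o 3 r) := by
            rw [← mul_assoc]
            exact M_pre S (mul_mem (dl_Q1 S g10 hu1) (dl_Q1 S g10 hm)) (hQP (o3_Q S r))
          exact (h1.trans h2).mem hQ1 (hd hx)
      · refine ⟨p, hp, ?_⟩
        have h1 := D g01
        obtain ⟨a, ha, e1⟩ := dl_01_e1 S p u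
        rw [d1, one_mul, dl_e3, dl_o3, mul_zero, S.o_zero 3, mul_one, mul_one, e1] at h1
        have h2 : M S (a * S.o 3 p * dl (S.e 4 0 1) m) (S.o 3 p) := by
          have h3 : M S (a * S.o 3 p * dl (S.e 4 0 1) m) (S.o 3 p * 1) :=
            M.mul (hQP (Q1_le_Q S (dl_Q1 S g01 hm))) (M_pre S ha (hQP (o3_Q S p))) (M_one S (dl_Q1 S g01 hm))
          rwa [mul_one] at h3
        exact (h1.trans h2).mem hQ1 (hd hx)
    · refine ⟨t, ht, ?_⟩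
      have h1 := D g01
      obtain ⟨a, ha, e1⟩ := dl_01_e1 S p u
      obtain ⟨b, hb, A, e0⟩ := dl_01_o0 S t
      rw [dl_e3, dl_o3, mul_zero, S.o_zero 3, mul_one, mul_one, e1, e0] at h1
      -- `h1 : M (dl x) (b * (e 3 t A * o 3 _) * (a * o 3 p * dl m))`
      have h2 : M S (b * (S.e 3 t A * S.o 3 (t * σ 1)) * (a * S.o 3 p * dl (S.e 4 0 1) m))
          (S.e 3 t A * S.o 3 (t * σ 1) * S.o 3 p) := by
        have h3 : M S (a * S.o 3 p * dl (S.e 4 0 1) m) (S.o 3 p) := by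
          have h3 : M S (a * S.o 3 p * dl (S.e 4 0 1) m) (S.o 3 p * 1) :=
            M.mul (hQP (Q1_le_Q S (dl_Q1 S g01 hm))) (M_pre S ha (hQP (o3_Q S p))) (M_one S (dl_Q1 S g01 hm))
          rwa [mul_one] at h3
        refine M.mul ?_ (M_pre S hb (hQP (mul_mem (e3_Q S _ _) (o3_Q S _)))) h3
        exact hQP (mul_mem (mul_mem (Q1_le_Q S ha) (o3_Q S _)) (Q1_le_Q S (dl_Q1 S g01 hm)))
      have h4 := (h1.trans h2).mem hQ1 (hd hx)
      rw [mul_assoc, S.o_add] at h4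
      have h5 := hd (q := 1) (v := 0) h4
      have h6 := dl_M S g10 (e3_Q S t A) (o3_Q S (t * σ 1 + p))
      rw [dl_e3, dl_o3, mul_one, mul_one] at h6
      exact h6.mem hQ1 h5
  obtain ⟨s0, hs0, hsN⟩ := h7
  have hL : ∀ {g x : G}, g ∈ L4 S → x ∈ N → g * x * g⁻¹ ∈ N := fun hg hx => L4_conj S h0 h8 hg hx
  have k7 : ∀ s', S.o 3 s' ∈ N := by
    intro s'
    by_cases hs' : s' = 0
    · subst hs'; rw [S.o_zero]; exact one_mem _
    obtain ⟨χ, hχ⟩ := s1_surj S (Units.mk0 (s' * s0⁻¹) (mul_ne_zero hs' (inv_ne_zero hs0)))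
    have h1 := hL (h_mem_L4 S χ⁻¹) hsN
    rw [S.h_o] at h1
    have e3 : chO σ 3 (Units.map (σ : F →* F) χ⁻¹) χ⁻¹ = χ * Units.map (σ : F →* F) χ := by
      show chE σ 3 (Units.map (σ : F →* F) χ⁻¹) χ⁻¹ * chE σ 4 (Units.map (σ : F →* F) χ⁻¹) χ⁻¹ = _
      rw [chE_three, chE_four, map_map σ S.sq, pow_two, div_mul_cancel_left, inv_inv, map_inv, inv_inv]
    rw [e3, hχ, Units.val_mk0, mul_assoc, inv_mul_cancel₀ hs0, mul_one] at h1
    exact h1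
  have hn : ∀ {x : G}, x ∈ N → S.n2 * x * S.n2⁻¹ ∈ N := fun hx => hL (n2_mem_L4 S) hx
  have k1 : ∀ s', S.o 0 s' ∈ N := by
    intro s'
    have := hn (k7 s')
    rwa [S.n2_o] at this
  have k6 : ∀ t' w', S.e 3 t' w' ∈ N := by
    intro t' w'
    obtain ⟨b, hb, A, e0⟩ := dl_01_o0 S t'
    have h1 := hd (q := 0) (v := 1) (k1 t')
    rw [e0] at h1
    have h2 : S.e 3 t' A ∈ N := by
      have e : S.e 3 t' A = b⁻¹ * (b * (S.e 3 t' A * S.o 3 (t' * σ 1))) * (S.o 3 (t' * σ 1))⁻¹ := by group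
      rw [e]
      exact mul_mem (mul_mem (inv_mem (hQ1 hb)) h1) (inv_mem (k7 _))
    have e : S.e 3 t' w' = S.e 3 t' A * S.e 3 0 (w' - A) := by
      rw [S.e_mul]; congr 1 <;> simp
    rw [e]
    exact mul_mem h2 (hQ1 (Q2_le_Q1 S (S.q2_5 _)))
  have k2 : ∀ p' u', S.e 1 p' u' ∈ N := by
    intro p' u'
    have := hn (k6 p' u')
    rwa [S.n2_e] at this
  refine J_le fun k h1 h2 x hx => ?_
  have hk : k = 1 ∨ k = 2 ∨ k = 3 ∨ k = 4 ∨ k = 5 ∨ k = 6 ∨ k = 7 := by omega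
  rcases hk with rfl | rfl | rfl | rfl | rfl | rfl | rfl
  · obtain ⟨t, rfl⟩ := (mem_X1 S).1 hx; exact k1 t
  · obtain ⟨p, u, rfl⟩ := (mem_X2 S).1 hx; exact k2 p u
  · exact hQ1 (J35_le_Q1 S (mem_J hx (by norm_num) (by norm_num)))
  · exact hQ1 (J35_le_Q1 S (mem_J hx (by norm_num) (by norm_num)))
  · exact hQ1 (J35_le_Q1 S (mem_J hx (by norm_num) (by norm_num)))
  · obtain ⟨p, u, rfl⟩ := (mem_X6 S).1 hx; exact k6 p u
  · obtain ⟨t, rfl⟩ := (mem_X7 S).1 hx; exact k7 t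

/-! ### transport and the argument of Schur -/

omit S in
/-- irreducibility is transported by an injective homomorphism -/
theorem irr_map {Y : Type*} [Group Y] (i : Y →* G) (hi : Function.Injective i) {A B : Subgroup Y} {L : Set Y}
    (h : ∀ N : Subgroup Y, B ≤ N → N ≤ A → (∀ g ∈ L, ∀ x ∈ N, g * x * g⁻¹ ∈ N) → ¬ N ≤ B → N = A)
    {N : Subgroup G} (hB : B.map i ≤ N) (hA : N ≤ A.map i) (hL : ∀ g ∈ L, ∀ x ∈ N, i g * x * (i g)⁻¹ ∈ N)
    (hne : ¬ N ≤ B.map i) : N = A.map i := by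
  have hNr : N ≤ i.range := hA.trans (by rintro _ ⟨x, -, rfl⟩; exact ⟨x, rfl⟩)
  have e : (N.comap i).map i = N := Subgroup.map_comap_eq_self hNr
  have h1 := h (N.comap i) (Subgroup.map_le_iff_le_comap.1 hB) (fun x hx => by
      obtain ⟨y, hy, hxy⟩ := hA hx
      rwa [← hi hxy]) (fun g hg x hx => by
      show i (g * x * g⁻¹) ∈ N
      rw [map_mul, map_mul, map_inv]; exact hL g hg _ hx) (fun h2 => hne (by
      rw [← e]; exact Subgroup.map_mono h2))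
  rw [← e, h1]

omit S in
/-- **Schur**: a 2-element which commutes with `L` on the irreducible 2-group `A / B` centralises it -/
theorem schur {A B : Subgroup G} [Finite A] (hBA : B ≤ A) (hA2 : IsPGroup 2 A) (hBn : ∀ a ∈ A, ∀ b ∈ B, a * b * a⁻¹ ∈ B)
    {L : Set G} (hLA : ∀ l ∈ L, ∀ x ∈ A, l * x * l⁻¹ ∈ A) (hLB : ∀ l ∈ L, ∀ x ∈ B, l * x * l⁻¹ ∈ B)
    {n : G} (hn2 : ∃ k : ℕ, n ^ (2 ^ k) = 1) (hnA : ∀ x ∈ A, n * x * n⁻¹ ∈ A) (hnB : ∀ x ∈ B, n * x * n⁻¹ ∈ B)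
    (hirr : ∀ N : Subgroup G, B ≤ N → N ≤ A → (∀ l ∈ L, ∀ x ∈ N, l * x * l⁻¹ ∈ N) → ¬ N ≤ B → N = A)
    (hAB : ¬ A ≤ B)
    (hc : ∀ l ∈ L, ∀ x ∈ A, (n * (l * x * l⁻¹) * n⁻¹)⁻¹ * (l * (n * x * n⁻¹) * l⁻¹) ∈ B) :
    ∀ x ∈ A, x⁻¹ * (n * x * n⁻¹) ∈ B := by
  classical
  have hfact : Fact (Nat.Prime 2) := ⟨Nat.prime_two⟩
  -- the fixed points modulo `B`
  let N : Subgroup G :=
    { carrier := {x | x ∈ A ∧ x⁻¹ * (n * x * n⁻¹) ∈ B}
      one_mem' := ⟨one_mem _, by simp⟩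
      mul_mem' := by
        rintro x y ⟨hx, hx'⟩ ⟨hy, hy'⟩
        refine ⟨mul_mem hx hy, ?_⟩
        have e : (x * y)⁻¹ * (n * (x * y) * n⁻¹) = (y⁻¹ * (x⁻¹ * (n * x * n⁻¹)) * y⁻¹⁻¹) * (y⁻¹ * (n * y * n⁻¹)) := by group
        rw [e]
        exact mul_mem (hBn _ (inv_mem hy) _ hx') hy'
      inv_mem' := by
        rintro x ⟨hx, hx'⟩
        refine ⟨inv_mem hx, ?_⟩
        have e : x⁻¹⁻¹ * (n * x⁻¹ * n⁻¹) = x * (x⁻¹ * (n * x * n⁻¹))⁻¹ * x⁻¹ := by group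
        rw [e]
        exact hBn _ hx _ (inv_mem hx') }
  have hBN : B ≤ N := by
    intro x hx
    exact ⟨hBA hx, mul_mem (inv_mem hx) (hnB x hx)⟩
  have hNA : N ≤ A := fun x hx => hx.1
  have hNL : ∀ l ∈ L, ∀ x ∈ N, l * x * l⁻¹ ∈ N := by
    intro l hl x hx
    refine ⟨hLA l hl x hx.1, ?_⟩
    have h1 := hc l hl x hx.1
    have h2 := hLB l hl _ hx.2
    have e : (l * x * l⁻¹)⁻¹ * (n * (l * x * l⁻¹) * n⁻¹) =
        (l * (x⁻¹ * (n * x * n⁻¹)) * l⁻¹) * ((n * (l * x * l⁻¹) * n⁻¹)⁻¹ * (l * (n * x * n⁻¹) * l⁻¹))⁻¹ := by group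
    rw [e]
    exact mul_mem h2 (inv_mem h1)
  -- `N ≠ B`: the action of `⟨n⟩` on the cosets of `B` in `A`
  have hne : ¬ N ≤ B := by
    intro hNB
    let B' : Subgroup A := B.subgroupOf A
    have hB'n : B'.Normal := ⟨fun b hb a => hBn a a.2 b hb⟩
    obtain ⟨k, hk⟩ := hn2
    -- conjugation by `n` as a permutation of `A ⧸ B'`
    have hnAi : ∀ x ∈ A, n⁻¹ * x * n ∈ A := by
      intro x hx
      have key : ∀ j : ℕ, n ^ j * x * (n ^ j)⁻¹ ∈ A := by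
        intro j
        induction j with
        | zero => simpa using hx
        | succ j ih =>
          have := hnA _ ih
          have e : n * (n ^ j * x * (n ^ j)⁻¹) * n⁻¹ = n ^ (j + 1) * x * (n ^ (j + 1))⁻¹ := by
            rw [pow_succ']; group
          rwa [e] at this
      have h1 := key (2 ^ k - 1)
      have e1 : n ^ (2 ^ k - 1) = n⁻¹ := by
        rw [eq_inv_iff_mul_eq_one, ← pow_succ, Nat.sub_add_cancel (Nat.one_le_two_pow), hk]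
      rw [e1, inv_inv] at h1
      exact h1
    let f : A →* A :=
      { toFun := fun x => ⟨n * x * n⁻¹, hnA x x.2⟩
        map_one' := Subtype.ext (by simp)
        map_mul' := fun x y => Subtype.ext (by
          show n * (x * y : G) * n⁻¹ = (n * x * n⁻¹) * (n * y * n⁻¹)
          group) }
    have hfB : B' ≤ B'.comap f := fun x hx => hnB x hx
    let fq : A ⧸ B' →* A ⧸ B' := QuotientGroup.map B' B' f hfB
    have hfq : ∀ x : A, fq (QuotientGroup.mk x) = QuotientGroup.mk (f x) := fun x => rfl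
    have hfp : ∀ (j : ℕ) (x : A), (fq^[j]) (QuotientGroup.mk x) = QuotientGroup.mk ((f^[j]) x) := by
      intro j
      induction j with
      | zero => intro x; rfl
      | succ j ih => intro x; rw [Function.iterate_succ_apply, hfq, ih, Function.iterate_succ_apply]
    have hfj : ∀ (j : ℕ) (x : A), (((f^[j]) x : A) : G) = n ^ j * x * (n ^ j)⁻¹ := by
      intro j
      induction j with
      | zero => intro x; simp
      | succ j ih =>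
        intro x
        rw [Function.iterate_succ_apply, ih]
        show n ^ j * (n * x * n⁻¹) * (n ^ j)⁻¹ = _
        rw [pow_succ]; group
    have hper : ∀ q : A ⧸ B', (fq^[2 ^ k]) q = q := by
      intro q
      obtain ⟨x, rfl⟩ := QuotientGroup.mk_surjective q
      rw [hfp]
      congr 1
      apply Subtype.ext
      rw [hfj, hk]; simp
    -- the permutation
    let π : Equiv.Perm (A ⧸ B') :=
      { toFun := fq
        invFun := fq^[2 ^ k - 1]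
        left_inv := fun q => by
          rw [← Function.iterate_succ_apply, Nat.succ_eq_add_one, Nat.sub_add_cancel (Nat.one_le_two_pow)]
          exact hper q
        right_inv := fun q => by
          show fq ((fq^[2 ^ k - 1]) q) = q
          rw [← Function.iterate_succ_apply' fq, Nat.succ_eq_add_one, Nat.sub_add_cancel (Nat.one_le_two_pow)]
          exact hper q }
    have hπ : π ^ (2 ^ k) = 1 := by
      ext q
      rw [Equiv.Perm.coe_one, id, Equiv.Perm.coe_pow]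
      exact hper q
    have hP : IsPGroup 2 (Subgroup.zpowers π) := by
      rintro ⟨x, hx⟩
      obtain ⟨j, rfl⟩ := Subgroup.mem_zpowers_iff.1 hx
      refine ⟨k, Subtype.ext ?_⟩
      show (π ^ j) ^ (2 ^ k) = 1
      rw [← zpow_natCast, ← zpow_mul, mul_comm, zpow_mul, zpow_natCast, hπ, one_zpow]
    have hAB' : B' ≠ ⊤ := by
      intro h
      rw [Subgroup.subgroupOf_eq_top] at h
      exact hAB h
    have hcard : 2 ∣ Nat.card (A ⧸ B') := by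
      obtain ⟨m, hm⟩ := (IsPGroup.iff_card (p := 2)).1 (hA2.to_quotient B')
      rw [hm]
      refine dvd_pow_self 2 ?_
      rintro rfl
      rw [pow_zero] at hm
      have : B'.index = 1 := hm
      rw [Subgroup.index_eq_one] at this
      exact hAB' this
    have hfix : (1 : A ⧸ B') ∈ MulAction.fixedPoints (Subgroup.zpowers π) (A ⧸ B') := by
      rintro ⟨g, hg⟩
      obtain ⟨j, rfl⟩ := Subgroup.mem_zpowers_iff.1 hg
      have h1 : π 1 = 1 := map_one fq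
      show (π ^ j) 1 = 1
      exact Equiv.Perm.zpow_apply_eq_self_of_apply_eq_self h1 j
    obtain ⟨q, hq, hq1⟩ := hP.exists_fixed_point_of_prime_dvd_card_of_fixed_point (A ⧸ B') hcard hfix
    have h2 : fq q = q := by
      have := hq ⟨π, Subgroup.mem_zpowers π⟩
      exact this
    obtain ⟨x, rfl⟩ := QuotientGroup.mk_surjective q
    rw [hfq] at h2
    have h3 : x⁻¹ * f x ∈ B' := QuotientGroup.eq.1 h2.symm
    have h4 : (x : G) ∈ N := ⟨x.2, h3⟩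
    apply hq1
    symm
    rw [QuotientGroup.eq_one_iff]
    exact hNB h4
  have h := hirr N hBN hNA hNL hne
  intro x hx
  rw [← h] at hx
  exact hx.2

end Cfsg.Agent.KFacts.TwF4.Irr
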