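import Cfsg.Agent.KFacts.TwF4.Perf
import Cfsg.Agent.KFacts.TwF4.CentR

/-!
# Layers of the centralisers of involutions of `²F₄(q)`, `q ≥ 8`

* `comm_Q` : `[Q, Q] = Q2`; `comm_V5` : `[Z_4 X_5 Z_6, C(X_5)] = Z_4 Z_6`; `W46_conj_Z` : the elements of `Z_4 Z_6` are
  conjugate into `Z_4` in `C(X_5)`.
* the statements of `Perf.lean` in all rotations: `J_perfect`, `J_normal`, `J_O2`, `J_commQ` (centre `Z_{2a}`),
  `C_perfect`, `C_normal`, `C_O2`, `C_commV` (centre `X_{2c+1}`).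
-/

set_option autoImplicit false

namespace Cfsg.Agent.KFacts.TwF4.Layers

open Cfsg.Agent.SplitTwo Cfsg.Agent.SplitTwo.ZS Cfsg.Agent.TitsThree.RankTwoZ Cfsg.Agent.KFacts.TwF4.Arc
open Cfsg.Agent.KFacts.TwF4.Inv Cfsg.Agent.KFacts.TwF4.SylU Cfsg.Agent.KFacts.TwF4.Perf
open scoped Pointwise commutatorElement

universe u

/-! ### abstract -/

section abs

variable {G : Type u} [Group G]

/-- commutators of two arcs -/
theorem comm_J_le {X : ℤ → Subgroup G} {a b c d : ℤ} {K : Subgroup G}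
    (hA : ∀ k, a ≤ k → k ≤ b → ∀ x ∈ X k, ∀ y ∈ K, x * y * x⁻¹ ∈ K)
    (hB : ∀ k, c ≤ k → k ≤ d → ∀ x ∈ X k, ∀ y ∈ K, x * y * x⁻¹ ∈ K)
    (hc : ∀ k l, a ≤ k → k ≤ b → c ≤ l → l ≤ d → ∀ x ∈ X k, ∀ y ∈ X l, x * y * x⁻¹ * y⁻¹ ∈ K) :
    ⁅J X a b, J X c d⁆ ≤ K := by
  have e : ∀ a b : ℤ, J X a b = ⨆ k : Set.Icc a b, X k := fun a b => iSup_subtype'
  rw [e a b, e c d]
  exact comm_le_of_gen (fun i => hA i i.2.1 i.2.2) (fun i => hB i i.2.1 i.2.2)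
    (fun i j => hc i j i.2.1 i.2.2 j.2.1 j.2.2)

/-- commutators with an element without fixed points -/
theorem le_comm_of_fix' [Finite G] {H V X : Subgroup G} {h : G} (hh : h ∈ H) (hX : X ≤ V)
    (hn : ∀ x ∈ X, h * x * h⁻¹ ∈ X) (hf : ∀ x ∈ X, h * x * h⁻¹ = x → x = 1) : X ≤ ⁅V, H⁆ := by
  rw [Subgroup.commutator_comm]
  let f : X → X := fun y => ⟨h * y * h⁻¹ * (y : G)⁻¹, mul_mem (hn y y.2) (inv_mem y.2)⟩
  have hinj : Function.Injective f := by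
    intro y z hyz
    have h1 : h * y * h⁻¹ * (y : G)⁻¹ = h * z * h⁻¹ * (z : G)⁻¹ := congrArg Subtype.val hyz
    have h2 : h * ((z : G)⁻¹ * y) * h⁻¹ = (z : G)⁻¹ * y := by
      calc h * ((z : G)⁻¹ * y) * h⁻¹ = (h * z * h⁻¹)⁻¹ * (h * y * h⁻¹ * (y : G)⁻¹) * y := by group
        _ = _ := by rw [h1]; group
    have h3 := hf _ (mul_mem (inv_mem z.2) y.2) h2
    exact Subtype.ext (inv_mul_eq_one.1 h3).symm
  intro x hx
  obtain ⟨y, hy⟩ := Finite.surjective_of_injective hinj ⟨x, hx⟩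
  have h1 : h * y * h⁻¹ * (y : G)⁻¹ = x := congrArg Subtype.val hy
  rw [← h1]
  exact Subgroup.commutator_mem_commutator hh (hX y.2)

/-- transport of `perfect` -/
theorem map_perfect (e : G ≃* G) {H : Subgroup G} (h : ⁅H, H⁆ = H) :
    ⁅H.map e.toMonoidHom, H.map e.toMonoidHom⁆ = H.map e.toMonoidHom := by
  rw [← Subgroup.map_commutator, h]

theorem map_symm_map (e : G ≃* G) (E : Subgroup G) : (E.map e.symm.toMonoidHom).map e.toMonoidHom = E := by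
  rw [Subgroup.map_map]
  have : e.toMonoidHom.comp e.symm.toMonoidHom = MonoidHom.id G := by
    ext x; simp
  rw [this, Subgroup.map_id]

theorem map_symm_le (e : G ≃* G) {H E : Subgroup G} (hE : E ≤ H.map e.toMonoidHom) : E.map e.symm.toMonoidHom ≤ H := by
  rintro _ ⟨x, hx, rfl⟩
  obtain ⟨y, hy, rfl⟩ := hE hx
  have : e.symm.toMonoidHom (e.toMonoidHom y) = y := e.symm_apply_apply y
  rw [this]; exact hy

theorem map_symm_norm (e : G ≃* G) {H E : Subgroup G} (hn : ∀ g ∈ H.map e.toMonoidHom, ∀ x ∈ E, g * x * g⁻¹ ∈ E) :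
    ∀ g ∈ H, ∀ x ∈ E.map e.symm.toMonoidHom, g * x * g⁻¹ ∈ E.map e.symm.toMonoidHom := by
  rintro g hg _ ⟨x, hx, rfl⟩
  refine ⟨e g * x * (e g)⁻¹, hn (e g) ⟨g, hg, rfl⟩ x hx, ?_⟩
  show e.symm (e g * x * (e g)⁻¹) = g * e.symm x * g⁻¹
  rw [map_mul, map_mul, map_inv, e.symm_apply_apply]

/-- transport of the property of perfect normal subgroups -/
theorem map_normal (e : G ≃* G) {H : Subgroup G}
    (h : ∀ E ≤ H, (∀ g ∈ H, ∀ x ∈ E, g * x * g⁻¹ ∈ E) → ⁅E, E⁆ = E → E = ⊥ ∨ E = H) {E : Subgroup G}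
    (hE : E ≤ H.map e.toMonoidHom) (hn : ∀ g ∈ H.map e.toMonoidHom, ∀ x ∈ E, g * x * g⁻¹ ∈ E) (hp : ⁅E, E⁆ = E) :
    E = ⊥ ∨ E = H.map e.toMonoidHom := by
  rcases h _ (map_symm_le e hE) (map_symm_norm e hn) (map_perfect e.symm hp) with h1 | h1
  · left
    rw [← map_symm_map e E, h1, Subgroup.map_bot]
  · right
    rw [← h1, map_symm_map]

/-- transport of `O_2` -/
theorem map_O2 (e : G ≃* G) {H Q : Subgroup G}
    (h : ∀ N ≤ H, IsPGroup 2 N → (∀ g ∈ H, ∀ x ∈ N, g * x * g⁻¹ ∈ N) → N ≤ Q) {N : Subgroup G}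
    (hN : N ≤ H.map e.toMonoidHom) (h2 : IsPGroup 2 N) (hn : ∀ g ∈ H.map e.toMonoidHom, ∀ x ∈ N, g * x * g⁻¹ ∈ N) :
    N ≤ Q.map e.toMonoidHom := by
  have h1 := h _ (map_symm_le e hN) (h2.map _) (map_symm_norm e hn)
  rw [← map_symm_map e N]
  exact Subgroup.map_mono h1

end abs

section coord

variable {F : Type*} [Field F] {σ : F →+* F} {G : Type u} [Group G] (S : Full σ G)

/-! ### `[Q, Q] = Q2` -/

theorem Q2_norm' {g x : G} (hg : g ∈ S.PL) (hx : x ∈ S.Q2) : g * x * g⁻¹ ∈ S.Q2 :=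
  (Subgroup.mem_normalizer_iff.1 (S.Q2_norm hg) x).1 hx

theorem Q2_le_Q : S.Q2 ≤ S.Q := S.Q2_le_J.trans (J_mono (by norm_num) (by norm_num))

theorem of_rel {x y r : G} (h : x * y = y * x * r) (hx : x ∈ S.PL) (hy : y ∈ S.PL) (hr : r ∈ S.Q2) :
    x * y * x⁻¹ * y⁻¹ ∈ S.Q2 := by
  have e : x * y * x⁻¹ * y⁻¹ = (y * x) * r * (y * x)⁻¹ := by rw [h]; group
  rw [e]
  exact Q2_norm' S (mul_mem hy hx) hr

theorem of_rel_one {x y : G} (h : x * y = y * x) : x * y * x⁻¹ * y⁻¹ ∈ S.Q2 := by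
  rw [h]
  have e : y * x * x⁻¹ * y⁻¹ = 1 := by group
  rw [e]; exact one_mem _

/-- the commutators of the root groups of `Q`, `k < l` -/
theorem comm_lt {k l : ℤ} (h1 : 1 ≤ k) (hkl : k < l) (h2 : l ≤ 7) {x y : G} (hx : x ∈ S.XZ k) (hy : y ∈ S.XZ l) :
    x * y * x⁻¹ * y⁻¹ ∈ S.Q2 := by
  have Z8 := S.zsys8
  have hxP : x ∈ S.PL := mem_J hx (by omega) (by omega)
  have hyP : y ∈ S.PL := mem_J hy (by omega) (by omega)
  by_cases hd : l = k + 1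
  · subst hd
    exact of_rel_one S (Z8.commute_succ hx hy)
  have hcases : (k = 1 ∧ (l = 3 ∨ l = 4 ∨ l = 5 ∨ l = 6 ∨ l = 7)) ∨ (k = 2 ∧ (l = 4 ∨ l = 5 ∨ l = 6 ∨ l = 7)) ∨
      (k = 3 ∧ (l = 5 ∨ l = 6 ∨ l = 7)) ∨ (k = 4 ∧ (l = 6 ∨ l = 7)) ∨ (k = 5 ∧ l = 7) := by omega
  rcases hcases with ⟨rfl, h⟩ | ⟨rfl, h⟩ | ⟨rfl, h⟩ | ⟨rfl, h⟩ | ⟨rfl, h⟩
  · obtain ⟨t, rfl⟩ := (mem_X1 S).1 hx
    rcases h with rfl | rfl | rfl | rfl | rfl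
    · obtain ⟨s, rfl⟩ := (mem_X3 S).1 hy
      exact of_rel_one S (S.o_o1 0 t s)
    · obtain ⟨q, v, rfl⟩ := (mem_X4 S).1 hy
      exact of_rel S (S.o_e2 0 t q v) hxP hyP (S.q2_1 _)
    · obtain ⟨s, rfl⟩ := (mem_X5 S).1 hy
      exact of_rel_one S (S.o_o2 0 t s)
    · obtain ⟨q, v, rfl⟩ := (mem_X6 S).1 hy
      have h := S.o_e3 0 t q v
      rw [mul_assoc _ (S.e _ _ _) (S.o _ _), mul_assoc _ (S.e _ _ _ * S.o _ _) (S.e _ _ _)] at h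
      exact of_rel S h hxP hyP (mul_mem (mul_mem (S.q2_1 _) (S.q2_2 _)) (S.q2_3 _))
    · obtain ⟨s, rfl⟩ := (mem_X7 S).1 hy
      have h := S.o_o3 0 t s
      rw [mul_assoc _ (S.o _ _) (S.o _ _)] at h
      exact of_rel S h hxP hyP (mul_mem (S.q2_2 _) (S.q2_4 _))
  · obtain ⟨p, u, rfl⟩ := (mem_X2 S).1 hx
    rcases h with rfl | rfl | rfl | rfl
    · obtain ⟨q, v, rfl⟩ := (mem_X4 S).1 hy
      exact of_rel S (S.e_e1 1 p u q v) hxP hyP (S.q2_2 _)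
    · obtain ⟨s, rfl⟩ := (mem_X5 S).1 hy
      exact of_rel S (S.e_o1 1 p u s) hxP hyP (S.q2_3 _)
    · obtain ⟨q, v, rfl⟩ := (mem_X6 S).1 hy
      exact of_rel_one S (S.e_e2 1 p u q v)
    · obtain ⟨s, rfl⟩ := (mem_X7 S).1 hy
      have h := S.e_o2 1 p u s
      rw [mul_assoc _ (S.e _ _ _) (S.o _ _), mul_assoc _ (S.e _ _ _ * S.o _ _) (S.e _ _ _)] at h
      exact of_rel S h hxP hyP (mul_mem (mul_mem (S.q2_3 _) (S.q2_4 _)) (S.q2_5 _))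
  · obtain ⟨t, rfl⟩ := (mem_X3 S).1 hx
    rcases h with rfl | rfl | rfl
    · obtain ⟨s, rfl⟩ := (mem_X5 S).1 hy
      exact of_rel_one S (S.o_o1 1 t s)
    · obtain ⟨q, v, rfl⟩ := (mem_X6 S).1 hy
      exact of_rel S (S.o_e2 1 t q v) hxP hyP (S.q2_3 _)
    · obtain ⟨s, rfl⟩ := (mem_X7 S).1 hy
      exact of_rel_one S (S.o_o2 1 t s)
  · obtain ⟨p, u, rfl⟩ := (mem_X4 S).1 hx
    rcases h with rfl | rfl
    · obtain ⟨q, v, rfl⟩ := (mem_X6 S).1 hy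
      exact of_rel S (S.e_e1 2 p u q v) hxP hyP (S.q2_4 _)
    · obtain ⟨s, rfl⟩ := (mem_X7 S).1 hy
      exact of_rel S (S.e_o1 2 p u s) hxP hyP (S.q2_5 _)
  · obtain ⟨t, rfl⟩ := (mem_X5 S).1 hx
    subst h
    obtain ⟨s, rfl⟩ := (mem_X7 S).1 hy
    exact of_rel_one S (S.o_o1 2 t s)

/-- two elements of an even root group -/
theorem of_rel_even {a : ZMod 8} (hz : ∀ u, S.e a 0 u ∈ S.Q2) (p u q v : F) :
    S.e a p u * S.e a q v * (S.e a p u)⁻¹ * (S.e a q v)⁻¹ ∈ S.Q2 := by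
  rw [e_inv, e_inv, S.e_mul, S.e_mul, S.e_mul]
  have e : p + q + p + q = 0 := by
    have : p + q + p + q = (p + p) + (q + q) := by ring
    rw [this, char2 S, char2 S, add_zero]
  rw [e]
  exact hz _

/-- two elements of an odd root group -/
theorem of_rel_odd {a : ZMod 8} (t s : F) : S.o a t * S.o a s = S.o a s * S.o a t := by
  rw [S.o_add, S.o_add, add_comm]

theorem comm_same {k : ℤ} (h1 : 1 ≤ k) (h2 : k ≤ 7) {x y : G} (hx : x ∈ S.XZ k) (hy : y ∈ S.XZ k) :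
    x * y * x⁻¹ * y⁻¹ ∈ S.Q2 := by
  have hk : k = 1 ∨ k = 2 ∨ k = 3 ∨ k = 4 ∨ k = 5 ∨ k = 6 ∨ k = 7 := by omega
  rcases hk with rfl | rfl | rfl | rfl | rfl | rfl | rfl
  · obtain ⟨t, rfl⟩ := (mem_X1 S).1 hx
    obtain ⟨s, rfl⟩ := (mem_X1 S).1 hy
    exact of_rel_one S (of_rel_odd S t s)
  · obtain ⟨p, u, rfl⟩ := (mem_X2 S).1 hx
    obtain ⟨q, v, rfl⟩ := (mem_X2 S).1 hy
    exact of_rel_even S S.q2_1 p u q v
  · obtain ⟨t, rfl⟩ := (mem_X3 S).1 hx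
    obtain ⟨s, rfl⟩ := (mem_X3 S).1 hy
    exact of_rel_one S (of_rel_odd S t s)
  · obtain ⟨p, u, rfl⟩ := (mem_X4 S).1 hx
    obtain ⟨q, v, rfl⟩ := (mem_X4 S).1 hy
    exact of_rel_even S S.q2_3 p u q v
  · obtain ⟨t, rfl⟩ := (mem_X5 S).1 hx
    obtain ⟨s, rfl⟩ := (mem_X5 S).1 hy
    exact of_rel_one S (of_rel_odd S t s)
  · obtain ⟨p, u, rfl⟩ := (mem_X6 S).1 hx
    obtain ⟨q, v, rfl⟩ := (mem_X6 S).1 hy
    exact of_rel_even S S.q2_5 p u q v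
  · obtain ⟨t, rfl⟩ := (mem_X7 S).1 hx
    obtain ⟨s, rfl⟩ := (mem_X7 S).1 hy
    exact of_rel_one S (of_rel_odd S t s)

/-- the commutators of the root groups of `Q` -/
theorem comm_any {k l : ℤ} (h1 : 1 ≤ k) (h1' : k ≤ 7) (h2 : 1 ≤ l) (h2' : l ≤ 7) {x y : G} (hx : x ∈ S.XZ k)
    (hy : y ∈ S.XZ l) : x * y * x⁻¹ * y⁻¹ ∈ S.Q2 := by
  rcases lt_trichotomy k l with h | h | h
  · exact comm_lt S h1 h h2' hx hy
  · subst h; exact comm_same S h1 h1' hx hy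
  · have e : x * y * x⁻¹ * y⁻¹ = (y * x * y⁻¹ * x⁻¹)⁻¹ := by group
    rw [e]; exact inv_mem (comm_lt S h2 h h1' hy hx)

theorem mem_comm_of_rel {H : Subgroup G} {x y r : G} (h : x * y = y * x * r) (hx : x ∈ H) (hy : y ∈ H) : r ∈ ⁅H, H⁆ := by
  have e : r = ⁅x⁻¹, y⁻¹⁆ := by
    have : r = (y * x)⁻¹ * (x * y) := by rw [h]; group
    rw [this, commutatorElement_def]; group
  rw [e]
  exact Subgroup.commutator_mem_commutator (inv_mem hx) (inv_mem hy)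

/-- **`[Q, Q] = Q2`** -/
theorem comm_Q : ⁅S.Q, S.Q⁆ = S.Q2 := by
  apply le_antisymm
  · have hn : ∀ k : ℤ, 1 ≤ k → k ≤ 7 → ∀ x ∈ S.XZ k, ∀ y ∈ S.Q2, x * y * x⁻¹ ∈ S.Q2 :=
      fun k h1 h2 x hx y hy => Q2_norm' S (mem_J hx (by omega) (by omega)) hy
    exact comm_J_le hn hn fun k l h1 h2 h3 h4 x hx y hy => comm_any S h1 h2 h3 h4 hx hy
  · have q1 : ∀ t, S.o 0 t ∈ S.Q := fun t => mem_J (S.mX1 t) (by norm_num) (by norm_num)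
    have q2 : ∀ p u, S.e 1 p u ∈ S.Q := fun p u => mem_J (S.mX2 p u) (by norm_num) (by norm_num)
    have q3 : ∀ t, S.o 1 t ∈ S.Q := fun t => mem_J (S.mX3 t) (by norm_num) (by norm_num)
    have q4 : ∀ p u, S.e 2 p u ∈ S.Q := fun p u => mem_J (S.mX4 p u) (by norm_num) (by norm_num)
    have q6 : ∀ p u, S.e 3 p u ∈ S.Q := fun p u => mem_J (S.mX6 p u) (by norm_num) (by norm_num)
    have q7 : ∀ t, S.o 3 t ∈ S.Q := fun t => mem_J (S.mX7 t) (by norm_num) (by norm_num)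
    refine S.Q2_le (fun u => ?_) (fun t => ?_) (fun u => ?_) (fun t => ?_) (fun u => ?_)
    · have h := S.o_e2 0 u 1 0
      rw [mul_one] at h
      exact mem_comm_of_rel h (q1 u) (q4 1 0)
    · have h := S.e_e1 1 t 0 1 0
      rw [mul_one] at h
      exact mem_comm_of_rel h (q2 t 0) (q4 1 0)
    · have h := S.o_e2 1 u 1 0
      rw [mul_one] at h
      exact mem_comm_of_rel h (q3 u) (q6 1 0)
    · have h := S.e_e1 2 t 0 1 0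
      rw [mul_one] at h
      exact mem_comm_of_rel h (q4 t 0) (q6 1 0)
    · have h := S.e_o1 2 u 0 1
      rw [mul_one] at h
      exact mem_comm_of_rel h (q4 u 0) (q7 1)

/-! ### `[V5, C(o)] = W46` -/

theorem V5_form {x : G} (hx : x ∈ S.V5) : ∃ w ∈ S.W46, ∃ y ∈ S.XZ 5, x = w * y := by
  obtain ⟨u, s, v, rfl⟩ := S.mem_V5.1 hx
  refine ⟨S.e 2 0 u * S.e 3 0 v, ⟨u, v, rfl⟩, S.o 2 s, S.mX5 s, ?_⟩
  have h := S.comm_Z6 (k := 5) (by norm_num) (by norm_num) (S.mX5 s) v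
  rw [mul_assoc, h, mul_assoc]

theorem comm_V5 [Finite G] (hF : ∃ c : Fˣ, c ≠ 1) : ⁅S.V5, S.HO⁆ = S.W46 := by
  apply le_antisymm
  · rw [Subgroup.commutator_le]
    intro x hx g hg
    obtain ⟨w, hw, y, hy, rfl⟩ := V5_form S hx
    have h1 : g * y = y * g := by
      have := Subgroup.mem_centralizer_iff.1 (S.HO_le_cent hg) y hy
      exact this.symm
    have e : ⁅w * y, g⁆ = w * (g * w * g⁻¹)⁻¹ := by
      rw [commutatorElement_def]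
      calc w * y * g * (w * y)⁻¹ * g⁻¹ = w * (y * g) * y⁻¹ * w⁻¹ * g⁻¹ := by group
        _ = _ := by rw [← h1]; group
    rw [e]
    exact mul_mem hw (inv_mem (S.W46_conj (Perf.HO_le_J S hg) hw))
  · obtain ⟨c, hc⟩ := hF
    have hdiv : Units.map (σ : F →* F) c / c ≠ 1 := fun h => hc (s2 S (div_eq_one.1 h))
    have hdiv' : c / Units.map (σ : F →* F) c ≠ 1 := fun h => hc (s2 S (div_eq_one.1 h).symm)
    have hh : S.h c c ∈ S.HO := Perf.h_mem_HO S c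
    have z4 : S.Zc 2 ≤ ⁅S.V5, S.HO⁆ := by
      refine le_comm_of_fix' hh (fun x hx => ?_) (fun x hx => S.T_conj_Zc (S.mem_T.2 ⟨c, c, rfl⟩) hx)
        (fixe S (a := 2) (by rw [chE_two]; exact hdiv) fun x hx => ?_)
      · obtain ⟨u, rfl⟩ := S.mem_Zc.1 hx
        exact Subgroup.mem_sup_left (S.Z4_W46 u)
      · obtain ⟨u, rfl⟩ := S.mem_Zc.1 hx
        exact ⟨0, u, rfl⟩
    have z6 : S.Zc 3 ≤ ⁅S.V5, S.HO⁆ := by
      refine le_comm_of_fix' hh (fun x hx => ?_) (fun x hx => S.T_conj_Zc (S.mem_T.2 ⟨c, c, rfl⟩) hx)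
        (fixe S (a := 3) (by rw [chE_three]; exact hdiv') fun x hx => ?_)
      · obtain ⟨u, rfl⟩ := S.mem_Zc.1 hx
        exact Subgroup.mem_sup_left (S.Z6_W46 u)
      · obtain ⟨u, rfl⟩ := S.mem_Zc.1 hx
        exact ⟨0, u, rfl⟩
    rintro _ ⟨u, v, rfl⟩
    exact mul_mem (z4 ⟨u, rfl⟩) (z6 ⟨v, rfl⟩)

/-- the elements of `Z_4 Z_6` are conjugate in `C(o)` into `Z_4` -/
theorem W46_conj_Z {w : G} (hw : w ∈ S.W46) : ∃ g ∈ S.HO, g * w * g⁻¹ ∈ S.Zc 2 := by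
  obtain ⟨u, v, rfl⟩ := hw
  by_cases hv : v = 0
  · subst hv
    refine ⟨1, one_mem _, ?_⟩
    rw [S.e_zero, mul_one, one_mul, inv_one, mul_one]
    exact ⟨u, rfl⟩
  · -- `o_0(t) z_3(v) o_0(t)⁻¹ = z_3(v) z_2(t v)`
    have h := S.o_e3 0 (u / v) 0 v
    rw [map_zero, mul_zero, mul_zero, mul_zero, zero_add, div_mul_cancel₀ _ hv, S.o_zero, S.e_zero, mul_one,
      mul_one] at h
    have h' : S.o 0 (u / v) * S.e 3 0 v = S.e 3 0 v * S.o 0 (u / v) * S.e 2 0 u := by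
      rw [zero_add u] at h; exact h
    have c1 : S.o 0 (u / v) * S.e 2 0 u = S.e 2 0 u * S.o 0 (u / v) :=
      S.comm_Z4 (k := 1) (by norm_num) (by norm_num) (S.mX1 _) u
    have c2 : S.e 3 0 v * S.e 2 0 u = S.e 2 0 u * S.e 3 0 v :=
      S.comm_Z4 (k := 6) (by norm_num) (by norm_num) (S.mX6 0 v) u
    have h2 : S.e 2 0 u * S.e 3 0 v = S.o 0 (u / v) * S.e 3 0 v * (S.o 0 (u / v))⁻¹ := by
      rw [h', mul_assoc (S.e 3 0 v), c1, ← mul_assoc, c2]; group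
    refine ⟨S.n1 * (S.o 0 (u / v))⁻¹, mul_mem (Perf.n1_mem_HO S) (inv_mem (Perf.X1_HO S (S.mX1 _))), ?_⟩
    have e : S.n1 * (S.o 0 (u / v))⁻¹ * (S.e 2 0 u * S.e 3 0 v) * (S.n1 * (S.o 0 (u / v))⁻¹)⁻¹ =
        S.n1 * S.e 3 0 v * S.n1⁻¹ := by rw [h2]; group
    rw [e, S.n1_e]
    exact ⟨v, rfl⟩

/-! ### all rotations, centre `Z_{2a}` -/

/-- `Z_{2a-2} X_{2a-1} Z_{2a} X_{2a+1} Z_{2a+2}` -/
def Q2Z (a : ℤ) : Subgroup G :=
  S.Zc ((a - 1 : ℤ) : ZMod 8) ⊔ S.XZ (2 * a - 1) ⊔ S.Zc (a : ZMod 8) ⊔ S.XZ (2 * a + 1) ⊔ S.Zc ((a + 1 : ℤ) : ZMod 8)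

theorem map_PL (a : ℤ) : S.PL.map (S.ck (a - 2)).toMonoidHom = J S.XZ (2 * a - 4) (2 * a + 4) := by
  show (J S.XZ 0 8).map _ = _
  rw [S.map_J]
  congr 1 <;> ring

theorem map_Q (a : ℤ) : S.Q.map (S.ck (a - 2)).toMonoidHom = J S.XZ (2 * a - 3) (2 * a + 3) := by
  show (J S.XZ 1 7).map _ = _
  rw [S.map_J]
  congr 1 <;> ring

theorem map_Q2 (a : ℤ) : S.Q2.map (S.ck (a - 2)).toMonoidHom = Q2Z S a := by
  show (S.Zc 1 ⊔ S.XZ 3 ⊔ S.Zc 2 ⊔ S.XZ 5 ⊔ S.Zc 3).map _ = _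
  rw [Subgroup.map_sup, Subgroup.map_sup, Subgroup.map_sup, Subgroup.map_sup, S.map_Zc, S.map_Zc, S.map_Zc, S.map_X,
    S.map_X]
  have e1 : (1 : ZMod 8) + ((a - 2 : ℤ) : ZMod 8) = ((a - 1 : ℤ) : ZMod 8) := by push_cast; ring
  have e2 : (2 : ZMod 8) + ((a - 2 : ℤ) : ZMod 8) = (a : ZMod 8) := by push_cast; ring
  have e3 : (3 : ZMod 8) + ((a - 2 : ℤ) : ZMod 8) = ((a + 1 : ℤ) : ZMod 8) := by push_cast; ring
  rw [e1, e2, e3, show 3 + 2 * (a - 2) = 2 * a - 1 by ring, show 5 + 2 * (a - 2) = 2 * a + 1 by ring]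
  rfl

variable [Finite F] [Finite G]

/-- `C(Z_{2a})` is perfect -/
theorem J_perfect (hF : ∃ c : Fˣ, c ≠ 1) (a : ℤ) :
    ⁅J S.XZ (2 * a - 4) (2 * a + 4), J S.XZ (2 * a - 4) (2 * a + 4)⁆ = J S.XZ (2 * a - 4) (2 * a + 4) := by
  rw [← map_PL]
  exact map_perfect _ (PL_perfect S hF)

/-- perfect normal subgroups of `C(Z_{2a})` -/
theorem J_normal (hF : ∃ c : Fˣ, c ≠ 1) (hR : S.R.p = 2) (a : ℤ) {E : Subgroup G} (hE : E ≤ J S.XZ (2 * a - 4) (2 * a + 4))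
    (hn : ∀ g ∈ J S.XZ (2 * a - 4) (2 * a + 4), ∀ x ∈ E, g * x * g⁻¹ ∈ E) (hp : ⁅E, E⁆ = E) :
    E = ⊥ ∨ E = J S.XZ (2 * a - 4) (2 * a + 4) := by
  rw [← map_PL] at hE hn ⊢
  exact map_normal _ (fun E h1 h2 h3 => PL_normal S hF hR h1 h2 h3) hE hn hp

/-- `O_2(C(Z_{2a}))` -/
theorem J_O2 (hF : ∃ c : Fˣ, c ≠ 1) (hR : S.R.p = 2) (a : ℤ) {N : Subgroup G} (hN : N ≤ J S.XZ (2 * a - 4) (2 * a + 4))
    (h2 : IsPGroup 2 N) (hn : ∀ g ∈ J S.XZ (2 * a - 4) (2 * a + 4), ∀ x ∈ N, g * x * g⁻¹ ∈ N) :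
    N ≤ J S.XZ (2 * a - 3) (2 * a + 3) := by
  rw [← map_PL] at hN hn
  rw [← map_Q]
  exact map_O2 _ (fun N h1 h2 h3 => O2_PL S hF hR h1 h2 h3) hN h2 hn

omit [Finite F] [Finite G] in
/-- `O_2(C(Z_{2a}))` is normal -/
theorem J_norm (a : ℤ) {g x : G} (hg : g ∈ J S.XZ (2 * a - 4) (2 * a + 4)) (hx : x ∈ J S.XZ (2 * a - 3) (2 * a + 3)) :
    g * x * g⁻¹ ∈ J S.XZ (2 * a - 3) (2 * a + 3) :=
  S.zsys8.conj_J (by omega) (by omega) (by omega) hg hx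

omit [Finite F] [Finite G] in
/-- `[O_2, O_2]` -/
theorem J_commQ (a : ℤ) : ⁅J S.XZ (2 * a - 3) (2 * a + 3), J S.XZ (2 * a - 3) (2 * a + 3)⁆ = Q2Z S a := by
  rw [← map_Q, ← Subgroup.map_commutator, comm_Q, map_Q2]

/-! ### all rotations, centre `X_{2c+1}` -/

omit [Finite F] [Finite G] in
theorem W46_eq : S.W46 = S.Zc 2 ⊔ S.Zc 3 := by
  apply le_antisymm
  · rintro _ ⟨u, v, rfl⟩
    exact mul_mem (Subgroup.mem_sup_left ⟨u, rfl⟩) (Subgroup.mem_sup_right ⟨v, rfl⟩)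
  · refine sup_le ?_ ?_
    · rintro _ ⟨u, rfl⟩; exact S.Z4_W46 u
    · rintro _ ⟨u, rfl⟩; exact S.Z6_W46 u

/-- `Z_{2c} Z_{2c+2}` -/
def WZ (c : ℤ) : Subgroup G := S.Zc (c : ZMod 8) ⊔ S.Zc ((c + 1 : ℤ) : ZMod 8)

/-- `Z_{2c} X_{2c+1} Z_{2c+2}` -/
def VZ (c : ℤ) : Subgroup G := WZ S c ⊔ S.XZ (2 * c + 1)

/-- `C(X_{2c+1})` -/
def HZ (c : ℤ) : Subgroup G := Subgroup.centralizer (S.XZ (2 * c + 1) : Set G)

/-- `O_2(C(X_{2c+1}))` -/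
def NZ (c : ℤ) : Subgroup G := J S.XZ (2 * c - 2) (2 * c + 4) ⊓ HZ S c

omit [Finite F] [Finite G] in
theorem map_W46 (c : ℤ) : S.W46.map (S.ck (c - 2)).toMonoidHom = WZ S c := by
  rw [W46_eq, Subgroup.map_sup, S.map_Zc, S.map_Zc]
  have e2 : (2 : ZMod 8) + ((c - 2 : ℤ) : ZMod 8) = (c : ZMod 8) := by push_cast; ring
  have e3 : (3 : ZMod 8) + ((c - 2 : ℤ) : ZMod 8) = ((c + 1 : ℤ) : ZMod 8) := by push_cast; ring
  rw [e2, e3]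
  rfl

omit [Finite F] [Finite G] in
theorem map_V5 (c : ℤ) : S.V5.map (S.ck (c - 2)).toMonoidHom = VZ S c := by
  show (S.W46 ⊔ S.XZ 5).map _ = _
  rw [Subgroup.map_sup, map_W46, S.map_X, show 5 + 2 * (c - 2) = 2 * c + 1 by ring]
  rfl

omit [Finite F] [Finite G] in
theorem map_HO (c : ℤ) : S.HO.map (S.ck (c - 2)).toMonoidHom = HZ S c := by
  rw [← S.centralizer_X5, S.map_centralizer_sub, S.map_X, show 5 + 2 * (c - 2) = 2 * c + 1 by ring]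
  rfl

omit [Finite F] [Finite G] in
theorem map_NO (c : ℤ) : S.NO.map (S.ck (c - 2)).toMonoidHom = NZ S c := by
  show (J S.XZ 2 8 ⊓ Subgroup.centralizer (S.XZ 5 : Set G)).map _ = _
  rw [Subgroup.map_inf _ _ _ (S.ck (c - 2)).injective, S.map_J, S.map_centralizer_sub, S.map_X,
    show 5 + 2 * (c - 2) = 2 * c + 1 by ring, show 2 + 2 * (c - 2) = 2 * c - 2 by ring,
    show 8 + 2 * (c - 2) = 2 * c + 4 by ring]
  rfl

omit [Finite F] [Finite G] in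
/-- the centraliser of one element -/
theorem centralizer_o (c : ℤ) {s : F} (hs : s ≠ 0) : Subgroup.centralizer {S.o (c : ZMod 8) s} = HZ S c := by
  have h1 := S.centralizer_o hs
  have h2 := S.map_centralizer_singleton (c - 2) (S.o 2 s)
  have e2 : (2 : ZMod 8) + ((c - 2 : ℤ) : ZMod 8) = (c : ZMod 8) := by push_cast; ring
  rw [h1, S.ck_o, e2, map_HO] at h2
  exact h2.symm

/-- `C(X_{2c+1})` is perfect -/
theorem H_perfect (hF : ∃ c : Fˣ, c ≠ 1) (c : ℤ) : ⁅HZ S c, HZ S c⁆ = HZ S c := by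
  rw [← map_HO]
  exact map_perfect _ (HO_perfect S hF)

/-- perfect normal subgroups of `C(X_{2c+1})` -/
theorem H_normal (hF : ∃ c : Fˣ, c ≠ 1) (hR : S.R.p = 2) (c : ℤ) {E : Subgroup G} (hE : E ≤ HZ S c)
    (hn : ∀ g ∈ HZ S c, ∀ x ∈ E, g * x * g⁻¹ ∈ E) (hp : ⁅E, E⁆ = E) : E = ⊥ ∨ E = HZ S c := by
  rw [← map_HO] at hE hn ⊢
  exact map_normal _ (fun E h1 h2 h3 => HO_normal S hF hR h1 h2 h3) hE hn hp

/-- `O_2(C(X_{2c+1}))` -/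
theorem H_O2 (hF : ∃ c : Fˣ, c ≠ 1) (hR : S.R.p = 2) (c : ℤ) {N : Subgroup G} (hN : N ≤ HZ S c)
    (h2 : IsPGroup 2 N) (hn : ∀ g ∈ HZ S c, ∀ x ∈ N, g * x * g⁻¹ ∈ N) : N ≤ NZ S c := by
  rw [← map_HO] at hN hn
  rw [← map_NO]
  exact map_O2 _ (fun N h1 h2 h3 => O2_HO S hF hR h1 h2 h3) hN h2 hn

/-- `O_2(C(X_{2c+1}))` is a normal 2-subgroup -/
theorem N_two (hR : S.R.p = 2) (c : ℤ) : IsPGroup 2 (NZ S c) := by
  rw [← map_NO]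
  exact (two_NO S hR).map _

omit [Finite F] [Finite G] in
theorem N_norm (c : ℤ) {g x : G} (hg : g ∈ HZ S c) (hx : x ∈ NZ S c) : g * x * g⁻¹ ∈ NZ S c := by
  rw [← map_NO] at hx ⊢
  rw [← map_HO] at hg
  obtain ⟨g, hg, rfl⟩ := hg
  obtain ⟨x, hx, rfl⟩ := hx
  refine ⟨g * x * g⁻¹, NO_norm S hg hx, ?_⟩
  rw [map_mul, map_mul, map_inv]

omit [Finite F] [Finite G] in
/-- the centraliser of `O_2(C(X_{2c+1}))` -/
theorem centralizer_N (c : ℤ) : Subgroup.centralizer (NZ S c : Set G) = VZ S c := by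
  rw [← map_NO, ← S.map_centralizer_sub, S.centralizer_NO, map_V5]

/-- `[Z(O_2(C(X_{2c+1}))), C(X_{2c+1})]` -/
theorem H_commV (hF : ∃ c : Fˣ, c ≠ 1) (c : ℤ) : ⁅VZ S c, HZ S c⁆ = WZ S c := by
  rw [← map_V5, ← map_HO, ← Subgroup.map_commutator, comm_V5 S hF, map_W46]

omit [Finite F] [Finite G] in
/-- the elements of `Z_{2c} Z_{2c+2}` are conjugate in `C(X_{2c+1})` into `Z_{2c}` -/
theorem WZ_conj (c : ℤ) {w : G} (hw : w ∈ WZ S c) : ∃ g ∈ HZ S c, g * w * g⁻¹ ∈ S.Zc (c : ZMod 8) := by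
  rw [← map_W46] at hw
  obtain ⟨w, hw, rfl⟩ := hw
  obtain ⟨g, hg, h⟩ := W46_conj_Z S hw
  refine ⟨S.ck (c - 2) g, ?_, ?_⟩
  · rw [← map_HO]; exact ⟨g, hg, rfl⟩
  · have e2 : (2 : ZMod 8) + ((c - 2 : ℤ) : ZMod 8) = (c : ZMod 8) := by push_cast; ring
    rw [← e2, ← S.map_Zc]
    refine ⟨_, h, ?_⟩
    show S.ck (c - 2) (g * w * g⁻¹) = S.ck (c - 2) g * S.ck (c - 2) w * (S.ck (c - 2) g)⁻¹
    rw [map_mul, map_mul, map_inv]

end coord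

end Cfsg.Agent.KFacts.TwF4.Layers
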