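import Cfsg.Agent.Lib.FieldAutCard
import Mathlib

/-!
# Semilinear maps of 2-power order over a field with `2 ^ (odd)` elements are trivial (helper841)
-/

set_option autoImplicit false

namespace Cfsg.Agent.KFacts.TwF4.SemiTwo

variable {F A : Type*} [Field F]

theorem iterate_zero_of_add {f : F → F} (hadd : ∀ x y, f (x + y) = f x + f y) : f 0 = 0 := by
  have := hadd 0 0
  rw [add_zero] at this
  exact left_eq_add.1 this

theorem injective_of_iterate {α : Type*} {f : α → α} {n : ℕ} (hn : ∀ x, f^[2 ^ n] x = x) : Function.Injective f := by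
  intro x y h
  have e : ∀ z, f^[2 ^ n - 1] (f z) = z := by
    intro z
    rw [← Function.iterate_succ_apply, Nat.succ_eq_add_one, Nat.sub_add_cancel Nat.one_le_two_pow]
    exact hn z
  rw [← e x, ← e y, h]

/-- **semilinear maps of 2-power order** over `F`, `|F| = 2 ^ (2 m + 1)`, are trivial -/
theorem semi_two [Finite F] {m : ℕ} (hcard : Nat.card F = 2 ^ (2 * m + 1)) {χ χ' : A → F}
    (hχ : ∀ x : F, x ≠ 0 → ∃ a, χ a = x) {f : F → F} (hadd : ∀ x y, f (x + y) = f x + f y)
    (hf : ∀ a x, f (χ a * x) = χ' a * f x) {n : ℕ} (hn : ∀ x, f^[2 ^ n] x = x) (x : F) : f x = x := by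
  have hinj := injective_of_iterate hn
  have h0 := iterate_zero_of_add hadd
  have hc0 : f 1 ≠ 0 := fun h => one_ne_zero (hinj (h.trans h0.symm))
  have hmul : ∀ x y, f (x * y) = f x * (f 1)⁻¹ * f y := by
    intro x y
    by_cases hx : x = 0
    · rw [hx, zero_mul, h0, zero_mul, zero_mul]
    obtain ⟨a, rfl⟩ := hχ x hx
    have h1 := hf a 1
    rw [mul_one] at h1
    rw [hf, h1, mul_inv_cancel_right₀ hc0]
  let τ : F →+* F :=
    { toFun := fun x => f x * (f 1)⁻¹
      map_one' := mul_inv_cancel₀ hc0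
      map_mul' := fun x y => by
        show f (x * y) * (f 1)⁻¹ = f x * (f 1)⁻¹ * (f y * (f 1)⁻¹)
        rw [hmul, mul_assoc]
      map_zero' := by
        show f 0 * (f 1)⁻¹ = 0
        rw [h0, zero_mul]
      map_add' := fun x y => by
        show f (x + y) * (f 1)⁻¹ = f x * (f 1)⁻¹ + f y * (f 1)⁻¹
        rw [hadd, add_mul] }
  have hτ : ∀ x, f x = f 1 * τ x := fun x => by
    show f x = f 1 * (f x * (f 1)⁻¹)
    rw [mul_comm (f x), mul_inv_cancel_left₀ hc0]
  let e : F ≃+* F := RingEquiv.ofBijective τ (Finite.injective_iff_bijective.1 τ.injective)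
  have he : ∀ x, e x = τ x := fun x => rfl
  have hit : ∀ (j : ℕ) (x : F), f^[j] x = f^[j] 1 * (e ^ j) x := by
    intro j
    induction j with
    | zero => intro x; simp
    | succ j ih =>
      intro x
      rw [Function.iterate_succ_apply', Function.iterate_succ_apply', ih, hτ, map_mul, ← mul_assoc, ← hτ, pow_succ',
        RingAut.mul_apply, he]
  have hpow : e ^ (2 ^ n) = 1 := by
    apply RingEquiv.ext
    intro x
    have h1 := hit (2 ^ n) x
    rw [hn, hn, one_mul] at h1
    rw [← h1]; rfl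
  have he1 : e = 1 := by
    have h1 := orderOf_dvd_of_pow_eq_one hpow
    let _ := Fintype.ofFinite F
    have hc : Nat.card (F ≃+* F) = 2 * m + 1 :=
      Lib.FieldAutCard.card_ringAut (p := 2) (by omega) (by rw [← Nat.card_eq_fintype_card]; exact hcard)
    have h2 : orderOf e ∣ 2 * m + 1 := by rw [← hc]; exact orderOf_dvd_natCard e
    have h3 : Nat.Coprime (2 ^ n) (2 * m + 1) := Nat.Coprime.pow_left _ (by
      rw [Nat.coprime_two_left, Nat.odd_iff]; omega)
    have h4 := Nat.eq_one_of_dvd_coprimes h3 h1 h2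
    exact orderOf_eq_one_iff.1 h4
  have hlin : ∀ x, f x = f 1 * x := by
    intro x
    rw [hτ x, ← he, he1]; rfl
  have hch : CharP F 2 := by
    let _ := Fintype.ofFinite F
    obtain ⟨p, hp⟩ := CharP.exists F
    obtain ⟨k, hpp, hk⟩ := FiniteField.card F p
    have h1 : p ∣ 2 ^ (2 * m + 1) := by
      rw [← hcard, Nat.card_eq_fintype_card, hk]
      exact dvd_pow_self p k.pos.ne'
    have h2 : p = 2 := (Nat.prime_dvd_prime_iff_eq hpp Nat.prime_two).1 (hpp.dvd_of_dvd_pow h1)
    rwa [← h2]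
  have hpow2 : ∀ j : ℕ, f^[j] 1 = f 1 ^ j := by
    intro j
    induction j with
    | zero => simp
    | succ j ih => rw [Function.iterate_succ_apply', hlin, ih, pow_succ']
  have h5 : f 1 ^ 2 ^ n = 1 := by rw [← hpow2]; exact hn 1
  have h6 : (f 1 - 1) ^ 2 ^ n = 0 := by
    rw [sub_pow_char_pow, h5, one_pow, sub_self]
  have h7 : f 1 = 1 := sub_eq_zero.1 (eq_zero_of_pow_eq_zero h6)
  rw [hlin, h7, one_mul]

end Cfsg.Agent.KFacts.TwF4.SemiTwo
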