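import Cfsg.Agent.KFacts.TwF4.TorEx
import Cfsg.Agent.KFacts.TwF4.SemiTwo
import Cfsg.Agent.KFacts.SylFix
import Cfsg.Agent.S0022

/-!
# The automorphisms of 2-power order of `²F₄(q)`, `q = 2 ^ (2 m + 1) ≥ 8`, are inner (helper841)

Over `S : Full σ G`:

* `torus_trivial` : an automorphism `β` of 2-power order that normalises `U` acts trivially on `N(U) / U`;
* `eq_one` : an automorphism of 2-power order that normalises `U` and centralises the torus is trivial;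
* `inner` : every automorphism of 2-power order is inner;
* `aut_Zc` : an automorphism of 2-power order that centralises `U` is conjugation by an element of `Z_4`.
-/

set_option autoImplicit false
set_option linter.unusedSectionVars false

namespace Cfsg.Agent.KFacts.TwF4.OutTwo

open Cfsg.Agent.SplitTwo Cfsg.Agent.SplitTwo.ZS Cfsg.Agent.TitsThree.RankTwoZ Cfsg.Agent.SplitTwo.RootSysZ
open Cfsg.Agent.KFacts.TwF4 Cfsg.Agent.KFacts.TwF4.Arc Cfsg.Agent.KFacts.TwF4.Inv Cfsg.Agent.KFacts.TwF4.SylU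
open Cfsg.Agent.KFacts.TwF4.TorEx Cfsg.Agent.KFacts.TwF4.SemiTwo Cfsg.Agent.KFacts.RgdAut
open scoped commutatorElement

universe u

variable {F : Type*} [Field F] {σ : F →+* F} {G : Type u} [Group G] (S : Full σ G)

theorem e4_mem_Q (u : F) : S.e 2 0 u ∈ J S.XZ 1 7 :=
  mem_J (k := 4) ((S.mem_XZ_even 2 _).2 ⟨0, u, rfl⟩) (by norm_num) (by norm_num)

theorem mem_Zc_iff {x : G} : x ∈ S.Zc 2 ↔ x ∈ J S.XZ 1 8 ∧ ∀ u ∈ J S.XZ 1 8, x * u = u * x := by
  constructor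
  · intro hx
    refine ⟨?_, fun u hu => (S.comm_PL (J_mono (by norm_num) le_rfl hu) hx).symm⟩
    obtain ⟨v, rfl⟩ := hx
    exact J_mono le_rfl (by norm_num) (e4_mem_Q S v)
  · rintro ⟨h1, h2⟩
    exact S.mem_Zc_of_comm h1 fun u hu => h2 u (J_mono le_rfl (by norm_num) hu)

theorem fix_center {β : MulAut G} {A : Subgroup G} (hA : Fix β A) {x : G} :
    (∀ u ∈ A, β x * u = u * β x) ↔ ∀ u ∈ A, x * u = u * x := by
  constructor
  · intro h u hu
    apply β.injective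
    rw [map_mul, map_mul]
    exact h _ ((hA u).2 hu)
  · intro h u hu
    have h1 := h (β⁻¹ u) ((hA.inv u).2 hu)
    have h2 := congrArg β h1
    rw [map_mul, map_mul, MulAut.apply_inv_self] at h2
    exact h2

theorem fix_Zc {β : MulAut G} (hU : Fix β (J S.XZ 1 8)) : Fix β (S.Zc 2) := by
  intro x
  rw [mem_Zc_iff, mem_Zc_iff, hU, fix_center hU]

theorem fix_pow {β : MulAut G} {A : Subgroup G} (hA : Fix β A) (n : ℕ) : Fix (β ^ n) A := by
  induction n with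
  | zero => intro x; rw [pow_zero]; rfl
  | succ n ih => rw [pow_succ]; exact ih.mul hA

section fin

variable [Finite F] [Finite G]

/-- the image of an element of the torus -/
theorem exists_torus (hF : ∃ c : Fˣ, c ≠ 1) (hR : S.R.p = 2) {β : MulAut G} (hU : Fix β (J S.XZ 1 8)) (c d : Fˣ) :
    ∃ c' d' : Fˣ, ∃ b ∈ J S.XZ 1 8, β (S.h c d) = b * S.h c' d' := by
  obtain ⟨b, hb, t, ht, e⟩ := norm_U S hF hR (g := β (S.h c d)) (by
    intro x
    have h1 : ∀ y, y ∈ J S.XZ 1 8 ↔ S.h c d * y * (S.h c d)⁻¹ ∈ J S.XZ 1 8 := by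
      intro y
      refine ⟨fun h => h_J S c d h, fun h => ?_⟩
      have := h_J_inv S c d h
      have e : (S.h c d)⁻¹ * (S.h c d * y * (S.h c d)⁻¹) * S.h c d = y := by group
      rwa [e] at this
    have h2 := h1 (β⁻¹ x)
    rw [hU.inv x] at h2
    rw [h2, ← hU, map_mul, map_mul, map_inv, MulAut.apply_inv_self])
  obtain ⟨c', d', rfl⟩ := S.mem_T.1 ht
  exact ⟨c', d', b, hb, e⟩

/-- the character on `Z_(2a)` -/
def kap (σ : F →+* F) (a : ZMod 8) (x : Fˣ × Fˣ) : Fˣ := chE σ a x.1 x.2 * Units.map (σ : F →* F) (chE σ a x.1 x.2)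

theorem h_kap (a : ZMod 8) (c d : Fˣ) (u : F) :
    S.h c d * S.e a 0 u * (S.h c d)⁻¹ = S.e a 0 ((kap σ a (c, d) : F) * u) := by
  rw [S.h_e, mul_zero]
  rfl

include S in
theorem kap_inj {a : ZMod 8} {x y : Fˣ × Fˣ} (h : kap σ a x = kap σ a y) : chE σ a x.1 x.2 = chE σ a y.1 y.2 := by
  have h1 : (chE σ a x.1 x.2 / chE σ a y.1 y.2) * Units.map (σ : F →* F) (chE σ a x.1 x.2 / chE σ a y.1 y.2) = 1 := by
    rw [map_div, div_mul_div_comm]
    unfold kap at h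
    rw [h, div_self']
  exact div_eq_one.1 (s1 S h1)

include S in
theorem kap_surj_two (x : F) (hx : x ≠ 0) : ∃ a : Fˣ × Fˣ, ((kap σ 2 a : Fˣ) : F) = x := by
  obtain ⟨χ, hχ⟩ := s1_surj S (Units.mk0 x hx)
  refine ⟨(χ⁻¹, 1), ?_⟩
  unfold kap
  rw [chE_two, map_one, one_div, inv_inv, hχ, Units.val_mk0]

include S in
theorem kap_surj_four (x : F) (hx : x ≠ 0) : ∃ a : Fˣ × Fˣ, ((kap σ 4 a : Fˣ) : F) = x := by
  obtain ⟨χ, hχ⟩ := s1_surj S (Units.mk0 x hx)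
  refine ⟨(χ⁻¹, 1), ?_⟩
  unfold kap
  rw [chE_four, inv_inv, hχ, Units.val_mk0]

/-- `β` centralises `Z_4` -/
theorem fix_four {m : ℕ} (hcard : Nat.card F = 2 ^ (2 * m + 1)) {β : MulAut G} (hU : Fix β (J S.XZ 1 8)) {n : ℕ}
    (hn : β ^ 2 ^ n = 1) {φ : Fˣ × Fˣ → Fˣ × Fˣ}
    (hφ : ∀ a, ∃ b ∈ J S.XZ 1 8, β (S.h a.1 a.2) = b * S.h (φ a).1 (φ a).2) :
    (∀ u, β (S.e 2 0 u) = S.e 2 0 u) ∧ ∀ a, chE σ 2 (φ a).1 (φ a).2 = chE σ 2 a.1 a.2 := by
  have h1 : ∀ u, ∃ v, β (S.e 2 0 u) = S.e 2 0 v := by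
    intro u
    have h2 := (fix_Zc S hU (S.e 2 0 u)).2 ⟨u, rfl⟩
    obtain ⟨v, hv⟩ := h2
    exact ⟨v, hv.symm⟩
  choose f hf using h1
  have zadd : ∀ u v, S.e 2 0 u * S.e 2 0 v = S.e 2 0 (u + v) := fun u v => by
    rw [S.e_mul, zero_mul, add_zero, add_zero]
  have hadd : ∀ x y, f (x + y) = f x + f y := by
    intro x y
    have h2 : S.e 2 0 (f (x + y)) = S.e 2 0 (f x + f y) := by
      rw [← hf, ← zadd, map_mul, hf, hf, zadd]
    exact (S.injE 2 _ _ _ _ h2).2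
  have hsem : ∀ a x, f ((kap σ 2 a : F) * x) = (kap σ 2 (φ a) : F) * f x := by
    rintro ⟨c, d⟩ x
    obtain ⟨b, hb, e⟩ := hφ (c, d)
    have h2 : S.e 2 0 (f ((kap σ 2 (c, d) : F) * x)) = S.e 2 0 ((kap σ 2 (φ (c, d)) : F) * f x) := by
      rw [← hf, ← h_kap, map_mul, map_mul, map_inv, e, hf]
      have h3 : b * S.h (φ (c, d)).1 (φ (c, d)).2 * S.e 2 0 (f x) * (b * S.h (φ (c, d)).1 (φ (c, d)).2)⁻¹ =
          b * (S.h (φ (c, d)).1 (φ (c, d)).2 * S.e 2 0 (f x) * (S.h (φ (c, d)).1 (φ (c, d)).2)⁻¹) * b⁻¹ := by group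
      rw [h3, h_kap, S.comm_PL (J_mono (by norm_num) le_rfl hb) ⟨_, rfl⟩, mul_inv_cancel_right]
    exact (S.injE 2 _ _ _ _ h2).2
  have hit : ∀ (j : ℕ) (x : F), (β ^ j) (S.e 2 0 x) = S.e 2 0 (f^[j] x) := by
    intro j
    induction j with
    | zero => intro x; rw [pow_zero]; rfl
    | succ j ih =>
      intro x
      rw [pow_succ, MulAut.mul_apply, hf, ih, Function.iterate_succ_apply]
  have hfn : ∀ x, f^[2 ^ n] x = x := by
    intro x
    have h2 := hit (2 ^ n) x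
    rw [hn] at h2
    exact ((S.injE 2 _ _ _ _ h2).2).symm
  have hid := semi_two hcard (kap_surj_two S) hadd hsem hfn
  refine ⟨fun u => by rw [hf, hid], fun a => kap_inj S ?_⟩
  have h2 := hsem a 1
  rw [hid, hid, mul_one, mul_one] at h2
  exact (Units.ext h2).symm

/-- `X_0 ∩ U = 1` -/
theorem X0_inf_U {x : G} (h0 : x ∈ S.XZ 0) (hU : x ∈ J S.XZ 1 8) : x = 1 := by
  have Z := S.zsys8
  by_contra hx1
  obtain ⟨v, hv, v', hv', hn⟩ := Z.mu 0 x h0 hx1
  have e8 : S.XZ (0 - 8) = S.XZ 8 := by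
    have := Z.per (0 - 8)
    rw [show (0 : ℤ) - 8 + 2 * 8 = 8 by norm_num] at this
    exact this.symm
  rw [e8] at hv hv'
  have hnU : v * x * v' ∈ J S.XZ 1 8 :=
    mul_mem (mul_mem (mem_J hv (by norm_num) le_rfl) hU) (mem_J hv' (by norm_num) le_rfl)
  have h1 : S.o 0 1 ∈ S.XZ 1 := (S.mem_XZ_odd 0 _).2 ⟨1, rfl⟩
  have h2 := S.comm_one hnU h1
  have h3 := hn.mem h1
  rw [show (2 : ℤ) * 0 - 8 - 1 = 7 - 2 * 8 by norm_num, Z.per'] at h3
  rw [commutatorElement_def] at h2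
  have h4 : S.o 0 1 ∈ J S.XZ 2 7 := by
    have e : S.o 0 1 = (v * x * v' * S.o 0 1 * (v * x * v')⁻¹ * (S.o 0 1)⁻¹)⁻¹ *
        (v * x * v' * S.o 0 1 * (v * x * v')⁻¹) := by group
    rw [e]
    exact mul_mem (inv_mem h2) (mem_J h3 (by norm_num) (by norm_num))
  exact one_ne_zero (S.o_eq_one (Z.inter 1 _ h1 (J_mono le_rfl (by norm_num) h4)))

/-- the radical `J 1 7` of the point parabolic -/
theorem mem_Q_iff {x : G} : x ∈ J S.XZ 1 7 ↔ x ∈ J S.XZ 1 8 ∧ ∀ g ∈ S.PL, g * x * g⁻¹ ∈ J S.XZ 1 8 := by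
  have Z := S.zsys8
  constructor
  · intro hx
    refine ⟨J_mono le_rfl (by norm_num) hx, fun g hg => J_mono (a := 1) (b := 7) le_rfl (by norm_num) ?_⟩
    exact Z.conj_J (a := 1) (b := 7) (c := 0) (d := 8) (by norm_num) (by norm_num) (by norm_num) hg hx
  · rintro ⟨h1, h2⟩
    obtain ⟨y, hy, x8, h8, rfl⟩ := Z.split_rr (a := 1) (b := 8) (by norm_num) (by norm_num) h1
    rw [show (8 : ℤ) - 1 = 7 by norm_num] at hy
    have h3 := h2 _ S.n2_mem
    have h4 : S.n2 * y * S.n2⁻¹ ∈ J S.XZ 1 8 := S.n2_refl.mem_J hy (by norm_num) (by norm_num)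
    have h5 : S.n2 * x8 * S.n2⁻¹ ∈ J S.XZ 1 8 := by
      have e : S.n2 * x8 * S.n2⁻¹ = (S.n2 * y * S.n2⁻¹)⁻¹ * (S.n2 * (y * x8) * S.n2⁻¹) := by group
      rw [e]
      exact mul_mem (inv_mem h4) h3
    have h6 : S.n2 * x8 * S.n2⁻¹ ∈ S.XZ 0 := S.n2_refl.mem' h8 (by norm_num)
    have h8' : x8 = 1 := by
      have e : x8 = S.n2⁻¹ * (S.n2 * x8 * S.n2⁻¹) * S.n2 := by group
      rw [e, X0_inf_U S h6 h5]; group
    rw [h8', mul_one]
    exact hy

theorem fix_centralizer {β : MulAut G} {z : G} (hz : β z = z) : Fix β (Subgroup.centralizer {z}) := by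
  intro x
  rw [Subgroup.mem_centralizer_singleton_iff, Subgroup.mem_centralizer_singleton_iff]
  constructor
  · intro h
    apply β.injective
    rw [map_mul, map_mul, hz]
    exact h
  · intro h
    have := congrArg β h
    rwa [map_mul, map_mul, hz] at this

theorem fix_Q {β : MulAut G} (hU : Fix β (J S.XZ 1 8)) (h4 : β (S.e 2 0 1) = S.e 2 0 1) : Fix β (J S.XZ 1 7) := by
  have hP : Fix β S.PL := by
    rw [← S.centralizer_z ⟨1, rfl⟩ (fun h => one_ne_zero (S.e_eq_one h).2)]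
    exact fix_centralizer h4
  intro x
  rw [mem_Q_iff, mem_Q_iff, hU]
  refine and_congr Iff.rfl ⟨fun h g hg => ?_, fun h g hg => ?_⟩
  · rw [← hU, map_mul, map_mul, map_inv]
    exact h _ ((hP g).2 hg)
  · have h1 := h _ ((hP.inv g).2 hg)
    rw [← hU, map_mul, map_mul, map_inv, MulAut.apply_inv_self] at h1
    exact h1

theorem conj_Q {u y : G} (hu : u ∈ J S.XZ 1 8) (hy : y ∈ J S.XZ 1 7) : u * y * u⁻¹ ∈ J S.XZ 1 7 :=
  S.zsys8.conj_J (a := 1) (b := 7) (c := 1) (d := 8) (by norm_num) (by norm_num) (by norm_num) hu hy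

theorem conj_Q' {u y : G} (hu : u ∈ J S.XZ 1 8) (hy : y ∈ J S.XZ 1 7) : u⁻¹ * y * u ∈ J S.XZ 1 7 := by
  have := conj_Q S (inv_mem hu) hy
  rwa [inv_inv] at this

theorem e8_mem_U (p u : F) : S.e 4 p u ∈ J S.XZ 1 8 :=
  mem_J (k := 8) ((S.mem_XZ_even 4 _).2 ⟨p, u, rfl⟩) (by norm_num) le_rfl

theorem U_split {x : G} (hx : x ∈ J S.XZ 1 8) : ∃ p u, ∃ y ∈ J S.XZ 1 7, x = S.e 4 p u * y := by
  obtain ⟨r, hr, y, hy, rfl⟩ := S.zsys8.split_rl (a := 1) (b := 8) (by norm_num) (by norm_num) hx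
  obtain ⟨p, u, rfl⟩ := (S.mem_XZ_even 4 r).1 hr
  rw [show (8 : ℤ) - 1 = 7 by norm_num] at hy
  exact ⟨p, u, y, hy, rfl⟩

theorem e8_Q {p u : F} (h : S.e 4 p u ∈ J S.XZ 1 7) : p = 0 ∧ u = 0 := by
  have h1 : S.e 4 p u = 1 := S.zsys8.inter' (k := 8) ((S.mem_XZ_even 4 _).2 ⟨p, u, rfl⟩)
    (J_mono (by norm_num) (by norm_num) h)
  exact S.e_eq_one h1

theorem e8_uniq {p u p' u' : F} {y y' : G} (hy : y ∈ J S.XZ 1 7) (hy' : y' ∈ J S.XZ 1 7)
    (h : S.e 4 p u * y = S.e 4 p' u' * y') : p = p' ∧ u = u' := by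
  have h1 : (S.e 4 p' u')⁻¹ * S.e 4 p u ∈ J S.XZ 1 7 := by
    have e : (S.e 4 p' u')⁻¹ * S.e 4 p u = y' * y⁻¹ := by
      rw [inv_mul_eq_iff_eq_mul, ← mul_assoc, ← h, mul_inv_cancel_right]
    rw [e]
    exact mul_mem hy' (inv_mem hy)
  have h2 : (S.e 4 p' u')⁻¹ * S.e 4 p u = 1 := by
    refine S.zsys8.inter' (k := 8) (mul_mem (inv_mem ((S.mem_XZ_even 4 _).2 ⟨p', u', rfl⟩))
      ((S.mem_XZ_even 4 _).2 ⟨p, u, rfl⟩)) (J_mono (by norm_num) (by norm_num) h1)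
  have h3 : S.e 4 p u = S.e 4 p' u' := (inv_mul_eq_one.1 h2).symm
  exact S.injE 4 _ _ _ _ h3

/-- `β` centralises `X_8'` modulo `J 1 7` -/
theorem fix_eight {m : ℕ} (hcard : Nat.card F = 2 ^ (2 * m + 1)) {β : MulAut G} (hU : Fix β (J S.XZ 1 8))
    (hQ : Fix β (J S.XZ 1 7)) {n : ℕ} (hn : β ^ 2 ^ n = 1) {φ : Fˣ × Fˣ → Fˣ × Fˣ}
    (hφ : ∀ a, ∃ b ∈ J S.XZ 1 8, β (S.h a.1 a.2) = b * S.h (φ a).1 (φ a).2) (a : Fˣ × Fˣ) :
    chE σ 4 (φ a).1 (φ a).2 = chE σ 4 a.1 a.2 := by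
  have h1 : ∀ u, ∃ v, ∃ y ∈ J S.XZ 1 7, β (S.e 4 0 u) = S.e 4 0 v * y := by
    intro u
    obtain ⟨p, w, y, hy, e⟩ := U_split S ((hU _).2 (e8_mem_U S 0 u))
    have h2 : β (S.e 4 0 u) * β (S.e 4 0 u) = 1 := by
      rw [← map_mul, z_sq, map_one]
    rw [e] at h2
    have h3 : S.e 4 p w * S.e 4 p w * ((S.e 4 p w)⁻¹ * y * S.e 4 p w * y) = S.e 4 0 0 * 1 := by
      rw [S.e_zero, mul_one, ← h2]; group
    rw [S.e_mul] at h3
    obtain ⟨-, h4⟩ := e8_uniq S (mul_mem (conj_Q' S (e8_mem_U S p w) hy) hy) (one_mem _) h3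
    rw [char2 S, zero_add] at h4
    have hp : p = 0 := by
      rcases mul_eq_zero.1 h4 with h5 | h5
      · exact h5
      · exact (map_eq_zero σ).1 h5
    exact ⟨w, y, hy, by rw [e, hp]⟩
  choose f y hy hf using h1
  have zadd : ∀ u v, S.e 4 0 u * S.e 4 0 v = S.e 4 0 (u + v) := fun u v => by
    rw [S.e_mul, zero_mul, add_zero, add_zero]
  have hadd : ∀ x y, f (x + y) = f x + f y := by
    intro u v
    have h2 : S.e 4 0 (f (u + v)) * y (u + v) = S.e 4 0 (f u + f v) * ((S.e 4 0 (f v))⁻¹ * y u * S.e 4 0 (f v) * y v) := by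
      rw [← hf, ← zadd, map_mul, hf, hf, ← zadd]; group
    exact (e8_uniq S (hy _) (mul_mem (conj_Q' S (e8_mem_U S _ _) (hy u)) (hy v)) h2).2
  have hsem : ∀ a x, f ((kap σ 4 a : F) * x) = (kap σ 4 (φ a) : F) * f x := by
    rintro ⟨c, d⟩ x
    obtain ⟨b, hb, e⟩ := hφ (c, d)
    set c' := (φ (c, d)).1
    set d' := (φ (c, d)).2
    obtain ⟨p, u, b', hb', rfl⟩ := U_split S hb
    -- `h' (e z) h'⁻¹`
    have h3 : S.e 4 0 (f ((kap σ 4 (c, d) : F) * x)) * y ((kap σ 4 (c, d) : F) * x) =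
        (S.e 4 p u * b') * (S.e 4 0 ((kap σ 4 (c', d') : F) * f x) * (S.h c' d' * y x * (S.h c' d')⁻¹)) *
          (S.e 4 p u * b')⁻¹ := by
      rw [← hf, ← h_kap, map_mul, map_mul, map_inv, e, hf, ← h_kap]; group
    set z := S.e 4 0 ((kap σ 4 (c', d') : F) * f x) with hz
    set r := S.e 4 p u with hr
    have hzr : r * z = z * r := by
      rw [hz, hr, S.e_mul, S.e_mul, map_zero, mul_zero, zero_mul, add_zero, add_zero, add_zero, zero_add, add_comm u]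
    have hzU : z ∈ J S.XZ 1 8 := e8_mem_U S _ _
    have hy1 : S.h c' d' * y x * (S.h c' d')⁻¹ ∈ J S.XZ 1 7 := h_J S c' d' (hy x)
    have h4 : (r * b') * (z * (S.h c' d' * y x * (S.h c' d')⁻¹)) * (r * b')⁻¹ =
        z * (r * ((z⁻¹ * b' * z) * (S.h c' d' * y x * (S.h c' d')⁻¹) * b'⁻¹) * r⁻¹) := by
      calc (r * b') * (z * (S.h c' d' * y x * (S.h c' d')⁻¹)) * (r * b')⁻¹ =
          (r * z) * ((z⁻¹ * b' * z) * (S.h c' d' * y x * (S.h c' d')⁻¹) * b'⁻¹) * r⁻¹ := by group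
        _ = _ := by rw [hzr]; group
    rw [h4] at h3
    have h5 := e8_uniq S (hy _) (conj_Q S (e8_mem_U S p u) (mul_mem (mul_mem (conj_Q' S hzU hb') hy1) (inv_mem hb'))) h3
    exact h5.2
  have hit : ∀ (j : ℕ) (x : F), ∃ y ∈ J S.XZ 1 7, (β ^ j) (S.e 4 0 x) = S.e 4 0 (f^[j] x) * y := by
    intro j
    induction j with
    | zero => intro x; exact ⟨1, one_mem _, by rw [pow_zero, mul_one]; rfl⟩
    | succ j ih =>
      intro x
      obtain ⟨w, hw, e⟩ := ih (f x)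
      refine ⟨w * (β ^ j) (y x), mul_mem hw ((fix_pow hQ j _).2 (hy x)), ?_⟩
      rw [pow_succ, MulAut.mul_apply, hf, map_mul, e, Function.iterate_succ_apply, mul_assoc]
  have hfn : ∀ x, f^[2 ^ n] x = x := by
    intro x
    obtain ⟨w, hw, e⟩ := hit (2 ^ n) x
    rw [hn] at e
    have e' : S.e 4 0 x * 1 = S.e 4 0 (f^[2 ^ n] x) * w := by rw [mul_one]; exact e
    exact ((e8_uniq S (one_mem _) hw e').2).symm
  have hid := semi_two hcard (kap_surj_four S) hadd hsem hfn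
  refine kap_inj S ?_
  have h2 := hsem a 1
  rw [hid, hid, mul_one, mul_one] at h2
  exact (Units.ext h2).symm

/-- **an automorphism of 2-power order that normalises `U` centralises `Z_4` and acts trivially on `N(U) / U`** -/
theorem torus_trivial {m : ℕ} (hcard : Nat.card F = 2 ^ (2 * m + 1)) (hF : ∃ c : Fˣ, c ≠ 1) (hR : S.R.p = 2)
    {β : MulAut G} (hU : Fix β (J S.XZ 1 8)) {n : ℕ} (hn : β ^ 2 ^ n = 1) {h : G} (hh : h ∈ S.T) :
    ∃ b ∈ J S.XZ 1 8, β h = b * h := by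
  have h0 : ∀ a : Fˣ × Fˣ, ∃ a' : Fˣ × Fˣ, ∃ b ∈ J S.XZ 1 8, β (S.h a.1 a.2) = b * S.h a'.1 a'.2 := by
    rintro ⟨c, d⟩
    obtain ⟨c', d', b, hb, e⟩ := exists_torus S hF hR hU c d
    exact ⟨(c', d'), b, hb, e⟩
  choose φ hφ using h0
  obtain ⟨h4, h4'⟩ := fix_four S hcard hU hn hφ
  have hQ := fix_Q S hU (h4 1)
  obtain ⟨c, d, rfl⟩ := S.mem_T.1 hh
  have h8 := fix_eight S hcard hU hQ hn hφ (c, d)
  have h4'' := h4' (c, d)
  rw [chE_four, chE_four, inv_inj] at h8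
  rw [chE_two, chE_two, h8] at h4''
  have h5 : Units.map (σ : F →* F) (φ (c, d)).2 = Units.map (σ : F →* F) d := div_left_injective h4''
  have h6 : (φ (c, d)).2 = d := by
    apply Units.ext
    apply σ.injective
    exact congrArg Units.val h5
  obtain ⟨b, hb, e⟩ := hφ (c, d)
  rw [h8, h6] at e
  exact ⟨b, hb, e⟩

/-! ### an automorphism centralising the torus -/

/-- an automorphism of 2-power order that centralises `T` and normalises `U` centralises `U` -/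
theorem fix_U {m : ℕ} (hcard : Nat.card F = 2 ^ (2 * m + 1)) (hF : ∃ c : Fˣ, c ≠ 1) {β : MulAut G}
    (hU : Fix β (J S.XZ 1 8)) {n : ℕ} (hn : β ^ 2 ^ n = 1) (hT : ∀ h ∈ S.T, β h = h) :
    ∀ u ∈ J S.XZ 1 8, β u = u := by
  obtain ⟨w, hw⟩ := hF
  -- `β` normalises `X_k`
  have hX : ∀ k : ℤ, 1 ≤ k → k ≤ 8 → ∀ x ∈ S.XZ k, β x ∈ S.XZ k := by
    intro k h1 h8 x hx
    obtain ⟨h, hh, hfix, hfree⟩ := exists_tt S hw k
    refine mem_X_of_tt S hh hfree h1 h8 (by norm_num) ((hU x).2 (mem_J hx h1 h8)) ?_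
    have h2 := congrArg β (hfix k ⟨0, by ring⟩ x hx)
    rwa [map_mul, map_mul, map_inv, hT h hh] at h2
  have hO : ∀ a : ℤ, 1 ≤ 2 * a + 1 → 2 * a + 1 ≤ 8 → ∀ t, β (S.o (a : ZMod 8) t) = S.o (a : ZMod 8) t := by
    intro a h1 h8
    have h2 : ∀ t, ∃ s, β (S.o (a : ZMod 8) t) = S.o (a : ZMod 8) s := by
      intro t
      obtain ⟨s, hs⟩ := (S.mem_XZ_odd a _).1 (hX _ h1 h8 _ (S.o_mem a t))
      exact ⟨s, hs.symm⟩
    choose f hf using h2
    have hadd : ∀ x y, f (x + y) = f x + f y := fun x y => by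
      apply S.injO (a : ZMod 8)
      rw [← hf, ← S.o_add, map_mul, hf, hf, S.o_add]
    have hsem : ∀ (x : Fˣ × Fˣ) y, f ((chO σ (a : ZMod 8) x.1 x.2 : F) * y) = (chO σ (a : ZMod 8) x.1 x.2 : F) * f y := by
      rintro ⟨c, d⟩ y
      apply S.injO (a : ZMod 8)
      rw [← hf, ← S.h_o, map_mul, map_mul, map_inv, hT _ (S.mem_T.2 ⟨c, d, rfl⟩), hf, S.h_o]
    have hit : ∀ (j : ℕ) (x : F), (β ^ j) (S.o (a : ZMod 8) x) = S.o (a : ZMod 8) (f^[j] x) := by
      intro j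
      induction j with
      | zero => intro x; rw [pow_zero]; rfl
      | succ j ih => intro x; rw [pow_succ, MulAut.mul_apply, hf, ih, Function.iterate_succ_apply]
    have hfn : ∀ x, f^[2 ^ n] x = x := fun x => by
      apply S.injO (a : ZMod 8)
      rw [← hit, hn]; rfl
    have hsurj : ∀ x : F, x ≠ 0 → ∃ y : Fˣ × Fˣ, ((chO σ (a : ZMod 8) y.1 y.2 : Fˣ) : F) = x := by
      intro x hx
      obtain ⟨w', hw'⟩ := exists_pw S (pE_EO 0 (a : ZMod 8)) (Units.mk0 x hx)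
      exact ⟨(pw σ w' (pE 0).1, pw σ w' (pE 0).2), by
        show ((chO σ (a : ZMod 8) (pw σ w' (pE 0).1) (pw σ w' (pE 0).2) : Fˣ) : F) = x
        rw [chO_pw S.sq, hw', Units.val_mk0]⟩
    have hid := semi_two hcard hsurj hadd hsem hfn
    intro t
    rw [hf, hid]
  have hE : ∀ a : ℤ, 1 ≤ 2 * a → 2 * a ≤ 8 → ∀ p u, β (S.e (a : ZMod 8) p u) = S.e (a : ZMod 8) p u := by
    intro a h1 h8
    have h2 : ∀ p u, ∃ q v, β (S.e (a : ZMod 8) p u) = S.e (a : ZMod 8) q v := by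
      intro p u
      obtain ⟨q, v, hs⟩ := (S.mem_XZ_even a _).1 (hX _ h1 h8 _ (S.e_mem a p u))
      exact ⟨q, v, hs.symm⟩
    have hsurj : ∀ x : F, x ≠ 0 → ∃ y : Fˣ × Fˣ, ((chE σ (a : ZMod 8) y.1 y.2 : Fˣ) : F) = x := by
      intro x hx
      obtain ⟨w', hw'⟩ := exists_pw S (pO_OE 0 (a : ZMod 8)) (Units.mk0 x hx)
      exact ⟨(pw σ w' (pO 0).1, pw σ w' (pO 0).2), by
        show ((chE σ (a : ZMod 8) (pw σ w' (pO 0).1) (pw σ w' (pO 0).2) : Fˣ) : F) = x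
        rw [chE_pw S.sq, hw', Units.val_mk0]⟩
    have hsurj' : ∀ x : F, x ≠ 0 → ∃ y : Fˣ × Fˣ, ((kap σ (a : ZMod 8) y : Fˣ) : F) = x := by
      intro x hx
      obtain ⟨χ, hχ⟩ := s1_surj S (Units.mk0 x hx)
      obtain ⟨y, hy⟩ := hsurj χ χ.ne_zero
      refine ⟨y, ?_⟩
      have : chE σ (a : ZMod 8) y.1 y.2 = χ := Units.ext hy
      unfold kap
      rw [this, hχ, Units.val_mk0]
    -- the centre
    have hz : ∀ u, ∃ v, β (S.e (a : ZMod 8) 0 u) = S.e (a : ZMod 8) 0 v := by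
      intro u
      obtain ⟨q, v, e⟩ := h2 0 u
      have h3 : β (S.e (a : ZMod 8) 0 u) * β (S.e (a : ZMod 8) 0 u) = 1 := by rw [← map_mul, z_sq, map_one]
      rw [e, e_sq] at h3
      have h4 := (S.e_eq_one h3).2
      have hq : q = 0 := by
        rcases mul_eq_zero.1 h4 with h5 | h5
        · exact h5
        · exact (map_eq_zero σ).1 h5
      exact ⟨v, by rw [e, hq]⟩
    have zadd : ∀ u v, S.e (a : ZMod 8) 0 u * S.e (a : ZMod 8) 0 v = S.e (a : ZMod 8) 0 (u + v) := fun u v => by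
      rw [S.e_mul, zero_mul, add_zero, add_zero]
    choose g hg using hz
    have hgid : ∀ u, g u = u := by
      have hadd : ∀ x y, g (x + y) = g x + g y := fun x y => by
        refine (S.injE (a : ZMod 8) 0 _ 0 _ ?_).2
        rw [← hg, ← zadd, map_mul, hg, hg, zadd]
      have hsem : ∀ (x : Fˣ × Fˣ) y, g ((kap σ (a : ZMod 8) x : F) * y) = (kap σ (a : ZMod 8) x : F) * g y := by
        rintro ⟨c, d⟩ y
        refine (S.injE (a : ZMod 8) 0 _ 0 _ ?_).2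
        rw [← hg, ← h_kap, map_mul, map_mul, map_inv, hT _ (S.mem_T.2 ⟨c, d, rfl⟩), hg, h_kap]
      have hit : ∀ (j : ℕ) (x : F), (β ^ j) (S.e (a : ZMod 8) 0 x) = S.e (a : ZMod 8) 0 (g^[j] x) := by
        intro j
        induction j with
        | zero => intro x; rw [pow_zero]; rfl
        | succ j ih => intro x; rw [pow_succ, MulAut.mul_apply, hg, ih, Function.iterate_succ_apply]
      have hfn : ∀ x, g^[2 ^ n] x = x := fun x => by
        refine (S.injE (a : ZMod 8) 0 _ 0 _ ?_).2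
        rw [← hit, hn]; rfl
      exact semi_two hcard hsurj' hadd hsem hfn
    choose f k hf using fun p => h2 p 0
    have hfk : ∀ p u, β (S.e (a : ZMod 8) p u) = S.e (a : ZMod 8) (f p) (k p + u) := by
      intro p u
      have e : S.e (a : ZMod 8) p u = S.e (a : ZMod 8) p 0 * S.e (a : ZMod 8) 0 u := by
        rw [S.e_mul, map_zero, mul_zero, add_zero, add_zero, zero_add]
      rw [e, map_mul, hf, hg, hgid, S.e_mul, map_zero, mul_zero, add_zero, add_zero]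
    have hfadd : ∀ x y, f (x + y) = f x + f y := by
      intro x y
      have h3 : S.e (a : ZMod 8) (f (x + y)) (k (x + y) + x * σ y) =
          S.e (a : ZMod 8) (f x + f y) (k x + k y + f x * σ (f y)) := by
        rw [← hfk, ← S.e_mul, ← hf, ← hf, ← map_mul, S.e_mul, add_zero, zero_add]
      exact (S.injE _ _ _ _ _ h3).1
    have hsem : ∀ (x : Fˣ × Fˣ) y, f ((chE σ (a : ZMod 8) x.1 x.2 : F) * y) = (chE σ (a : ZMod 8) x.1 x.2 : F) * f y ∧
        k ((chE σ (a : ZMod 8) x.1 x.2 : F) * y) = (chE σ (a : ZMod 8) x.1 x.2 : F) * σ (chE σ (a : ZMod 8) x.1 x.2 : F) * k y := by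
      rintro ⟨c, d⟩ y
      refine S.injE (a : ZMod 8) _ _ _ _ ?_
      have h3 := S.h_e c d (a : ZMod 8) y 0
      rw [mul_zero] at h3
      rw [← hf, ← h3, map_mul, map_mul, map_inv, hT _ (S.mem_T.2 ⟨c, d, rfl⟩), hf, S.h_e]
    have hit : ∀ (j : ℕ) (x : F), ∃ u, (β ^ j) (S.e (a : ZMod 8) x 0) = S.e (a : ZMod 8) (f^[j] x) u := by
      intro j
      induction j with
      | zero => intro x; exact ⟨0, by rw [pow_zero]; rfl⟩
      | succ j ih =>
        intro x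
        obtain ⟨u, hu⟩ := ih x
        refine ⟨k (f^[j] x) + u, ?_⟩
        rw [pow_succ', MulAut.mul_apply, hu, hfk, Function.iterate_succ_apply']
    have hfn : ∀ x, f^[2 ^ n] x = x := fun x => by
      obtain ⟨u, hu⟩ := hit (2 ^ n) x
      rw [hn] at hu
      exact ((S.injE (a : ZMod 8) _ _ _ _ hu).1).symm
    have hfid := semi_two hcard hsurj hfadd (fun x y => (hsem x y).1) hfn
    have hkadd : ∀ x y, k (x + y) = k x + k y := by
      intro x y
      have h3 : S.e (a : ZMod 8) (f (x + y)) (k (x + y) + x * σ y) =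
          S.e (a : ZMod 8) (f x + f y) (k x + k y + f x * σ (f y)) := by
        rw [← hfk, ← S.e_mul, ← hf, ← hf, ← map_mul, S.e_mul, add_zero, zero_add]
      have h4 := (S.injE _ _ _ _ _ h3).2
      rw [hfid, hfid] at h4
      exact add_right_cancel h4
    -- `k = 0`
    have hk1 : ∀ χ : F, χ ≠ 0 → k χ = χ * σ χ * k 1 := by
      intro χ hχ
      obtain ⟨y, hy⟩ := hsurj χ hχ
      have h3 := (hsem y 1).2
      rw [mul_one, hy] at h3
      exact h3
    have hk0 : k 1 = 0 := by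
      have hw0 : (w : F) ≠ 0 := w.ne_zero
      have hw1 : (1 : F) + w ≠ 0 := by
        intro h
        apply hw
        apply Units.ext
        rw [Units.val_one]
        have h4 : (1 : F) + w + 1 = 0 + 1 := by rw [h]
        rw [add_comm (1 : F) w, add_assoc, char2 S, add_zero, zero_add] at h4
        exact h4
      have h3 := hkadd 1 w
      rw [hk1 _ hw1, hk1 _ hw0, map_add, map_one] at h3
      have h4 : ((w : F) + σ w) * k 1 = 0 := by
        have h5 : (1 + (w : F)) * (1 + σ w) * k 1 = k 1 + w * σ w * k 1 + (w + σ w) * k 1 := by ring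
        rw [h5] at h3
        exact left_eq_add.1 h3.symm
      rcases mul_eq_zero.1 h4 with h5 | h5
      · exfalso
        apply hw
        apply s2 S
        apply Units.ext
        show σ (w : F) = w
        have h6 : (w : F) + σ w + w = w := by rw [h5, zero_add]
        have h7 : (w : F) + σ w + w = σ w := by
          rw [add_comm (w : F), add_assoc, char2 S, add_zero]
        rw [← h7, h6]
      · exact h5
    have hk : ∀ χ, k χ = 0 := by
      intro χ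
      by_cases hχ : χ = 0
      · have h3 := hkadd 0 0
        rw [add_zero] at h3
        rw [hχ]
        exact left_eq_add.1 h3
      · rw [hk1 χ hχ, hk0, mul_zero]
    intro p u
    rw [hfk, hfid, hk, zero_add]
  -- the fixed points contain all `X_k`
  let H : Subgroup G :=
    { carrier := {x | β x = x}
      one_mem' := map_one β
      mul_mem' := fun {x y} (hx : β x = x) (hy : β y = y) => by
        show β (x * y) = x * y
        rw [map_mul, hx, hy]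
      inv_mem' := fun {x} (hx : β x = x) => by
        show β x⁻¹ = x⁻¹
        rw [map_inv, hx] }
  have hle : J S.XZ 1 8 ≤ H := by
    refine J_le fun k h1 h8 x hx => ?_
    show β x = x
    obtain ⟨a, rfl | rfl⟩ := Int.even_or_odd' k
    · obtain ⟨p, u, rfl⟩ := (S.mem_XZ_even a x).1 hx
      exact hE a h1 h8 p u
    · obtain ⟨t, rfl⟩ := (S.mem_XZ_odd a x).1 hx
      exact hO a h1 h8 t
  exact fun u hu => hle hu

/-- the elements of `U` that commute with the torus -/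
theorem eq_one_of_comm {w : Fˣ} (hw : w ≠ 1) {b : G} (hb : b ∈ J S.XZ 1 8) (hc : ∀ h ∈ S.T, h * b * h⁻¹ = b) : b = 1 := by
  obtain ⟨h1, hh1, -, hf1⟩ := exists_tt S hw 1
  obtain ⟨h2, hh2, -, hf2⟩ := exists_tt S hw 2
  have e1 := mem_X_of_tt S hh1 hf1 (a := 1) (b := 8) (by norm_num) (by norm_num) (by norm_num) hb (hc _ hh1)
  have e2 := mem_X_of_tt S hh2 hf2 (a := 1) (b := 8) (by norm_num) (by norm_num) (by norm_num) hb (hc _ hh2)
  exact S.zsys8.inter 1 _ e1 (mem_J e2 (by norm_num) (by norm_num))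

/-- an element that centralises `J 2 8` and the torus is trivial -/
theorem eq_one_of_J28 {w : Fˣ} (hw : w ≠ 1) {g : G} (hg : ∀ x ∈ J S.XZ 2 8, g * x = x * g)
    (hc : ∀ h ∈ S.T, h * g = g * h) : g = 1 := by
  have Z := S.zsys8
  have m4 : S.e 2 0 1 ∈ J S.XZ 2 8 := mem_J (k := 4) ((S.mem_XZ_even 2 _).2 ⟨0, 1, rfl⟩) (by norm_num) (by norm_num)
  have hz1 : S.e 2 0 1 ≠ 1 := fun h => one_ne_zero (S.e_eq_one h).2
  have m8 : S.e 4 1 0 ∈ S.XZ 8 := (S.mem_XZ_even 4 _).2 ⟨1, 0, rfl⟩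
  have m2 : S.e 1 1 0 ∈ S.XZ 2 := (S.mem_XZ_even 1 _).2 ⟨1, 0, rfl⟩
  obtain ⟨b, hb, t, ht, rfl | ⟨b', hb', rfl⟩⟩ := S.form_of_conj (g := g) ⟨1, rfl⟩ hz1 (by
    rw [hg _ m4, mul_inv_cancel_right]; exact ⟨1, rfl⟩)
  · have hb1 : b = 1 := by
      refine eq_one_of_comm S hw hb fun h hh => ?_
      have h1 := hc h hh
      have h2 : h * t = t * h := by
        obtain ⟨c, d, rfl⟩ := S.mem_T.1 hh
        obtain ⟨c', d', rfl⟩ := S.mem_T.1 ht
        rw [S.h_mul, S.h_mul, mul_comm c, mul_comm d]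
      calc h * b * h⁻¹ = h * (b * t) * (h * t)⁻¹ := by group
        _ = (b * t) * h * (t * h)⁻¹ := by rw [h1, h2]
        _ = b := by group
    rw [hb1, one_mul] at hg ⊢
    obtain ⟨c, d, rfl⟩ := S.mem_T.1 ht
    have h2 := hg _ (mem_J m2 le_rfl (by norm_num))
    have h8 := hg _ (mem_J m8 (by norm_num) le_rfl)
    have h2' : S.h c d * S.e 1 1 0 * (S.h c d)⁻¹ = S.e 1 1 0 := by rw [h2, mul_inv_cancel_right]
    have h8' : S.h c d * S.e 4 1 0 * (S.h c d)⁻¹ = S.e 4 1 0 := by rw [h8, mul_inv_cancel_right]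
    have hd : d = 1 := by
      by_contra h
      exact one_ne_zero (fix_e S (a := 1) (by rwa [chE_one]) h2').1
    have hcc : c = 1 := by
      by_contra h
      exact one_ne_zero (fix_e S (a := 4) (by rw [chE_four]; exact fun h' => h (inv_eq_one.1 h')) h8').1
    rw [hd, hcc, S.h_one]
  · exfalso
    have h1 := hg _ (mem_J m8 (by norm_num) le_rfl)
    -- `b' x b'⁻¹ = r q`, `r ∈ X_8`, `q ∈ J 1 7`
    obtain ⟨p, u, y, hy, e⟩ := U_split S (x := b' * S.e 4 1 0 * b'⁻¹)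
      (mul_mem (mul_mem hb' (e8_mem_U S 1 0)) (inv_mem hb'))
    have h2 : S.e 4 p u ≠ 1 := by
      intro h
      rw [h, one_mul] at e
      have h3 : S.e 4 1 0 ∈ J S.XZ 1 7 := by
        have e' : S.e 4 1 0 = b'⁻¹ * y * b' := by rw [← e]; group
        rw [e']
        exact conj_Q' S hb' hy
      exact one_ne_zero (e8_Q S h3).1
    have h3 : t * (S.n2 * (S.e 4 p u * y) * S.n2⁻¹) * t⁻¹ = b⁻¹ * S.e 4 1 0 * b := by
      rw [← e]
      calc t * (S.n2 * (b' * S.e 4 1 0 * b'⁻¹) * S.n2⁻¹) * t⁻¹ =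
          b⁻¹ * ((b * (t * S.n2) * b') * S.e 4 1 0) * (b * (t * S.n2) * b')⁻¹ * b := by group
        _ = b⁻¹ * (S.e 4 1 0 * (b * (t * S.n2) * b')) * (b * (t * S.n2) * b')⁻¹ * b := by rw [h1]
        _ = _ := by group
    have h4 : t * (S.n2 * (S.e 4 p u * y) * S.n2⁻¹) * t⁻¹ ∈ J S.XZ 1 8 := by
      rw [h3]
      exact mul_mem (mul_mem (inv_mem hb) (e8_mem_U S 1 0)) hb
    have h5 : S.n2 * (S.e 4 p u * y) * S.n2⁻¹ ∈ J S.XZ 1 8 := by
      have h6 := S.T_conj_J (inv_mem ht) h4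
      have e6 : t⁻¹ * (t * (S.n2 * (S.e 4 p u * y) * S.n2⁻¹) * t⁻¹) * t⁻¹⁻¹ = S.n2 * (S.e 4 p u * y) * S.n2⁻¹ := by group
      rwa [e6] at h6
    have h6 : S.n2 * y * S.n2⁻¹ ∈ J S.XZ 1 8 := S.n2_refl.mem_J hy (by norm_num) (by norm_num)
    have h7 : S.n2 * S.e 4 p u * S.n2⁻¹ ∈ J S.XZ 1 8 := by
      have e7 : S.n2 * S.e 4 p u * S.n2⁻¹ = (S.n2 * (S.e 4 p u * y) * S.n2⁻¹) * (S.n2 * y * S.n2⁻¹)⁻¹ := by group
      rw [e7]
      exact mul_mem h5 (inv_mem h6)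
    have h8 : S.n2 * S.e 4 p u * S.n2⁻¹ = 1 :=
      X0_inf_U S (S.n2_refl.mem' (j := 8) (k := 0) ((S.mem_XZ_even 4 _).2 ⟨p, u, rfl⟩) (by norm_num)) h7
    apply h2
    have e8 : S.e 4 p u = S.n2⁻¹ * (S.n2 * S.e 4 p u * S.n2⁻¹) * S.n2 := by group
    rw [e8, h8]; group

/-- **an automorphism that centralises `U` and the torus is trivial** -/
theorem eq_one_of_fix (hF : ∃ c : Fˣ, c ≠ 1) {β : MulAut G} (hU : ∀ u ∈ J S.XZ 1 8, β u = u) (hT : ∀ h ∈ S.T, β h = h) :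
    β = 1 := by
  have Z := S.zsys8
  obtain ⟨w, hw⟩ := hF
  let H : Subgroup G :=
    { carrier := {x | β x = x}
      one_mem' := map_one β
      mul_mem' := fun {x y} (hx : β x = x) (hy : β y = y) => by
        show β (x * y) = x * y
        rw [map_mul, hx, hy]
      inv_mem' := fun {x} (hx : β x = x) => by
        show β x⁻¹ = x⁻¹
        rw [map_inv, hx] }
  have hn2 : β S.n2 = S.n2 := by
    have key : ∀ x, β x = x → β (S.n2 * x * S.n2⁻¹) = S.n2 * x * S.n2⁻¹ →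
        (S.n2⁻¹ * β S.n2) * x = x * (S.n2⁻¹ * β S.n2) := by
      intro x hx h
      rw [map_mul, map_mul, map_inv, hx] at h
      calc S.n2⁻¹ * β S.n2 * x = S.n2⁻¹ * (β S.n2 * x * (β S.n2)⁻¹) * β S.n2 := by group
        _ = S.n2⁻¹ * (S.n2 * x * S.n2⁻¹) * β S.n2 := by rw [h]
        _ = _ := by group
    have h1 : S.n2⁻¹ * β S.n2 ∈ S.Zc 2 := by
      rw [← S.centralizer_Q, Subgroup.mem_centralizer_iff]
      intro x hx
      have hx' : x ∈ J S.XZ 1 7 := hx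
      exact (key x (hU x (J_mono le_rfl (by norm_num) hx'))
        (hU _ (S.n2_refl.mem_J hx' (by norm_num) (by norm_num)))).symm
    have h2 : S.n2⁻¹ * β S.n2 = 1 := by
      refine eq_one_of_comm S hw (J_mono (a := 1) (b := 7) le_rfl (by norm_num) ?_) fun h hh => ?_
      · obtain ⟨v, hv⟩ := h1
        rw [← hv]
        exact e4_mem_Q S v
      · have h3 : S.n2 * h * S.n2⁻¹ ∈ S.T := by
          obtain ⟨c, d, rfl⟩ := S.mem_T.1 hh
          rw [S.n2_h]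
          exact S.mem_T.2 ⟨_, _, rfl⟩
        have h4 := key h (hT h hh) (hT _ h3)
        rw [← h4, mul_inv_cancel_right]
    have := congrArg (fun x => S.n2 * x) h2
    simpa using this
  have hn1 : β S.n1 = S.n1 := by
    have key : ∀ x, β x = x → β (S.n1 * x * S.n1⁻¹) = S.n1 * x * S.n1⁻¹ →
        (S.n1⁻¹ * β S.n1) * x = x * (S.n1⁻¹ * β S.n1) := by
      intro x hx h
      rw [map_mul, map_mul, map_inv, hx] at h
      calc S.n1⁻¹ * β S.n1 * x = S.n1⁻¹ * (β S.n1 * x * (β S.n1)⁻¹) * β S.n1 := by group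
        _ = S.n1⁻¹ * (S.n1 * x * S.n1⁻¹) * β S.n1 := by rw [h]
        _ = _ := by group
    have h2 : S.n1⁻¹ * β S.n1 = 1 := by
      refine eq_one_of_J28 S hw (fun x hx => ?_) fun h hh => ?_
      · exact key x (hU x (J_mono (by norm_num) le_rfl hx))
          (hU _ (J_mono (a := 2) (b := 8) (by norm_num) le_rfl (S.n1_refl.mem_J hx (by norm_num) (by norm_num))))
      · have h3 : S.n1 * h * S.n1⁻¹ ∈ S.T := by
          obtain ⟨c, d, rfl⟩ := S.mem_T.1 hh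
          rw [Arc.n1_h]
          exact S.mem_T.2 ⟨_, _, rfl⟩
        exact (key h (hT h hh) (hT _ h3)).symm
    have := congrArg (fun x => S.n1 * x) h2
    simpa using this
  have hH : H = ⊤ := by
    have h1 : S.XZ 1 ≤ H := fun x hx => hU x (mem_J hx le_rfl (by norm_num))
    have h8 : S.XZ 8 ≤ H := fun x hx => hU x (mem_J hx (by norm_num) le_rfl)
    refine eq_top_of S ?_ h1 h8 ?_
    · intro x hx
      have h2 := S.n2_refl.mem_inv (k := 8) hx (by norm_num)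
      show β x = x
      have e : x = S.n2 * (S.n2⁻¹ * x * S.n2) * S.n2⁻¹ := by group
      have e2 : β (S.n2⁻¹ * x * S.n2) = S.n2⁻¹ * x * S.n2 := h8 h2
      rw [e, map_mul, map_mul, map_inv, hn2, e2]
    · intro x hx
      have h2 := S.n1_refl.mem_inv (k := 1) hx (by norm_num)
      show β x = x
      have e : x = S.n1 * (S.n1⁻¹ * x * S.n1) * S.n1⁻¹ := by group
      have e2 : β (S.n1⁻¹ * x * S.n1) = S.n1⁻¹ * x * S.n1 := h1 h2
      rw [e, map_mul, map_mul, map_inv, hn1, e2]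
  apply MulEquiv.ext
  intro x
  have hx : x ∈ H := by rw [hH]; exact Subgroup.mem_top x
  exact hx

include S in
/-- the centre of `G` -/
theorem center_eq_bot (hF : ∃ c : Fˣ, c ≠ 1) {z : G} (hz : ∀ g, g * z = z * g) : z = 1 := by
  obtain ⟨w, hw⟩ := hF
  have h1 : z ∈ S.Zc 2 := by
    rw [← S.centralizer_Q, Subgroup.mem_centralizer_iff]
    exact fun x _ => hz x
  obtain ⟨v, rfl⟩ := h1
  refine eq_one_of_comm S hw (J_mono (a := 1) (b := 7) le_rfl (by norm_num) (e4_mem_Q S v)) fun h _ => ?_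
  rw [hz h, mul_inv_cancel_right]

/-! ### every automorphism of 2-power order is inner -/

/-- the torus has odd order -/
theorem odd_T {m : ℕ} (hcard : Nat.card F = 2 ^ (2 * m + 1)) : ¬ 2 ∣ Nat.card ↥(S.T) := by
  let f : Fˣ × Fˣ →* G :=
    { toFun := fun x => S.h x.1 x.2
      map_one' := S.h_one
      map_mul' := fun x y => (S.h_mul _ _ _ _).symm }
  have h1 : f.range = S.T := by
    ext g
    rw [MonoidHom.mem_range, S.mem_T]
    exact ⟨fun ⟨x, hx⟩ => ⟨x.1, x.2, hx⟩, fun ⟨c, d, hx⟩ => ⟨(c, d), hx⟩⟩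
  have h2 : Nat.card ↥(S.T) ∣ Nat.card (Fˣ × Fˣ) := by
    rw [← h1]
    exact Subgroup.card_range_dvd f
  intro h
  have h3 := h.trans h2
  rw [Nat.card_prod] at h3
  have h4 : 2 ∣ Nat.card Fˣ := by
    rcases (Nat.Prime.dvd_mul Nat.prime_two).1 h3 with h | h <;> exact h
  let _ := Fintype.ofFinite F
  rw [Nat.card_units, hcard] at h4
  have h5 : 2 ∣ 2 ^ (2 * m + 1) := dvd_pow_self 2 (by omega)
  have h6 : 0 < 2 ^ (2 * m + 1) := by positivity
  omega

theorem mem_map_conj {A : Subgroup G} {α : MulAut G} :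
    α ∈ A.map (MulAut.conj : G →* MulAut G) ↔ ∃ a ∈ A, MulAut.conj a = α := Iff.rfl

theorem conj_conj (β : MulAut G) (g : G) : β * MulAut.conj g * β⁻¹ = MulAut.conj (β g) := by
  apply MulEquiv.ext
  intro x
  simp [MulAut.mul_apply, MulAut.conj_apply]

/-- an automorphism of 2-power order that normalises `U` is inner -/
theorem inner_of_fix {m : ℕ} (hcard : Nat.card F = 2 ^ (2 * m + 1)) (hF : ∃ c : Fˣ, c ≠ 1) (hR : S.R.p = 2)
    {β : MulAut G} (hU : Fix β (J S.XZ 1 8)) {n : ℕ} (hn : β ^ 2 ^ n = 1) : ∃ x : G, β = MulAut.conj x := by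
  have hfact : Fact (Nat.Prime 2) := ⟨Nat.prime_two⟩
  have htt := fun h hh => torus_trivial S hcard hF hR hU hn (h := h) hh
  -- the same for `β⁻¹`
  have htt' : ∀ h ∈ S.T, ∃ b ∈ J S.XZ 1 8, β⁻¹ h = b * h := by
    intro h hh
    obtain ⟨b, hb, e⟩ := htt h hh
    refine ⟨β⁻¹ b⁻¹, (hU.inv _).2 (inv_mem hb), ?_⟩
    have h1 := congrArg (fun x => β⁻¹ x) e
    simp only [map_mul, MulAut.inv_apply_self] at h1
    rw [map_inv, eq_inv_mul_iff_mul_eq]
    exact h1.symm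
  have hU2 : IsPGroup 2 (J S.XZ 1 8) := isPGroup_J S.zsys8 (two_X S hR) 8 1 8 (by norm_num) (by norm_num)
  set N : Subgroup (MulAut G) := (J S.XZ 1 8).map (MulAut.conj : G →* MulAut G) with hN
  set A : Subgroup (MulAut G) := S.T.map (MulAut.conj : G →* MulAut G) with hA
  set K : Subgroup (MulAut G) := N ⊔ Subgroup.zpowers β with hK
  have hNZ : Subgroup.zpowers β ≤ Subgroup.normalizer (N : Set (MulAut G)) := by
    rw [Subgroup.zpowers_le, Subgroup.mem_normalizer_iff]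
    intro α
    constructor
    · rintro ⟨a, ha, rfl⟩
      exact ⟨β a, (hU a).2 ha, (conj_conj β a).symm⟩
    · rintro ⟨a, ha, e⟩
      refine ⟨β⁻¹ a, (hU.inv a).2 ha, ?_⟩
      show MulAut.conj (β⁻¹ a) = α
      rw [← conj_conj, inv_inv]
      have e' : (MulAut.conj : G →* MulAut G) a = β * α * β⁻¹ := e
      rw [e']; group
  have hN2 : IsPGroup 2 N := hU2.map _
  have hZ2 : IsPGroup 2 (Subgroup.zpowers β) := by
    rintro ⟨x, hx⟩
    obtain ⟨i, rfl⟩ := Subgroup.mem_zpowers_iff.1 hx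
    refine ⟨n, Subtype.ext ?_⟩
    show (β ^ i) ^ 2 ^ n = 1
    rw [← zpow_natCast, ← zpow_mul, mul_comm, zpow_mul, zpow_natCast, hn, one_zpow]
  have hK2 : IsPGroup 2 K := IsPGroup.to_sup_of_normal_left' hN2 hZ2 hNZ
  have hNK : N ≤ K := le_sup_left
  have hβK : β ∈ K := Subgroup.mem_sup_right (Subgroup.mem_zpowers β)
  have hKN : K ≤ Subgroup.normalizer (N : Set (MulAut G)) := sup_le Subgroup.le_normalizer hNZ
  have hTN : ∀ h ∈ S.T, ∀ α ∈ N, MulAut.conj h * α * (MulAut.conj h)⁻¹ ∈ N := by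
    rintro h hh _ ⟨a, ha, rfl⟩
    exact ⟨h * a * h⁻¹, S.T_conj_J hh ha, by simp⟩
  have hAN : A ≤ Subgroup.normalizer (N : Set (MulAut G)) := by
    rintro _ ⟨h, hh, rfl⟩
    rw [Subgroup.mem_normalizer_iff]
    intro α
    refine ⟨fun hα => hTN h hh α hα, fun hα => ?_⟩
    have h1 := hTN h⁻¹ (inv_mem hh) _ hα
    have e : MulAut.conj h⁻¹ * (MulAut.conj h * α * (MulAut.conj h)⁻¹) * (MulAut.conj h⁻¹)⁻¹ = α := by
      rw [map_inv]; group
    rwa [e] at h1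
  have hfix : ∀ a ∈ A, a * β * a⁻¹ * β⁻¹ ∈ N := by
    rintro _ ⟨h, hh, rfl⟩
    obtain ⟨b, hb, e⟩ := htt h⁻¹ (inv_mem hh)
    refine ⟨h * b * h⁻¹, S.T_conj_J hh hb, ?_⟩
    have h1 : (MulAut.conj : G →* MulAut G) h * β * ((MulAut.conj : G →* MulAut G) h)⁻¹ * β⁻¹ =
        MulAut.conj h * (β * MulAut.conj h⁻¹ * β⁻¹) := by rw [map_inv]; group
    rw [h1, conj_conj, e, ← map_mul, ← mul_assoc]
  have hAK : A ≤ Subgroup.normalizer (K : Set (MulAut G)) := by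
    have key : ∀ a ∈ A, ∀ α ∈ K, a * α * a⁻¹ ∈ K := by
      intro a ha α hα
      have h1 : K ≤ K.comap (MulAut.conj a).toMonoidHom := by
        refine sup_le ?_ ?_
        · intro α hα
          exact hNK ((Subgroup.mem_normalizer_iff.1 (hAN ha) α).1 hα)
        · rw [Subgroup.zpowers_le]
          show a * β * a⁻¹ ∈ K
          have h2 := mul_mem (hNK (hfix a ha)) hβK
          have e : a * β * a⁻¹ * β⁻¹ * β = a * β * a⁻¹ := by group
          rwa [e] at h2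
      exact h1 hα
    intro a ha
    rw [Subgroup.mem_normalizer_iff]
    intro α
    refine ⟨fun hα => key a ha α hα, fun hα => ?_⟩
    have h1 := key a⁻¹ (inv_mem ha) _ hα
    have e : a⁻¹ * (a * α * a⁻¹) * a⁻¹⁻¹ = α := by group
    rwa [e] at h1
  have hcop : (Nat.card A).Coprime (Nat.card K) := by
    obtain ⟨k, hk⟩ := IsPGroup.iff_card.1 hK2
    rw [hk]
    refine Nat.Coprime.pow_right _ (Nat.Coprime.symm ?_)
    rw [Nat.coprime_two_left, ← Nat.not_even_iff_odd, even_iff_two_dvd]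
    intro h
    refine odd_T S hcard (h.trans ?_)
    exact Subgroup.card_map_dvd _ _
  have hsolv : Group.IsSolvable A ∨ Group.IsSolvable K := by
    right
    have := hK2.isNilpotent
    exact inferInstance
  obtain ⟨c, hc, hcN⟩ := Cfsg.Agent.S0022.result A K hAK hcop hsolv N hNK hKN hAN β hβK hfix
  obtain ⟨u, hu, e⟩ := hcN
  -- `c` centralises the torus
  have hcT : ∀ h ∈ S.T, c h = h := by
    intro h hh
    have h1 := Subgroup.mem_centralizer_iff.1 hc.2 (MulAut.conj h) ⟨h, hh, rfl⟩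
    have h2 : (MulAut.conj : G →* MulAut G) (c h) = MulAut.conj h := by
      rw [← conj_conj, ← h1]; group
    have h3 : ∀ g, g * (h⁻¹ * c h) = (h⁻¹ * c h) * g := by
      intro g
      have h4 := DFunLike.congr_fun h2 g
      rw [MulAut.conj_apply, MulAut.conj_apply] at h4
      calc g * (h⁻¹ * c h) = h⁻¹ * (h * g * h⁻¹) * c h := by group
        _ = h⁻¹ * (c h * g * (c h)⁻¹) * c h := by rw [h4]
        _ = _ := by group
    have h4 := center_eq_bot S hF h3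
    exact (inv_mul_eq_one.1 h4).symm
  have hcU : Fix c (J S.XZ 1 8) := by
    have e2 : c = β * MulAut.conj u := by
      have e3 : (MulAut.conj : G →* MulAut G) u = β⁻¹ * c := e
      rw [e3]; group
    rw [e2]
    refine hU.mul fun x => ?_
    rw [MulAut.conj_apply]
    refine ⟨fun h => ?_, fun h => mul_mem (mul_mem hu h) (inv_mem hu)⟩
    have e4 : x = u⁻¹ * (u * x * u⁻¹) * u := by group
    rw [e4]
    exact mul_mem (mul_mem (inv_mem hu) h) hu
  obtain ⟨k, hk⟩ := hK2 ⟨c, hc.1⟩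
  have hk' : c ^ 2 ^ k = 1 := congrArg Subtype.val hk
  have hc1 := eq_one_of_fix S hF (fix_U S hcard hF hcU hk' hcT) hcT
  refine ⟨u⁻¹, ?_⟩
  have e3 : (MulAut.conj : G →* MulAut G) u = β⁻¹ * c := e
  rw [hc1, mul_one] at e3
  rw [map_inv, e3, inv_inv]

/-- **every automorphism of 2-power order of `²F₄(q)`, `q ≥ 8`, is inner** -/
theorem inner {m : ℕ} (hcard : Nat.card F = 2 ^ (2 * m + 1)) (hF : ∃ c : Fˣ, c ≠ 1) (hR : S.R.p = 2)
    {α : MulAut G} {n : ℕ} (hn : α ^ 2 ^ n = 1) : ∃ x : G, α = MulAut.conj x := by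
  have hfact : Fact (Nat.Prime 2) := ⟨Nat.prime_two⟩
  obtain ⟨P, hP⟩ := exists_sylow S hF hR
  have hZ2 : IsPGroup 2 (Subgroup.zpowers α) := by
    rintro ⟨x, hx⟩
    obtain ⟨i, rfl⟩ := Subgroup.mem_zpowers_iff.1 hx
    refine ⟨n, Subtype.ext ?_⟩
    show (α ^ i) ^ 2 ^ n = 1
    rw [← zpow_natCast, ← zpow_mul, mul_comm, zpow_mul, zpow_natCast, hn, one_zpow]
  obtain ⟨g, hg⟩ := Cfsg.Agent.KFacts.SylFix.exists_conj_fix (U := J S.XZ 1 8) (by rw [← hP]; exact P.isPGroup')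
    (by rw [← hP]; exact P.not_dvd_index) hZ2
  have h1 := hg α (Subgroup.mem_zpowers α)
  obtain ⟨x, hx⟩ := inner_of_fix S hcard hF hR h1 (n := n) (by
    have e : ∀ j : ℕ, (MulAut.conj g⁻¹ * α * MulAut.conj g) ^ j = MulAut.conj g⁻¹ * α ^ j * MulAut.conj g := by
      intro j
      induction j with
      | zero => rw [pow_zero, pow_zero, mul_one, ← map_mul, inv_mul_cancel, map_one]
      | succ j ih => rw [pow_succ, ih, pow_succ, map_inv]; group
    rw [e, hn, mul_one, ← map_mul, inv_mul_cancel, map_one])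
  refine ⟨g * x * g⁻¹, ?_⟩
  rw [map_mul, map_mul, ← hx, map_inv]; group

/-- an automorphism of 2-power order that centralises `U` is conjugation by an element of `Z_4` -/
theorem aut_Zc {m : ℕ} (hcard : Nat.card F = 2 ^ (2 * m + 1)) (hF : ∃ c : Fˣ, c ≠ 1) (hR : S.R.p = 2)
    {α : MulAut G} {n : ℕ} (hn : α ^ 2 ^ n = 1) (hU : ∀ u ∈ J S.XZ 1 8, α u = u) :
    ∃ z ∈ S.Zc 2, ∀ x, α x = z * x * z⁻¹ := by
  obtain ⟨x, rfl⟩ := inner S hcard hF hR hn
  refine ⟨x, ?_, fun y => rfl⟩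
  rw [← S.centralizer_Q, Subgroup.mem_centralizer_iff]
  intro y hy
  have h1 := hU y (J_mono (a := 1) (b := 7) le_rfl (by norm_num) hy)
  rw [MulAut.conj_apply] at h1
  calc y * x = (x * y * x⁻¹) * x := by rw [h1]
    _ = x * y := by group

end fin

end Cfsg.Agent.KFacts.TwF4.OutTwo
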