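import Cfsg.Agent.KFacts.TwF4.SylU
import Cfsg.Agent.KFacts.TwF4.CentO

/-!
# The centralisers of involutions of `²F₄(q)`, `q ≥ 8`: perfect, `O_2`, perfect normal subgroups

`PL = C(z)`, `z ∈ Z_4`, and `HO = C(o)`, `o ∈ X_5`:
`PL_perfect`, `HO_perfect`, `PL_normal`, `HO_normal` (a perfect normal subgroup is `1` or everything), `O2_PL`, `O2_HO`,
`comm_Q` (`[Q, Q] = Q2`), `W46` facts.
-/

set_option autoImplicit false

namespace Cfsg.Agent.KFacts.TwF4.Perf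

open Cfsg.Agent.SplitTwo Cfsg.Agent.SplitTwo.ZS Cfsg.Agent.TitsThree.RankTwoZ Cfsg.Agent.KFacts.TwF4.Arc
open Cfsg.Agent.KFacts.TwF4.Inv Cfsg.Agent.KFacts.TwF4.SylU
open scoped Pointwise commutatorElement

universe u

/-! ### abstract lemmas -/

section abs

variable {G : Type u} [Group G]

/-- a solvable perfect subgroup is trivial -/
theorem eq_bot_of_perfect {E : Subgroup G} (hs : Group.IsSolvable E) (hp : ⁅E, E⁆ = E) : E = ⊥ := by
  by_contra hne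
  have hnt : Nontrivial E := E.nontrivial_iff_ne_bot.2 hne
  have h1 : commutator E < ⊤ := Group.IsSolvable.commutator_lt_top_of_nontrivial E
  apply h1.ne
  have h2 : (commutator E).map E.subtype = (⊤ : Subgroup E).map E.subtype := by
    rw [Subgroup.map_subtype_commutator, hp, ← MonoidHom.range_eq_map, Subgroup.range_subtype]
  exact Subgroup.map_injective E.subtype_injective h2

theorem isSolvable_le {A B : Subgroup G} (h : A ≤ B) (hB : Group.IsSolvable B) : Group.IsSolvable A :=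
  Group.isSolvable_of_isSolvable_injective (Subgroup.inclusion_injective h)

/-- Iwasawa: a perfect normal subgroup of a perfect group `H = B ∪ B n B`, `B` solvable, is `1` or `H` -/
theorem perfect_normal {H B E : Subgroup G} (hp : ⁅H, H⁆ = H) (hB : Group.IsSolvable B) (hBH : B ≤ H) {n : G}
    (hH : ∀ g ∈ H, g ∈ B ∨ ∃ b ∈ B, ∃ b' ∈ B, g = b * n * b') (hE : E ≤ H)
    (hEn : ∀ h ∈ H, ∀ e ∈ E, h * e * h⁻¹ ∈ E) (hEp : ⁅E, E⁆ = E) : E = ⊥ ∨ E = H := by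
  by_cases h : E ≤ B
  · exact Or.inl (eq_bot_of_perfect (isSolvable_le h hB) hEp)
  right
  obtain ⟨e, he, heB⟩ := SetLike.not_le_iff_exists.1 h
  obtain ⟨b, hb, b', hb', heq⟩ := (hH e (hE he)).resolve_left heB
  -- every element of `H` is in `E B`
  have key : ∀ g ∈ H, ∃ x ∈ E, ∃ y ∈ B, g = x * y := by
    intro g hg
    rcases hH g hg with h1 | ⟨c, hc, c', hc', rfl⟩
    · exact ⟨1, one_mem _, g, h1, (one_mul g).symm⟩
    · have e1 : c * n * c' = ((c * b⁻¹) * e * (c * b⁻¹)⁻¹) * ((c * b⁻¹) * (b'⁻¹ * c')) := by rw [heq]; group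
      exact ⟨_, hEn _ (hBH (mul_mem hc (inv_mem hb))) e he, _,
        mul_mem (mul_mem hc (inv_mem hb)) (mul_mem (inv_mem hb') hc'), e1⟩
  let N : Subgroup H := E.subgroupOf H
  have hN : N.Normal := ⟨fun x hx g => hEn g g.2 x hx⟩
  let f : B →* H ⧸ N := (QuotientGroup.mk' N).comp (Subgroup.inclusion hBH)
  have hf : Function.Surjective f := by
    intro q
    obtain ⟨g, rfl⟩ := QuotientGroup.mk'_surjective N q
    obtain ⟨x, hx, y, hy, hxy⟩ := key g g.2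
    refine ⟨⟨y, hy⟩, ?_⟩
    show (QuotientGroup.mk' N) ⟨y, hBH hy⟩ = QuotientGroup.mk' N g
    rw [QuotientGroup.mk'_eq_mk']
    refine ⟨⟨y⁻¹ * x * y, ?_⟩, ?_, ?_⟩
    · exact mul_mem (mul_mem (inv_mem (hBH hy)) (hE hx)) (hBH hy)
    · show y⁻¹ * x * y ∈ E
      have := hEn y⁻¹ (inv_mem (hBH hy)) x hx
      rwa [inv_inv] at this
    · apply Subtype.ext
      show y * (y⁻¹ * x * y) = g
      rw [hxy]; group
  have : Group.IsSolvable (H ⧸ N) := Group.isSolvable_of_surjective hf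
  by_contra hne
  have hNt : N ≠ ⊤ := by
    intro hN
    rw [Subgroup.subgroupOf_eq_top] at hN
    exact hne (le_antisymm hE hN)
  have : Nontrivial (H ⧸ N) := QuotientGroup.nontrivial_iff.2 hNt
  have h1 : commutator (H ⧸ N) < ⊤ := Group.IsSolvable.commutator_lt_top_of_nontrivial _
  apply h1.ne
  have h2 : commutator H = ⊤ := by
    have h3 : (commutator H).map H.subtype = (⊤ : Subgroup H).map H.subtype := by
      rw [Subgroup.map_subtype_commutator, hp, ← MonoidHom.range_eq_map, Subgroup.range_subtype]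
    exact Subgroup.map_injective H.subtype_injective h3
  have h4 : Subgroup.map (QuotientGroup.mk' N) (commutator H) = commutator (H ⧸ N) := by
    rw [commutator_def, commutator_def, Subgroup.map_commutator, Subgroup.map_top_of_surjective _
      (QuotientGroup.mk'_surjective N)]
  rw [← h4, h2, Subgroup.map_top_of_surjective _ (QuotientGroup.mk'_surjective N)]

/-- a product of solvable subgroups is solvable -/
theorem isSolvable_sup {A B : Subgroup G} (hA : Group.IsSolvable A) (hB : Group.IsSolvable B)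
    (hn : ∀ b ∈ B, ∀ a ∈ A, b * a * b⁻¹ ∈ A) : Group.IsSolvable (A ⊔ B : Subgroup G) := by
  have hsplit : ∀ x ∈ A ⊔ B, ∃ b ∈ B, ∃ a ∈ A, x = b * a := by
    intro x hx
    rw [sup_comm] at hx
    exact mem_sup_of_norm hn hx
  let N : Subgroup (A ⊔ B : Subgroup G) := A.subgroupOf (A ⊔ B)
  have hN : N.Normal := by
    refine ⟨fun x hx g => ?_⟩
    show (g : G) * x * (g : G)⁻¹ ∈ A
    obtain ⟨b, hb, a, ha, h⟩ := hsplit g g.2
    have e : (g : G) * x * (g : G)⁻¹ = b * (a * x * a⁻¹) * b⁻¹ := by rw [h]; group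
    rw [e]
    exact hn b hb _ (mul_mem (mul_mem ha hx) (inv_mem ha))
  have hBle : B ≤ A ⊔ B := le_sup_right
  let f : B →* (A ⊔ B : Subgroup G) ⧸ N := (QuotientGroup.mk' N).comp (Subgroup.inclusion hBle)
  have hf : Function.Surjective f := by
    intro q
    obtain ⟨g, rfl⟩ := QuotientGroup.mk'_surjective N q
    obtain ⟨b, hb, a, ha, h⟩ := hsplit g g.2
    refine ⟨⟨b, hb⟩, ?_⟩
    show (QuotientGroup.mk' N) ⟨b, hBle hb⟩ = QuotientGroup.mk' N g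
    rw [QuotientGroup.mk'_eq_mk']
    exact ⟨⟨a, Subgroup.mem_sup_left ha⟩, ha, Subtype.ext h.symm⟩
  have : Group.IsSolvable ((A ⊔ B : Subgroup G) ⧸ N) := Group.isSolvable_of_surjective hf
  have : Group.IsSolvable N := Group.isSolvable_of_isSolvable_injective
    (f := (Subgroup.subgroupOfEquivOfLe (le_sup_left : A ≤ A ⊔ B)).toMonoidHom) (MulEquiv.injective _)
  exact Group.isSolvable_of_ker_le_range N.subtype (QuotientGroup.mk' N) (by rw [QuotientGroup.ker_mk', Subgroup.range_subtype])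

/-- commutators with an element without fixed points -/
theorem le_comm_of_fix [Finite G] {H X : Subgroup G} {h : G} (hh : h ∈ H) (hX : X ≤ H)
    (hn : ∀ x ∈ X, h * x * h⁻¹ ∈ X) (hf : ∀ x ∈ X, h * x * h⁻¹ = x → x = 1) : X ≤ ⁅H, H⁆ := by
  let f : X → X := fun y => ⟨h * y * h⁻¹ * (y : G)⁻¹, mul_mem (hn y y.2) (inv_mem y.2)⟩
  have hinj : Function.Injective f := by
    intro y z hyz
    have h1 : h * y * h⁻¹ * (y : G)⁻¹ = h * z * h⁻¹ * (z : G)⁻¹ := congrArg Subtype.val hyz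
    have h2 : h * ((z : G)⁻¹ * y) * h⁻¹ = (z : G)⁻¹ * y := by
      calc h * ((z : G)⁻¹ * y) * h⁻¹ = (h * z * h⁻¹)⁻¹ * (h * y * h⁻¹ * (y : G)⁻¹) * y := by group
        _ = _ := by rw [h1]; group
    have h3 := hf _ (mul_mem (inv_mem z.2) y.2) h2
    exact Subtype.ext (inv_mul_eq_one.1 h3).symm
  intro x hx
  obtain ⟨y, hy⟩ := Finite.surjective_of_injective hinj ⟨x, hx⟩
  have h1 : h * y * h⁻¹ * (y : G)⁻¹ = x := congrArg Subtype.val hy
  rw [← h1]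
  exact Subgroup.commutator_mem_commutator hh (hX y.2)

/-- the elements whose commutator with `y` lies in `K` -/
theorem comm_mem_iSup {ι : Type*} {A : ι → Subgroup G} {K : Subgroup G}
    (hA : ∀ i, ∀ x ∈ A i, ∀ y ∈ K, x * y * x⁻¹ ∈ K) (y : G)
    (hy : ∀ i, ∀ x ∈ A i, x * y * x⁻¹ * y⁻¹ ∈ K) (x : G) (hx : x ∈ ⨆ i, A i) : x * y * x⁻¹ * y⁻¹ ∈ K := by
  let C : Subgroup G :=
    { carrier := {x | (∀ k, k ∈ K ↔ x * k * x⁻¹ ∈ K) ∧ x * y * x⁻¹ * y⁻¹ ∈ K}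
      one_mem' := ⟨fun k => by simp, by simp⟩
      mul_mem' := by
        rintro a b ⟨ha, ha'⟩ ⟨hb, hb'⟩
        refine ⟨fun k => ?_, ?_⟩
        · rw [hb, ha]
          have e : a * (b * k * b⁻¹) * a⁻¹ = a * b * k * (a * b)⁻¹ := by group
          rw [e]
        · have e : a * b * y * (a * b)⁻¹ * y⁻¹ = (a * (b * y * b⁻¹ * y⁻¹) * a⁻¹) * (a * y * a⁻¹ * y⁻¹) := by group
          rw [e]
          exact mul_mem ((ha _).1 hb') ha'
      inv_mem' := by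
        rintro a ⟨ha, ha'⟩
        refine ⟨fun k => ?_, ?_⟩
        · rw [ha (a⁻¹ * k * a⁻¹⁻¹)]
          have e : a * (a⁻¹ * k * a⁻¹⁻¹) * a⁻¹ = k := by group
          rw [e]
        · rw [ha]
          have e : a * (a⁻¹ * y * a⁻¹⁻¹ * y⁻¹) * a⁻¹ = (a * y * a⁻¹ * y⁻¹)⁻¹ := by group
          rw [e]
          exact inv_mem ha' }
  have h1 : (⨆ i, A i) ≤ C := by
    refine iSup_le fun i x hx => ⟨fun k => ⟨fun hk => hA i x hx k hk, fun hk => ?_⟩, hy i x hx⟩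
    have h2 := hA i x⁻¹ (inv_mem hx) _ hk
    have e : x⁻¹ * (x * k * x⁻¹) * x⁻¹⁻¹ = k := by group
    rwa [e] at h2
  exact (h1 hx).2

/-- commutators of two joins -/
theorem comm_le_of_gen {ι κ : Type*} {A : ι → Subgroup G} {B : κ → Subgroup G} {K : Subgroup G}
    (hA : ∀ i, ∀ x ∈ A i, ∀ y ∈ K, x * y * x⁻¹ ∈ K) (hB : ∀ i, ∀ x ∈ B i, ∀ y ∈ K, x * y * x⁻¹ ∈ K)
    (hc : ∀ i j, ∀ x ∈ A i, ∀ y ∈ B j, x * y * x⁻¹ * y⁻¹ ∈ K) : ⁅(⨆ i, A i), (⨆ j, B j)⁆ ≤ K := by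
  rw [Subgroup.commutator_le]
  intro x hx y hy
  have h0 : x * y * x⁻¹ * y⁻¹ ∈ K := by
    refine comm_mem_iSup hA y (fun i a ha => ?_) x hx
    have h1 : y * a * y⁻¹ * a⁻¹ ∈ K := by
      refine comm_mem_iSup hB a (fun j b hb => ?_) y hy
      have e : b * a * b⁻¹ * a⁻¹ = (a * b * a⁻¹ * b⁻¹)⁻¹ := by group
      rw [e]; exact inv_mem (hc i j a ha b hb)
    have e : a * y * a⁻¹ * y⁻¹ = (y * a * y⁻¹ * a⁻¹)⁻¹ := by group
    rw [e]; exact inv_mem h1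
  exact h0

end abs

/-! ### the centralisers -/

section coord

variable {F : Type*} [Field F] {σ : F →+* F} {G : Type u} [Group G] (S : Full σ G)

/-- fixed points on an odd root group -/
theorem fixo {a : ZMod 8} {c d : Fˣ} (h : chO σ a c d ≠ 1) {X : Subgroup G} (hX : ∀ x ∈ X, ∃ t, S.o a t = x) :
    ∀ x ∈ X, S.h c d * x * (S.h c d)⁻¹ = x → x = 1 := by
  intro x hx hf
  obtain ⟨t, rfl⟩ := hX x hx
  rw [fix_o S h hf, S.o_zero]

/-- fixed points on an even root group -/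
theorem fixe {a : ZMod 8} {c d : Fˣ} (h : chE σ a c d ≠ 1) {X : Subgroup G} (hX : ∀ x ∈ X, ∃ p u, S.e a p u = x) :
    ∀ x ∈ X, S.h c d * x * (S.h c d)⁻¹ = x → x = 1 := by
  intro x hx hf
  obtain ⟨p, u, rfl⟩ := hX x hx
  obtain ⟨rfl, rfl⟩ := fix_e S h hf
  exact S.e_zero _

theorem σ_ne {c : Fˣ} (hc : c ≠ 1) : Units.map (σ : F →* F) c ≠ 1 := by
  intro h
  apply hc
  apply Units.ext
  have h1 : σ (c : F) = 1 := congrArg Units.val h
  rw [Units.val_one]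
  exact σ.injective (by rw [h1, map_one])

include S in
theorem sq_ne {c : Fˣ} (hc : c ≠ 1) : c * c ≠ 1 := fun h => hc (unit_sq S h)

/-- the elements of `J 1 8 T` -/
theorem mem_BT {g : G} (b : G) (hb : b ∈ J S.XZ 1 8) (t : G) (ht : t ∈ S.T) (h : g = b * t) :
    g ∈ J S.XZ 1 8 ⊔ S.T := by
  rw [h]; exact mul_mem (Subgroup.mem_sup_left hb) (Subgroup.mem_sup_right ht)

theorem T_comm {s t : G} (hs : s ∈ S.T) (ht : t ∈ S.T) : s * t = t * s := by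
  obtain ⟨c, d, rfl⟩ := S.mem_T.1 hs
  obtain ⟨c', d', rfl⟩ := S.mem_T.1 ht
  rw [S.h_mul, S.h_mul, mul_comm c, mul_comm d]

/-- the Borel subgroup is solvable -/
theorem BT_solvable [Finite F] [Finite G] (hR : S.R.p = 2) : Group.IsSolvable (J S.XZ 1 8 ⊔ S.T : Subgroup G) := by
  have hfact : Fact (Nat.Prime 2) := ⟨Nat.prime_two⟩
  have hU2 : IsPGroup 2 (J S.XZ 1 8) := isPGroup_J S.zsys8 (two_X S hR) 8 1 8 (by norm_num) (by norm_num)
  have hU : Group.IsNilpotent (J S.XZ 1 8) := hU2.isNilpotent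
  refine isSolvable_sup inferInstance ?_ fun t ht x hx => S.T_conj_J ht hx
  exact Group.isSolvable_of_comm fun a b => Subtype.ext (T_comm S a.2 b.2)

theorem X_le_PL {k : ℤ} (h1 : 0 ≤ k) (h2 : k ≤ 8) : S.XZ k ≤ S.PL := X_le_J h1 h2

variable [Finite F] [Finite G]

/-- the root groups but `X_4` lie in the commutator subgroup -/
theorem PL_comm_aux (hF : ∃ c : Fˣ, c ≠ 1) {k : ℤ} (h1 : 0 ≤ k) (h2 : k ≤ 8) (h4 : k ≠ 4) : S.XZ k ≤ ⁅S.PL, S.PL⁆ := by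
  obtain ⟨c, hc⟩ := hF
  have hσc : Units.map (σ : F →* F) c ≠ 1 := σ_ne hc
  have hh := S.h_mem_PL c
  have hE3 : chE σ 3 (Units.map (σ : F →* F) c) c = c⁻¹ := by
    rw [chE_three, map_map σ S.sq, pow_two, div_mul_cancel_left]
  have hE2 : chE σ 2 (Units.map (σ : F →* F) c) c = 1 := by rw [chE_two, div_self']
  refine le_comm_of_fix hh (X_le_PL S h1 h2) (h_X S _ _ k) ?_
  have hk : k = 0 ∨ k = 1 ∨ k = 2 ∨ k = 3 ∨ k = 5 ∨ k = 6 ∨ k = 7 ∨ k = 8 := by omega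
  rcases hk with rfl | rfl | rfl | rfl | rfl | rfl | rfl | rfl
  · exact fixe S (a := 0) (by rw [chE_zero]; exact hσc) fun x hx => (mem_X0 S).1 hx
  · refine fixo S (a := 0) ?_ fun x hx => (mem_X1 S).1 hx
    show chE σ 0 (Units.map (σ : F →* F) c) c * chE σ 1 (Units.map (σ : F →* F) c) c ≠ 1
    rw [chE_zero, chE_one, mul_comm]
    exact fun h => hc (s1 S h)
  · exact fixe S (a := 1) (by rw [chE_one]; exact hc) fun x hx => (mem_X2 S).1 hx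
  · refine fixo S (a := 1) ?_ fun x hx => (mem_X3 S).1 hx
    show chE σ 1 (Units.map (σ : F →* F) c) c * chE σ 2 (Units.map (σ : F →* F) c) c ≠ 1
    rw [chE_one, hE2, mul_one]; exact hc
  · refine fixo S (a := 2) ?_ fun x hx => (mem_X5 S).1 hx
    show chE σ 2 (Units.map (σ : F →* F) c) c * chE σ 3 (Units.map (σ : F →* F) c) c ≠ 1
    rw [hE2, hE3, one_mul]; exact inv_ne_one.2 hc
  · exact fixe S (a := 3) (by rw [hE3]; exact inv_ne_one.2 hc) fun x hx => (mem_X6 S).1 hx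
  · refine fixo S (a := 3) ?_ fun x hx => (mem_X7 S).1 hx
    show chE σ 3 (Units.map (σ : F →* F) c) c * chE σ 4 (Units.map (σ : F →* F) c) c ≠ 1
    rw [hE3, chE_four, ← mul_inv]
    exact inv_ne_one.2 fun h => hc (s1 S h)
  · exact fixe S (a := 4) (by rw [chE_four]; exact inv_ne_one.2 hσc) fun x hx => (mem_X8 S).1 hx

/-- **`C(z)` is perfect** -/
theorem PL_perfect (hF : ∃ c : Fˣ, c ≠ 1) : ⁅S.PL, S.PL⁆ = S.PL := by
  apply le_antisymm (Subgroup.commutator_le.2 fun x hx y hy => mul_mem (mul_mem (mul_mem hx hy) (inv_mem hx)) (inv_mem hy))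
  refine J_le fun k h1 h2 => ?_
  by_cases h4 : k = 4
  · subst h4
    intro x hx
    obtain ⟨p, u, rfl⟩ := (mem_X4 S).1 hx
    have m1 : ∀ t, S.o 0 t ∈ ⁅S.PL, S.PL⁆ := fun t =>
      PL_comm_aux S hF (k := 1) (by norm_num) (by norm_num) (by norm_num) ((mem_X1 S).2 ⟨t, rfl⟩)
    have m2 : ∀ p u, S.e 1 p u ∈ ⁅S.PL, S.PL⁆ := fun p u =>
      PL_comm_aux S hF (k := 2) (by norm_num) (by norm_num) (by norm_num) ((mem_X2 S).2 ⟨p, u, rfl⟩)
    have m3 : ∀ t, S.o 1 t ∈ ⁅S.PL, S.PL⁆ := fun t =>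
      PL_comm_aux S hF (k := 3) (by norm_num) (by norm_num) (by norm_num) ((mem_X3 S).2 ⟨t, rfl⟩)
    have m5 : ∀ t, S.o 2 t ∈ ⁅S.PL, S.PL⁆ := fun t =>
      PL_comm_aux S hF (k := 5) (by norm_num) (by norm_num) (by norm_num) ((mem_X5 S).2 ⟨t, rfl⟩)
    have m6 : ∀ p u, S.e 3 p u ∈ ⁅S.PL, S.PL⁆ := fun p u =>
      PL_comm_aux S hF (k := 6) (by norm_num) (by norm_num) (by norm_num) ((mem_X6 S).2 ⟨p, u, rfl⟩)
    have m7 : ∀ t, S.o 3 t ∈ ⁅S.PL, S.PL⁆ := fun t =>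
      PL_comm_aux S hF (k := 7) (by norm_num) (by norm_num) (by norm_num) ((mem_X7 S).2 ⟨t, rfl⟩)
    have m8 : ∀ p u, S.e 4 p u ∈ ⁅S.PL, S.PL⁆ := fun p u =>
      PL_comm_aux S hF (k := 8) (by norm_num) (by norm_num) (by norm_num) ((mem_X8 S).2 ⟨p, u, rfl⟩)
    -- the centre
    have hz : ∀ v, S.e 2 0 v ∈ ⁅S.PL, S.PL⁆ := by
      intro v
      have h := S.o_e3 0 1 0 v
      simp only [map_one, map_zero, mul_zero, mul_one, one_mul, zero_add, S.o_zero, S.e_zero] at h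
      have e : S.e (2 : ZMod 8) 0 v = (S.e 3 0 v * S.o 0 1)⁻¹ * (S.o 0 1 * S.e 3 0 v) := by
        rw [h]; group
      rw [e]
      exact mul_mem (inv_mem (mul_mem (m6 _ _) (m1 _))) (mul_mem (m1 _) (m6 _ _))
    -- the first coordinate
    have hp : ∃ w, S.e 2 p w ∈ ⁅S.PL, S.PL⁆ := by
      have h := S.e_e3 1 1 0 p 0
      have e1 : ∀ {A B C D E H K L : G}, A = B * C * D * E * H * K * L → A ∈ ⁅S.PL, S.PL⁆ → B ∈ ⁅S.PL, S.PL⁆ →
          C ∈ ⁅S.PL, S.PL⁆ → D ∈ ⁅S.PL, S.PL⁆ → H ∈ ⁅S.PL, S.PL⁆ → K ∈ ⁅S.PL, S.PL⁆ → L ∈ ⁅S.PL, S.PL⁆ →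
          E ∈ ⁅S.PL, S.PL⁆ := by
        intro A B C D E H K L h hA hB hC hD hH hK hL
        have e : E = (B * C * D)⁻¹ * A * (H * K * L)⁻¹ := by rw [h]; group
        rw [e]
        exact mul_mem (mul_mem (inv_mem (mul_mem (mul_mem hB hC) hD)) hA) (inv_mem (mul_mem (mul_mem hH hK) hL))
      rw [show (1 : ZMod 8) + 3 = 4 by decide, show (1 : ZMod 8) + 1 = 2 by decide, show (1 : ZMod 8) + 2 = 3 by decide,
        map_one, one_mul p] at h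
      exact ⟨_, e1 h (mul_mem (m2 _ _) (m8 _ _)) (m8 _ _) (m2 _ _) (m3 _) (m5 _) (m6 _ _) (m7 _)⟩
    obtain ⟨w, hw⟩ := hp
    have e : S.e 2 p u = S.e 2 p w * S.e 2 0 (u - w) := by
      rw [S.e_mul]; congr 1 <;> simp
    rw [e]
    exact mul_mem hw (hz _)
  · exact PL_comm_aux S hF h1 h2 h4

/-! ### `C(o)` -/

omit [Finite F] [Finite G] in
theorem X1_HO : S.XZ 1 ≤ S.HO := le_sup_left.trans (le_sup_left (a := S.LO))

omit [Finite F] [Finite G] in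
theorem X9_HO : S.XZ 9 ≤ S.HO := le_sup_right.trans (le_sup_left (a := S.LO))

omit [Finite F] [Finite G] in
theorem NO_HO : S.NO ≤ S.HO := le_sup_right

omit [Finite F] [Finite G] in
theorem J37_HO : J S.XZ 3 7 ≤ S.HO := S.J37_le.trans (NO_HO S)

omit [Finite F] [Finite G] in
theorem HO_le_J : S.HO ≤ J S.XZ 1 9 :=
  sup_le S.LO_le_J (inf_le_left.trans (J_mono (by norm_num) (by norm_num)))

omit [Finite F] [Finite G] in
theorem HO_le_cent : S.HO ≤ Subgroup.centralizer (S.XZ 5 : Set G) := S.HO_le_cent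

omit [Finite F] [Finite G] in
theorem h_mem_HO (c : Fˣ) : S.h c c ∈ S.HO := Subgroup.mem_sup_left (S.h_mem_LO c)

omit [Finite F] [Finite G] in
theorem n1_mem_HO : S.n1 ∈ S.HO := Subgroup.mem_sup_left S.n1_mem_LO

/-- **`C(o)` is perfect** -/
theorem HO_perfect (hF : ∃ c : Fˣ, c ≠ 1) : ⁅S.HO, S.HO⁆ = S.HO := by
  apply le_antisymm (Subgroup.commutator_le.2 fun x hx y hy => mul_mem (mul_mem (mul_mem hx hy) (inv_mem hx)) (inv_mem hy))
  obtain ⟨c, hc⟩ := hF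
  have hσc : Units.map (σ : F →* F) c ≠ 1 := σ_ne hc
  have hdiv : Units.map (σ : F →* F) c / c ≠ 1 := fun h => hc (s2 S (div_eq_one.1 h))
  have hdiv' : c / Units.map (σ : F →* F) c ≠ 1 := fun h => hc (s2 S (div_eq_one.1 h).symm)
  have hh := h_mem_HO S c
  have aux : ∀ {X : Subgroup G}, X ≤ S.HO → (∀ x ∈ X, S.h c c * x * (S.h c c)⁻¹ ∈ X) →
      (∀ x ∈ X, S.h c c * x * (S.h c c)⁻¹ = x → x = 1) → X ≤ ⁅S.HO, S.HO⁆ := fun h1 h2 h3 => le_comm_of_fix hh h1 h2 h3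
  have k1 : S.XZ 1 ≤ ⁅S.HO, S.HO⁆ := by
    refine aux (X1_HO S) (h_X S _ _ 1) (fixo S (a := 0) ?_ fun x hx => (mem_X1 S).1 hx)
    show chE σ 0 c c * chE σ 1 c c ≠ 1
    rw [chE_zero, chE_one]; exact sq_ne S hc
  have k9 : S.XZ 9 ≤ ⁅S.HO, S.HO⁆ := by
    refine aux (X9_HO S) (h_X S _ _ 9) (fixo S (a := 4) ?_ fun x hx => (mem_X9 S).1 hx)
    show chE σ 4 c c * chE σ 5 c c ≠ 1
    rw [chE_four, chE_five]; exact sq_ne S (inv_ne_one.2 hc)
  have X37 : ∀ {k : ℤ}, 3 ≤ k → k ≤ 7 → S.XZ k ≤ S.HO := fun h1 h2 => (X_le_J h1 h2).trans (J37_HO S)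
  have k3 : S.XZ 3 ≤ ⁅S.HO, S.HO⁆ := by
    refine aux (X37 (by norm_num) (by norm_num)) (h_X S _ _ 3) (fixo S (a := 1) ?_ fun x hx => (mem_X3 S).1 hx)
    show chE σ 1 c c * chE σ 2 c c ≠ 1
    rw [chE_one, chE_two, mul_div_cancel]; exact hσc
  have k4 : S.XZ 4 ≤ ⁅S.HO, S.HO⁆ :=
    aux (X37 (by norm_num) (by norm_num)) (h_X S _ _ 4) (fixe S (a := 2) (by rw [chE_two]; exact hdiv)
      fun x hx => (mem_X4 S).1 hx)
  have k6 : S.XZ 6 ≤ ⁅S.HO, S.HO⁆ :=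
    aux (X37 (by norm_num) (by norm_num)) (h_X S _ _ 6) (fixe S (a := 3) (by rw [chE_three]; exact hdiv')
      fun x hx => (mem_X6 S).1 hx)
  have k7 : S.XZ 7 ≤ ⁅S.HO, S.HO⁆ := by
    refine aux (X37 (by norm_num) (by norm_num)) (h_X S _ _ 7) (fixo S (a := 3) ?_ fun x hx => (mem_X7 S).1 hx)
    show chE σ 3 c c * chE σ 4 c c ≠ 1
    rw [chE_three, chE_four, div_mul_eq_mul_div, mul_inv_cancel, one_div]
    exact inv_ne_one.2 hσc
  have k5 : S.XZ 5 ≤ ⁅S.HO, S.HO⁆ := by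
    intro x hx
    obtain ⟨t, rfl⟩ := (mem_X5 S).1 hx
    have h := S.e_e1 2 t 0 1 0
    have e : S.o 2 t = (S.e 3 1 0 * S.e 2 t 0)⁻¹ * (S.e 2 t 0 * S.e 3 1 0) := by
      rw [show (2 : ZMod 8) + 1 = 3 by decide] at h
      rw [h, mul_one]; group
    rw [e]
    have m6 := k6 ((mem_X6 S).2 ⟨1, 0, rfl⟩)
    have m4 := k4 ((mem_X4 S).2 ⟨t, 0, rfl⟩)
    exact mul_mem (inv_mem (mul_mem m6 m4)) (mul_mem m4 m6)
  have z2 : S.Zc 1 ≤ ⁅S.HO, S.HO⁆ := by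
    refine aux (fun x hx => ?_) (fun x hx => S.T_conj_Zc (S.mem_T.2 ⟨c, c, rfl⟩) hx)
      (fixe S (a := 1) (by rw [chE_one]; exact hc) fun x hx => ?_)
    · obtain ⟨u, rfl⟩ := S.mem_Zc.1 hx
      exact NO_HO S (S.Z2_NO u)
    · obtain ⟨u, rfl⟩ := S.mem_Zc.1 hx
      exact ⟨0, u, rfl⟩
  have z8 : S.Zc 4 ≤ ⁅S.HO, S.HO⁆ := by
    refine aux (fun x hx => ?_) (fun x hx => S.T_conj_Zc (S.mem_T.2 ⟨c, c, rfl⟩) hx)
      (fixe S (a := 4) (by rw [chE_four]; exact inv_ne_one.2 hc) fun x hx => ?_)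
    · obtain ⟨u, rfl⟩ := S.mem_Zc.1 hx
      exact NO_HO S (S.Z8_NO u)
    · obtain ⟨u, rfl⟩ := S.mem_Zc.1 hx
      exact ⟨0, u, rfl⟩
  have kJ : J S.XZ 3 7 ≤ ⁅S.HO, S.HO⁆ := by
    refine J_le fun k h1 h2 => ?_
    have hk : k = 3 ∨ k = 4 ∨ k = 5 ∨ k = 6 ∨ k = 7 := by omega
    rcases hk with rfl | rfl | rfl | rfl | rfl
    exacts [k3, k4, k5, k6, k7]
  refine sup_le (sup_le k1 k9) fun x hx => ?_
  obtain ⟨u, v, r, hr, rfl⟩ := S.mem_NO_iff.1 hx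
  exact mul_mem (mul_mem (z2 (S.mem_Zc.2 ⟨u, rfl⟩)) (kJ hr)) (z8 (S.mem_Zc.2 ⟨v, rfl⟩))

/-! ### perfect normal subgroups -/


/-- **a perfect normal subgroup of `C(z)` is `1` or `C(z)`** -/
theorem PL_normal (hF : ∃ c : Fˣ, c ≠ 1) (hR : S.R.p = 2) {E : Subgroup G} (hE : E ≤ S.PL)
    (hEn : ∀ h ∈ S.PL, ∀ e ∈ E, h * e * h⁻¹ ∈ E) (hEp : ⁅E, E⁆ = E) : E = ⊥ ∨ E = S.PL := by
  refine perfect_normal (B := S.PL ⊓ (J S.XZ 1 8 ⊔ S.T)) (n := S.n2) (PL_perfect S hF)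
    (isSolvable_le inf_le_right (BT_solvable S hR)) inf_le_left ?_ hE hEn hEp
  intro g hg
  have hz : S.e 2 0 1 ∈ S.Zc 2 := S.mem_Zc.2 ⟨1, rfl⟩
  have hz1 : S.e 2 0 1 ≠ 1 := fun h => one_ne_zero (S.e_eq_one h).2
  have hgz : g * S.e 2 0 1 * g⁻¹ ∈ S.Zc 2 := by
    rw [S.comm_PL hg hz, mul_inv_cancel_right]; exact hz
  obtain ⟨b, hb, t, ht, h | ⟨b', hb', h⟩⟩ := S.form_of_conj hz hz1 hgz
  · exact Or.inl ⟨hg, mem_BT S b hb t ht h⟩
  · right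
    have hb'P : b' ∈ S.PL := J_mono (by norm_num) le_rfl hb'
    have e : b * t = g * b'⁻¹ * S.n2⁻¹ := by rw [h]; group
    have m1 : b * t ∈ S.PL := by rw [e]; exact mul_mem (mul_mem hg (inv_mem hb'P)) (inv_mem S.n2_mem)
    refine ⟨b * t, ⟨m1, mem_BT S b hb t ht rfl⟩, b', ⟨hb'P, Subgroup.mem_sup_left hb'⟩, ?_⟩
    rw [h]; group

omit [Finite F] [Finite G] in
/-- the form of the elements of `C(o)` -/
theorem HO_form {g : G} (hg : g ∈ S.HO) :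
    ∃ b ∈ J S.XZ 1 8, ∃ t ∈ S.T, g = b * t ∨ ∃ b' ∈ J S.XZ 1 8, g = b * (t * S.n1) * b' := by
  have Z8 := S.zsys8
  have hs1 : S.o 2 1 ≠ 1 := fun h => one_ne_zero (S.o_eq_one h)
  have hc := S.mem_centralizer_X5.1 (S.HO_le_cent hg) 1
  obtain ⟨b, hb, t, ht, w, hw, b', hb', rfl⟩ := S.bruhatE g
  have hb9 : b ∈ J S.XZ 1 9 := J_mono le_rfl (by norm_num) hb
  have hb9' : b' ∈ J S.XZ 1 9 := J_mono le_rfl (by norm_num) hb'
  have hx : S.o 2 1 ∈ S.XZ 5 := S.mX5 1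
  have h : (b * t * w * b') * S.o 2 1 * (b * t * w * b')⁻¹ = S.o 2 1 := by rw [hc]; group
  have h1 : b' * S.o 2 1 * b'⁻¹ ∈ J S.XZ 4 6 := by
    have e : b' * S.o 2 1 * b'⁻¹ = (b' * S.o 2 1 * b'⁻¹ * (S.o 2 1)⁻¹) * S.o 2 1 := by group
    rw [e]
    exact mul_mem (S.W46_le (S.comm_five hb9' hx)) (mem_J hx (by norm_num) (by norm_num))
  have hbi := inv_mem hb9
  have h2 : w * (b' * S.o 2 1 * b'⁻¹) * w⁻¹ =
      (t⁻¹ * (b⁻¹ * S.o 2 1 * b⁻¹⁻¹ * (S.o 2 1)⁻¹) * t) * (t⁻¹ * S.o 2 1 * t) := by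
    calc w * (b' * S.o 2 1 * b'⁻¹) * w⁻¹ = t⁻¹ * b⁻¹ * ((b * t * w * b') * S.o 2 1 * (b * t * w * b')⁻¹) * b * t := by group
      _ = _ := by rw [h]; group
  have h3 : t⁻¹ * (b⁻¹ * S.o 2 1 * b⁻¹⁻¹ * (S.o 2 1)⁻¹) * t ∈ S.W46 := by
    have := S.T_conj_W46 (inv_mem ht) (S.comm_five hbi hx)
    rwa [inv_inv t] at this
  have h4 : t⁻¹ * S.o 2 1 * t ∈ S.XZ 5 := S.T_conj' ht 5 hx
  have h5 : t⁻¹ * S.o 2 1 * t ≠ 1 := by
    intro h0
    apply hs1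
    have : S.o 2 1 = t * (t⁻¹ * S.o 2 1 * t) * t⁻¹ := by group
    rw [this, h0]; group
  rcases S.dih_five hw h1 h3 h4 h5 h2 with hT | hT
  · refine ⟨b * (t * w * b' * (t * w)⁻¹), mul_mem hb ?_, t * w, mul_mem ht hT, Or.inl (by group)⟩
    exact S.T_conj_J (mul_mem ht hT) hb'
  · refine ⟨b, hb, t * (w * S.n1), mul_mem ht hT, Or.inr ⟨b', hb', ?_⟩⟩
    calc b * t * w * b' = b * (t * (w * (S.n1 * S.n1))) * b' := by rw [S.n1_sq, mul_one]; group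
      _ = _ := by group

/-- **a perfect normal subgroup of `C(o)` is `1` or `C(o)`** -/
theorem HO_normal (hF : ∃ c : Fˣ, c ≠ 1) (hR : S.R.p = 2) {E : Subgroup G} (hE : E ≤ S.HO)
    (hEn : ∀ h ∈ S.HO, ∀ e ∈ E, h * e * h⁻¹ ∈ E) (hEp : ⁅E, E⁆ = E) : E = ⊥ ∨ E = S.HO := by
  have Z8 := S.zsys8
  refine perfect_normal (B := S.HO ⊓ (J S.XZ 1 8 ⊔ S.T)) (n := S.n1) (HO_perfect S hF)
    (isSolvable_le inf_le_right (BT_solvable S hR)) inf_le_left ?_ hE hEn hEp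
  intro g hg
  obtain ⟨b, hb, t, ht, h | ⟨b', hb', h⟩⟩ := HO_form S hg
  · exact Or.inl ⟨hg, mem_BT S b hb t ht h⟩
  · right
    obtain ⟨x, hx, q, hq, rfl⟩ := Z8.split_ll (a := 1) (b := 8) (by norm_num) (by norm_num) hb'
    -- `n1 x q = q'' n1 x`
    have hq1 : x * q * x⁻¹ ∈ J S.XZ 2 8 :=
      Z8.conj_J (a := 2) (b := 8) (c := 1) (d := 1) (by norm_num) (by norm_num) (by norm_num)
        (mem_J hx (by norm_num) (by norm_num)) hq
    have hq2 : S.n1 * (x * q * x⁻¹) * S.n1⁻¹ ∈ J S.XZ 2 8 := S.n1_refl.mem_J hq1 (by norm_num) (by norm_num)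
    have hq3 : t * (S.n1 * (x * q * x⁻¹) * S.n1⁻¹) * t⁻¹ ∈ J S.XZ 1 8 :=
      S.T_conj_J ht (J_mono (by norm_num) le_rfl hq2)
    have hxH : x ∈ S.HO := X1_HO S hx
    have e : g = (b * (t * (S.n1 * (x * q * x⁻¹) * S.n1⁻¹) * t⁻¹)) * t * S.n1 * x := by rw [h]; group
    have e2 : (b * (t * (S.n1 * (x * q * x⁻¹) * S.n1⁻¹) * t⁻¹)) * t = g * x⁻¹ * S.n1⁻¹ := by rw [e]; group
    have m1 : (b * (t * (S.n1 * (x * q * x⁻¹) * S.n1⁻¹) * t⁻¹)) * t ∈ S.HO := by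
      rw [e2]
      exact mul_mem (mul_mem hg (inv_mem hxH)) (inv_mem (n1_mem_HO S))
    exact ⟨(b * (t * (S.n1 * (x * q * x⁻¹) * S.n1⁻¹) * t⁻¹)) * t, ⟨m1, mem_BT S _ (mul_mem hb hq3) t ht rfl⟩, x,
      ⟨hxH, Subgroup.mem_sup_left (mem_J hx (by norm_num) (by norm_num))⟩, e⟩

/-! ### `O_2` -/

omit [Finite F] [Finite G] in
/-- `Q` is normalised by `C(z)` -/
theorem Q_norm {g x : G} (hg : g ∈ S.PL) (hx : x ∈ S.Q) : g * x * g⁻¹ ∈ S.Q :=
  S.zsys8.conj_J (a := 1) (b := 7) (c := 0) (d := 8) (by norm_num) (by norm_num) (by norm_num) hg hx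

theorem two_J (hR : S.R.p = 2) {a b : ℤ} (hb : b < a + 8) : IsPGroup 2 (J S.XZ a b) :=
  isPGroup_J S.zsys8 (two_X S hR) (b + 1 - a).toNat a b (by omega) hb

theorem two_Q (hR : S.R.p = 2) : IsPGroup 2 S.Q := two_J S hR (by norm_num)

/-- a 2-group contains no torus element -/
theorem torus_mem_two {V : Subgroup G} (hV : IsPGroup 2 V) {c d : Fˣ} (h : S.h c d ∈ V) : c = 1 ∧ d = 1 := by
  obtain ⟨k, hk⟩ := hV ⟨_, h⟩
  exact torus_two S (k := k) (by simpa using congrArg Subtype.val hk)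

/-- a 2-group containing `U` is `U` -/
theorem le_U_of_two (hF : ∃ c : Fˣ, c ≠ 1) (hR : S.R.p = 2) {V : Subgroup G} (hV : IsPGroup 2 V)
    (h : J S.XZ 1 8 ≤ V) : V ≤ J S.XZ 1 8 := by
  have hfact : Fact (Nat.Prime 2) := ⟨Nat.prime_two⟩
  obtain ⟨P, hP⟩ := exists_sylow S hF hR
  have := P.3 hV (by rw [hP]; exact h)
  rw [hP] at this
  exact this.le

omit [Finite F] [Finite G] in
theorem two_sup {A N : Subgroup G} (hA : IsPGroup 2 A) (hN : IsPGroup 2 N) (hn : ∀ a ∈ A, ∀ x ∈ N, a * x * a⁻¹ ∈ N) :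
    IsPGroup 2 (A ⊔ N : Subgroup G) := by
  refine IsPGroup.to_sup_of_normal_right' hA hN fun a ha => ?_
  rw [Subgroup.mem_normalizer_iff]
  intro x
  refine ⟨fun hx => hn a ha x hx, fun hx => ?_⟩
  have := hn a⁻¹ (inv_mem ha) _ hx
  have e : a⁻¹ * (a * x * a⁻¹) * a⁻¹⁻¹ = x := by group
  rwa [e] at this

/-- **`O_2(C(z)) = Q`** -/
theorem O2_PL (hF : ∃ c : Fˣ, c ≠ 1) (hR : S.R.p = 2) {N : Subgroup G} (hN : N ≤ S.PL) (h2 : IsPGroup 2 N)
    (hn : ∀ g ∈ S.PL, ∀ x ∈ N, g * x * g⁻¹ ∈ N) : N ≤ S.Q := by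
  have Z8 := S.zsys8
  have hNU : N ≤ J S.XZ 1 8 := by
    have h3 : IsPGroup 2 (J S.XZ 1 8 ⊔ N : Subgroup G) := two_sup (two_J S hR (by norm_num)) h2
      fun a ha x hx => hn a (J_mono (by norm_num) le_rfl ha) x hx
    exact le_sup_right.trans (le_U_of_two S hF hR h3 le_sup_left)
  intro x hx
  obtain ⟨y, hy, q, hq, hxy⟩ := Z8.split_rl (a := 1) (b := 8) (by norm_num) (by norm_num) (hNU hx)
  have hqQ : q ∈ J S.XZ 1 7 := J_mono le_rfl (by norm_num) hq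
  have hN0 : IsPGroup 2 (J S.XZ 0 7 ⊔ N : Subgroup G) := two_sup (two_J S hR (by norm_num)) h2
      fun a ha x hx => hn a (J_mono le_rfl (by norm_num) ha) x hx
  by_cases hy1 : y = 1
  · rw [hxy, hy1, one_mul]; exact hqQ
  exfalso
  have hyV : y ∈ J S.XZ 0 7 ⊔ N := by
    have e : y = x * q⁻¹ := by rw [hxy]; group
    rw [e]
    exact mul_mem (Subgroup.mem_sup_right hx) (inv_mem (Subgroup.mem_sup_left (J_mono (by norm_num) le_rfl hqQ)))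
  obtain ⟨v, hv, v', hv', hr⟩ := Z8.mu 8 y hy hy1
  have hX0 : ∀ w ∈ S.XZ 0, w ∈ J S.XZ 0 7 ⊔ N := fun w hw => Subgroup.mem_sup_left (mem_J hw le_rfl (by norm_num))
  have hnV : v * y * v' ∈ J S.XZ 0 7 ⊔ N := mul_mem (mul_mem (hX0 _ hv) hyV) (hX0 _ hv')
  have hX8 : ∀ w ∈ S.XZ 8, w ∈ J S.XZ 0 7 ⊔ N := by
    intro w hw
    have h1 : (v * y * v')⁻¹ * w * (v * y * v') ∈ S.XZ 0 := hr.mem_inv hw (by norm_num)
    have e : w = (v * y * v') * ((v * y * v')⁻¹ * w * (v * y * v')) * (v * y * v')⁻¹ := by group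
    rw [e]
    exact mul_mem (mul_mem hnV (hX0 _ h1)) (inv_mem hnV)
  have hPV : S.PL ≤ J S.XZ 0 7 ⊔ N := by
    refine J_le fun k h1 h2 w hw => ?_
    rcases lt_or_ge k 8 with h3 | h3
    · exact Subgroup.mem_sup_left (mem_J hw h1 (by omega))
    · rw [show k = 8 by omega] at hw; exact hX8 w hw
  obtain ⟨c, hc⟩ := hF
  exact hc (torus_mem_two S hN0 (hPV (S.h_mem_PL c))).2

omit [Finite F] [Finite G] in
/-- `NO` is normalised by `C(o)` -/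
theorem NO_norm {g x : G} (hg : g ∈ S.HO) (hx : x ∈ S.NO) : g * x * g⁻¹ ∈ S.NO := by
  refine Subgroup.mem_inf.2 ⟨S.zsys8.conj_J (a := 2) (b := 8) (c := 1) (d := 9) (by norm_num) (by norm_num) (by norm_num)
    (HO_le_J S hg) hx.1, ?_⟩
  have h1 : g ∈ Subgroup.centralizer (S.XZ 5 : Set G) := HO_le_cent S hg
  have h2 : x ∈ Subgroup.centralizer (S.XZ 5 : Set G) := hx.2
  exact mul_mem (mul_mem h1 h2) (inv_mem h1)

theorem two_NO (hR : S.R.p = 2) : IsPGroup 2 S.NO := (two_J S hR (a := 2) (b := 8) (by norm_num)).to_le inf_le_left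

/-- **`O_2(C(o)) = NO`** -/
theorem O2_HO (hF : ∃ c : Fˣ, c ≠ 1) (hR : S.R.p = 2) {N : Subgroup G} (hN : N ≤ S.HO) (h2 : IsPGroup 2 N)
    (hn : ∀ g ∈ S.HO, ∀ x ∈ N, g * x * g⁻¹ ∈ N) : N ≤ S.NO := by
  have Z8 := S.zsys8
  have hN9 : N ≤ J S.XZ 1 9 := hN.trans (HO_le_J S)
  have conj28 : ∀ g ∈ J S.XZ 1 9, ∀ x ∈ J S.XZ 2 8, g * x * g⁻¹ ∈ J S.XZ 2 8 := fun g hg x hx =>
    Z8.conj_J (a := 2) (b := 8) (c := 1) (d := 9) (by norm_num) (by norm_num) (by norm_num) hg hx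
  have h28 : IsPGroup 2 (J S.XZ 2 8) := two_J S hR (by norm_num)
  -- the two 2-groups
  have big : ∀ {X : Subgroup G}, X ≤ S.HO → IsPGroup 2 X → IsPGroup 2 ((X ⊔ N) ⊔ J S.XZ 2 8 : Subgroup G) := by
    intro X hX hX2
    refine two_sup (two_sup hX2 h2 fun a ha x hx => hn a (hX ha) x hx) h28 fun a ha x hx => conj28 a ?_ x hx
    exact (sup_le (hX.trans (HO_le_J S)) hN9) ha
  have hNU : N ≤ J S.XZ 1 8 := by
    have h3 := big (X1_HO S) (two_X S hR 1)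
    refine (le_sup_right.trans le_sup_left).trans (le_U_of_two S hF hR h3 ?_)
    refine J_le fun k h1 h2 w hw => ?_
    rcases lt_or_ge 1 k with h4 | h4
    · exact Subgroup.mem_sup_right (mem_J hw (by omega) h2)
    · rw [show k = 1 by omega] at hw
      exact Subgroup.mem_sup_left (Subgroup.mem_sup_left hw)
  have h9 := big (X9_HO S) (two_X S hR 9)
  intro x hx
  obtain ⟨y, hy, q, hq, hxy⟩ := Z8.split_ll (a := 1) (b := 8) (by norm_num) (by norm_num) (hNU hx)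
  have hq' : q ∈ J S.XZ 2 8 := J_mono (by norm_num) le_rfl hq
  by_cases hy1 : y = 1
  · refine ⟨?_, HO_le_cent S (hN hx)⟩
    rw [hxy, hy1, one_mul]; exact hq'
  exfalso
  set V := (S.XZ 9 ⊔ N) ⊔ J S.XZ 2 8 with hV
  have hyV : y ∈ V := by
    have e : y = x * q⁻¹ := by rw [hxy]; group
    rw [e]
    exact mul_mem (Subgroup.mem_sup_left (Subgroup.mem_sup_right hx)) (inv_mem (Subgroup.mem_sup_right hq'))
  obtain ⟨v, hv, v', hv', hr⟩ := Z8.mu 1 y hy hy1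
  have e79 : S.XZ (1 - 8) = S.XZ 9 := by
    have := Z8.per (1 - 8)
    norm_num at this
    norm_num
    exact this.symm
  rw [e79] at hv hv'
  have hX9 : ∀ w ∈ S.XZ 9, w ∈ V := fun w hw => Subgroup.mem_sup_left (Subgroup.mem_sup_left hw)
  have hnV : v * y * v' ∈ V := mul_mem (mul_mem (hX9 _ hv) hyV) (hX9 _ hv')
  have hX1 : ∀ w ∈ S.XZ 1, w ∈ V := by
    intro w hw
    have h1 : (v * y * v')⁻¹ * w * (v * y * v') ∈ S.XZ (1 - 8) := hr.mem_inv hw (by norm_num)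
    rw [e79] at h1
    have e : w = (v * y * v') * ((v * y * v')⁻¹ * w * (v * y * v')) * (v * y * v')⁻¹ := by group
    rw [e]
    exact mul_mem (mul_mem hnV (hX9 _ h1)) (inv_mem hnV)
  have hLV : S.LO ≤ V := sup_le hX1 hX9
  obtain ⟨c, hc⟩ := hF
  exact hc (torus_mem_two S h9 (hLV (S.h_mem_LO c))).2

end coord

end Cfsg.Agent.KFacts.TwF4.Perf
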