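import Cfsg.Agent.KFacts.TwF4.CentZ

/-!
# Rotation and the parity form of the Bruhat decomposition in a group of type `²F₄`
-/

set_option autoImplicit false
set_option linter.unusedSectionVars false

namespace Cfsg.Agent.KFacts.TwF4

open Cfsg.Agent.SplitTwo Cfsg.Agent.SplitTwo.ZS Cfsg.Agent.TitsThree.RankTwoZ Cfsg.Agent.TitsThree.RankTwoRGD
open Cfsg.Agent.SplitTwo.RootSysZ
open scoped commutatorElement

universe u

variable {F : Type*} [Field F] {σ : F →+* F} {G : Type u} [Group G] (S : Full σ G)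

namespace Full

/-! ### rotation -/

theorem rotn_o (n : ℕ) : ∀ (a : ZMod 8) (t : F), S.rot ^ n * S.o a t * (S.rot ^ n)⁻¹ = S.o (a + n) t := by
  induction n with
  | zero => intro a t; simp
  | succ n ih =>
    intro a t
    have e : S.rot ^ (n + 1) * S.o a t * (S.rot ^ (n + 1))⁻¹ =
        S.rot * (S.rot ^ n * S.o a t * (S.rot ^ n)⁻¹) * S.rot⁻¹ := by rw [pow_succ']; group
    rw [e, ih, S.rot_o, Nat.cast_succ, add_assoc]

theorem rotn_e (n : ℕ) : ∀ (a : ZMod 8) (p u : F), S.rot ^ n * S.e a p u * (S.rot ^ n)⁻¹ = S.e (a + n) p u := by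
  induction n with
  | zero => intro a p u; simp
  | succ n ih =>
    intro a p u
    have e : S.rot ^ (n + 1) * S.e a p u * (S.rot ^ (n + 1))⁻¹ =
        S.rot * (S.rot ^ n * S.e a p u * (S.rot ^ n)⁻¹) * S.rot⁻¹ := by rw [pow_succ']; group
    rw [e, ih, S.rot_e, Nat.cast_succ, add_assoc]

/-- the rotation by `2 k` -/
theorem rotk_o (k : ℤ) (a : ZMod 8) (t : F) : S.rot ^ k * S.o a t * (S.rot ^ k)⁻¹ = S.o (a + k) t := by
  obtain ⟨n, rfl | rfl⟩ := Int.eq_nat_or_neg k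
  · rw [zpow_natCast, S.rotn_o, Int.cast_natCast]
  · have h := S.rotn_o n (a + ((-(n : ℤ) : ℤ) : ZMod 8)) t
    have e : a + ((-(n : ℤ) : ℤ) : ZMod 8) + n = a := by push_cast; ring
    rw [e] at h
    rw [zpow_neg, zpow_natCast, ← h]; group

theorem rotk_e (k : ℤ) (a : ZMod 8) (p u : F) : S.rot ^ k * S.e a p u * (S.rot ^ k)⁻¹ = S.e (a + k) p u := by
  obtain ⟨n, rfl | rfl⟩ := Int.eq_nat_or_neg k
  · rw [zpow_natCast, S.rotn_e, Int.cast_natCast]
  · have h := S.rotn_e n (a + ((-(n : ℤ) : ℤ) : ZMod 8)) p u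
    have e : a + ((-(n : ℤ) : ℤ) : ZMod 8) + n = a := by push_cast; ring
    rw [e] at h
    rw [zpow_neg, zpow_natCast, ← h]; group

theorem rotk_X' (k j : ℤ) {x : G} (hx : x ∈ S.XZ j) : S.rot ^ k * x * (S.rot ^ k)⁻¹ ∈ S.XZ (j + 2 * k) := by
  obtain ⟨a, h | h⟩ := Int.even_or_odd' j
  · rw [h] at hx
    obtain ⟨p, u, rfl⟩ := (S.mem_XZ_even a x).1 hx
    rw [S.rotk_e, h, show 2 * a + 2 * k = 2 * (a + k) by ring]
    have := S.e_mem (a + k) p u
    push_cast at this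
    exact this
  · rw [h] at hx
    obtain ⟨t, rfl⟩ := (S.mem_XZ_odd a x).1 hx
    rw [S.rotk_o, h, show 2 * a + 1 + 2 * k = 2 * (a + k) + 1 by ring]
    have := S.o_mem (a + k) t
    push_cast at this
    exact this

theorem rotk_X (k j : ℤ) {x : G} : S.rot ^ k * x * (S.rot ^ k)⁻¹ ∈ S.XZ (j + 2 * k) ↔ x ∈ S.XZ j := by
  refine ⟨fun h => ?_, fun h => S.rotk_X' k j h⟩
  have h1 := S.rotk_X' (-k) _ h
  have e : S.rot ^ (-k) * (S.rot ^ k * x * (S.rot ^ k)⁻¹) * (S.rot ^ (-k))⁻¹ = x := by group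
  rwa [e, show j + 2 * k + 2 * -k = j by ring] at h1

/-- conjugation by `rot ^ k` -/
def ck (k : ℤ) : G ≃* G := MulAut.conj (S.rot ^ k)

theorem ck_apply (k : ℤ) (x : G) : S.ck k x = S.rot ^ k * x * (S.rot ^ k)⁻¹ := rfl

theorem ck_o (k : ℤ) (a : ZMod 8) (t : F) : S.ck k (S.o a t) = S.o (a + k) t := S.rotk_o k a t
theorem ck_e (k : ℤ) (a : ZMod 8) (p u : F) : S.ck k (S.e a p u) = S.e (a + k) p u := S.rotk_e k a p u

theorem map_X (k j : ℤ) : (S.XZ j).map (S.ck k).toMonoidHom = S.XZ (j + 2 * k) := by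
  ext x
  constructor
  · rintro ⟨y, hy, rfl⟩
    exact S.rotk_X' k j hy
  · intro hx
    refine ⟨(S.ck k).symm x, ?_, (S.ck k).apply_symm_apply x⟩
    show (S.ck k).symm x ∈ S.XZ j
    rw [← S.rotk_X k j]
    have : S.rot ^ k * (S.ck k).symm x * (S.rot ^ k)⁻¹ = x := (S.ck k).apply_symm_apply x
    rw [this]; exact hx

theorem map_J (k a b : ℤ) : (J S.XZ a b).map (S.ck k).toMonoidHom = J S.XZ (a + 2 * k) (b + 2 * k) := by
  apply le_antisymm
  · rw [Subgroup.map_le_iff_le_comap]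
    refine J_le fun j h1 h2 x hx => ?_
    exact mem_J (S.rotk_X' k j hx) (by omega) (by omega)
  · refine J_le fun j h1 h2 => ?_
    have h := S.map_X k (j - 2 * k)
    rw [show j - 2 * k + 2 * k = j by ring] at h
    rw [← h]
    exact Subgroup.map_mono (X_le_J (by omega) (by omega))

theorem map_Zc (k : ℤ) (a : ZMod 8) : (S.Zc a).map (S.ck k).toMonoidHom = S.Zc (a + k) := by
  ext x
  constructor
  · rintro ⟨_, ⟨u, rfl⟩, rfl⟩
    exact ⟨u, (S.ck_e k a 0 u).symm⟩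
  · rintro ⟨u, rfl⟩
    exact ⟨S.e a 0 u, ⟨u, rfl⟩, S.ck_e k a 0 u⟩

theorem map_centralizer (k : ℤ) (A : Set G) :
    (Subgroup.centralizer A).map (S.ck k).toMonoidHom = Subgroup.centralizer (S.ck k '' A) := by
  ext x
  constructor
  · rintro ⟨y, hy, rfl⟩
    rw [SetLike.mem_coe, Subgroup.mem_centralizer_iff] at hy
    rw [Subgroup.mem_centralizer_iff]
    rintro _ ⟨z, hz, rfl⟩
    have := congrArg (S.ck k) (hy z hz)
    rw [map_mul, map_mul] at this
    exact this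
  · intro hx
    rw [Subgroup.mem_centralizer_iff] at hx
    refine ⟨(S.ck k).symm x, ?_, (S.ck k).apply_symm_apply x⟩
    rw [SetLike.mem_coe, Subgroup.mem_centralizer_iff]
    intro z hz
    have := congrArg (S.ck k).symm (hx _ ⟨z, hz, rfl⟩)
    rwa [map_mul, map_mul, MulEquiv.symm_apply_apply] at this

theorem map_centralizer_sub (k : ℤ) (A : Subgroup G) : (Subgroup.centralizer (A : Set G)).map (S.ck k).toMonoidHom =
    Subgroup.centralizer ((A.map (S.ck k).toMonoidHom : Subgroup G) : Set G) := by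
  rw [S.map_centralizer, Subgroup.coe_map]; rfl

theorem map_centralizer_singleton (k : ℤ) (x : G) : (Subgroup.centralizer {x}).map (S.ck k).toMonoidHom =
    Subgroup.centralizer {S.ck k x} := by
  rw [S.map_centralizer, Set.image_singleton]

/-- the centraliser of a non-trivial element of `Z_{2a}`, all `a` -/
theorem centralizer_Zc [Finite F] (a : ℤ) {z : G} (hz : z ∈ S.Zc (a : ZMod 8)) (hz1 : z ≠ 1) :
    Subgroup.centralizer {z} = J S.XZ (2 * a - 4) (2 * a + 4) := by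
  obtain ⟨u, rfl⟩ := hz
  have hu : S.e 2 0 u ≠ 1 := by
    intro h
    have hu0 := (S.e_eq_one h).2
    rw [hu0] at hz1
    exact hz1 (S.e_zero _)
  have h1 := S.centralizer_z ⟨u, rfl⟩ hu
  have h2 := S.map_centralizer_singleton (a - 2) (S.e 2 0 u)
  rw [h1, S.ck_e] at h2
  have e : (2 : ZMod 8) + ((a - 2 : ℤ) : ZMod 8) = a := by push_cast; ring
  rw [e] at h2
  rw [← h2]
  show (J S.XZ 0 8).map _ = _
  rw [S.map_J]
  congr 1
  · ring
  · ring

/-- the centraliser of `⟨X_{2a-3}, …, X_{2a+3}⟩`, all `a` -/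
theorem centralizer_J (a : ℤ) : Subgroup.centralizer (J S.XZ (2 * a - 3) (2 * a + 3) : Set G) = S.Zc (a : ZMod 8) := by
  have h2 := S.map_centralizer_sub (a - 2) S.Q
  have e : (2 : ZMod 8) + ((a - 2 : ℤ) : ZMod 8) = a := by push_cast; ring
  have e2 : S.Q.map (S.ck (a - 2)).toMonoidHom = J S.XZ (2 * a - 3) (2 * a + 3) := by
    have := S.map_J (a - 2) 1 7
    rw [show 1 + 2 * (a - 2) = 2 * a - 3 by ring, show 7 + 2 * (a - 2) = 2 * a + 3 by ring] at this
    exact this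
  rw [S.centralizer_Q, S.map_Zc, e, e2] at h2
  exact h2.symm

/-! ### the Bruhat decomposition with parity -/

/-- `w` acts on the root groups as an element of the dihedral group of order 16 -/
def IsDihE (w : G) : Prop :=
  ∃ c : ℤ, Maps S.R.X w (fun k => ((2 * c : ℤ) : ZMod (2 * 8)) + k) ∨ Maps S.R.X w (fun k => ((2 * c : ℤ) : ZMod (2 * 8)) - k)

theorem bruhatE (g : G) : ∃ b ∈ J S.XZ 1 8, ∃ t ∈ S.T, ∃ w, S.IsDihE w ∧ ∃ b' ∈ J S.XZ 1 8, g = b * t * w * b' := by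
  have hg : g ∈ (rgdz S.R).core.G := by rw [core_G_eq_top]; exact Subgroup.mem_top _
  obtain ⟨b, hb, w, hw, b', hb', e⟩ := (rgdz S.R).core.bruhat (by norm_num) hg
  obtain ⟨u, hu, t, ht, rfl⟩ := (rgdz S.R).core.mem_D.1 hb
  obtain ⟨u', hu', t', ht', rfl⟩ := (rgdz S.R).core.mem_D.1 hb'
  have hu1 : u ∈ J S.XZ 1 8 := S.rgdz_U_le hu
  have hu1' : u' ∈ J S.XZ 1 8 := S.rgdz_U_le hu'
  have ht1 : t ∈ S.T := ht
  have ht1' : t' ∈ S.T := ht'
  refine ⟨u, hu1, t, ht1, w * t', ?_, t'⁻¹ * u' * t', ?_, ?_⟩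
  · obtain ⟨k, hk, h, hh, rfl | rfl⟩ := hw
    · have hm := ((rgdz S.R).alt_maps k).1
      have hm2 := (hm.mul hh).mul ht1'
      by_cases hk2 : Even k
      · obtain ⟨m, rfl⟩ := hk2
        refine ⟨m, Or.inl (hm2.congr fun j => ?_)⟩
        simp only [Function.comp, show Even (m + m) from ⟨m, rfl⟩, if_true, id]
        push_cast
        ring
      · obtain ⟨m, rfl⟩ := Nat.not_even_iff_odd.1 hk2
        refine ⟨5 + m, Or.inr (hm2.congr fun j => ?_)⟩
        simp only [Function.comp, hk2, if_false, id]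
        push_cast
        ring
    · have hm := ((rgdz S.R).alt_maps k).2
      have hm2 := (hm.mul hh).mul ht1'
      by_cases hk2 : Even k
      · obtain ⟨m, rfl⟩ := hk2
        refine ⟨-m, Or.inl (hm2.congr fun j => ?_)⟩
        simp only [Function.comp, show Even (m + m) from ⟨m, rfl⟩, if_true, id]
        push_cast
        ring
      · obtain ⟨m, rfl⟩ := Nat.not_even_iff_odd.1 hk2
        refine ⟨4 - m, Or.inr (hm2.congr fun j => ?_)⟩
        simp only [Function.comp, hk2, if_false, id]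
        push_cast
        ring
  · have := S.T_conj_J (inv_mem ht1') hu1'
    rwa [inv_inv] at this
  · rw [e]; group

/-- `n1` acts on the root groups as `k ↦ 10 - k` -/
theorem n1_maps : Maps S.R.X S.n1 (fun k => 10 - k) := by
  intro k x
  have h := S.n1_refl (k.val : ℤ) x
  have hk : (((k.val : ℕ) : ℤ) : ZMod (2 * 8)) = k := by rw [Int.cast_natCast]; exact ZMod.natCast_zmod_val _
  have h8 : x ∈ S.XZ (k.val : ℤ) ↔ x ∈ S.R.X k := by show x ∈ S.R.X _ ↔ _; rw [hk]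
  have h9 : S.n1 * x * S.n1⁻¹ ∈ S.XZ (10 - (k.val : ℤ)) ↔ S.n1 * x * S.n1⁻¹ ∈ S.R.X (10 - k) := by
    show _ ∈ S.R.X _ ↔ _
    rw [Int.cast_sub, hk]; rfl
  rw [h8, h9] at h
  exact h.symm

theorem T_iff {g : G} : g ∈ S.T ↔ Maps S.R.X g id := Iff.rfl

theorem rot_maps (k : ℤ) : Maps S.R.X (S.rot ^ k) (fun j => ((2 * k : ℤ) : ZMod (2 * 8)) + j) := by
  intro j x
  have h := S.rotk_X k (j.val : ℤ) (x := x)
  have hk : (((j.val : ℕ) : ℤ) : ZMod (2 * 8)) = j := by rw [Int.cast_natCast]; exact ZMod.natCast_zmod_val _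
  have h8 : x ∈ S.XZ (j.val : ℤ) ↔ x ∈ S.R.X j := by show x ∈ S.R.X _ ↔ _; rw [hk]
  have h9 : S.rot ^ k * x * (S.rot ^ k)⁻¹ ∈ S.XZ ((j.val : ℤ) + 2 * k) ↔
      S.rot ^ k * x * (S.rot ^ k)⁻¹ ∈ S.R.X (((2 * k : ℤ) : ZMod (2 * 8)) + j) := by
    show _ ∈ S.R.X _ ↔ _
    rw [Int.cast_add, hk, add_comm]
  rw [h8, h9] at h
  exact h

end Full

end Cfsg.Agent.KFacts.TwF4
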