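import Cfsg.Agent.KFacts.TwF4.SylU

/-!
# Explicit elements of the torus of `²F₄(q)` and the torus trick (helper841)

`pw σ w (i, j) = w ^ i * (σ w) ^ j`. The characters of `h (pw w x) (pw w y)` are `pw w (eE a x y)`, `pw w (eO a x y)`,
with integer exponents. `tE S w a` (`tO S w a`) lies in the torus and centralises the root groups `X_k`, `X_(k+8)`,
`k = 2 a` (`k = 2 a + 1`); it acts fixed point freely on all the others, if `w ≠ 1`.

* `fixE`, `fixO`, `freeEE`, `freeEO`, `freeOE`, `freeOO`;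
* `exists_tt` : for `k ∈ ℤ` and `w ≠ 1`, an element `h` of the torus that centralises `X_k` and fixes only `1` in all
  `X_j`, `8 ∤ j - k`; `C_(J a b)(h) = X_k` for `a ≤ k ≤ b ≤ a + 7`.
-/

set_option autoImplicit false
set_option linter.unusedSectionVars false

namespace Cfsg.Agent.KFacts.TwF4.TorEx

open Cfsg.Agent.SplitTwo Cfsg.Agent.SplitTwo.ZS Cfsg.Agent.TitsThree.RankTwoZ Cfsg.Agent.SplitTwo.RootSysZ
open Cfsg.Agent.KFacts.TwF4 Cfsg.Agent.KFacts.TwF4.Arc Cfsg.Agent.KFacts.TwF4.SylU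

universe u

variable {F : Type*} [Field F]

/-- `w ^ i * (σ w) ^ j` -/
def pw (σ : F →+* F) (w : Fˣ) (e : ℤ × ℤ) : Fˣ := w ^ e.1 * (Units.map (σ : F →* F) w) ^ e.2

/-- the exponents of `σ (pw w e)` -/
def sh (e : ℤ × ℤ) : ℤ × ℤ := (2 * e.2, e.1)

variable {σ : F →+* F} {w : Fˣ}

theorem pw_mul (e f : ℤ × ℤ) : pw σ w e * pw σ w f = pw σ w (e + f) := by
  unfold pw
  rw [Prod.fst_add, Prod.snd_add, zpow_add, zpow_add, mul_mul_mul_comm]

theorem pw_inv (e : ℤ × ℤ) : (pw σ w e)⁻¹ = pw σ w (-e) := by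
  unfold pw
  rw [Prod.fst_neg, Prod.snd_neg, zpow_neg, zpow_neg, mul_inv]

theorem pw_div (e f : ℤ × ℤ) : pw σ w e / pw σ w f = pw σ w (e - f) := by
  rw [div_eq_mul_inv, pw_inv, pw_mul, sub_eq_add_neg]

theorem pw_zero : pw σ w 0 = 1 := by
  unfold pw
  rw [Prod.fst_zero, Prod.snd_zero, zpow_zero, zpow_zero, mul_one]

theorem map_pw (hσ : ∀ x, σ (σ x) = x ^ 2) (e : ℤ × ℤ) : Units.map (σ : F →* F) (pw σ w e) = pw σ w (sh e) := by
  unfold pw sh
  rw [map_mul, map_zpow, map_zpow, map_map σ hσ, ← zpow_natCast, ← zpow_mul, mul_comm]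
  rfl

/-- the exponents of the characters of the even root groups -/
def eE (a : ZMod 8) (x y : ℤ × ℤ) : ℤ × ℤ :=
  (![x, y, sh y - x, y - sh x, -x, -y, x - sh y, sh x - y] : Fin 8 → ℤ × ℤ) a

/-- the exponents of the characters of the odd root groups -/
def eO (a : ZMod 8) (x y : ℤ × ℤ) : ℤ × ℤ := eE a x y + eE (a + 1) x y

theorem chE_pw (hσ : ∀ x, σ (σ x) = x ^ 2) (a : ZMod 8) (x y : ℤ × ℤ) :
    chE σ a (pw σ w x) (pw σ w y) = pw σ w (eE a x y) := by
  have key : ∀ a : Fin 8, chE σ (a : ZMod 8) (pw σ w x) (pw σ w y) = pw σ w (eE (a : ZMod 8) x y) := by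
    intro a
    fin_cases a
    · rfl
    · rfl
    · show Units.map (σ : F →* F) (pw σ w y) / pw σ w x = pw σ w (sh y - x)
      rw [map_pw hσ, pw_div]
    · show pw σ w y / Units.map (σ : F →* F) (pw σ w x) = pw σ w (y - sh x)
      rw [map_pw hσ, pw_div]
    · show (pw σ w x)⁻¹ = pw σ w (-x)
      rw [pw_inv]
    · show (pw σ w y)⁻¹ = pw σ w (-y)
      rw [pw_inv]
    · show pw σ w x / Units.map (σ : F →* F) (pw σ w y) = pw σ w (x - sh y)
      rw [map_pw hσ, pw_div]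
    · show Units.map (σ : F →* F) (pw σ w x) / pw σ w y = pw σ w (sh x - y)
      rw [map_pw hσ, pw_div]
  have h := key a
  exact h

theorem chO_pw (hσ : ∀ x, σ (σ x) = x ^ 2) (a : ZMod 8) (x y : ℤ × ℤ) :
    chO σ a (pw σ w x) (pw σ w y) = pw σ w (eO a x y) := by
  unfold chO eO
  rw [chE_pw hσ, chE_pw hσ, pw_mul]

/-- the norm form -/
def nm (e : ℤ × ℤ) : ℤ := e.1 * e.1 - 2 * (e.2 * e.2)

theorem pow_nm (hσ : ∀ x, σ (σ x) = x ^ 2) {e : ℤ × ℤ} (h : pw σ w e = 1) : w ^ nm e = 1 := by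
  have h1 : pw σ w (sh e) = 1 := by rw [← map_pw hσ, h, map_one]
  have h2 : pw σ w e ^ e.1 = 1 := by rw [h, one_zpow]
  have h3 : pw σ w (sh e) ^ (-e.2) = 1 := by rw [h1, one_zpow]
  have h4 : pw σ w e ^ e.1 * pw σ w (sh e) ^ (-e.2) = w ^ nm e := by
    unfold pw sh nm
    simp only
    rw [mul_zpow, mul_zpow, ← zpow_mul, ← zpow_mul, ← zpow_mul, ← zpow_mul, mul_mul_mul_comm, ← zpow_add, ← zpow_add,
      show e.2 * e.1 + e.1 * -e.2 = 0 by ring, zpow_zero, mul_one]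
    congr 1
    ring
  rw [← h4, h2, h3, mul_one]

/-- the norm is, up to sign, a power of 2 -/
def Good (e : ℤ × ℤ) : Prop := nm e ∈ ([1, -1, 2, -2, 4, -4] : List ℤ)

instance (e : ℤ × ℤ) : Decidable (Good e) := inferInstanceAs (Decidable (_ ∈ _))

variable {G : Type u} [Group G] (S : Full σ G)

include S in
theorem eq_one_of_good {e : ℤ × ℤ} (he : Good e) (h : pw σ w e = 1) : w = 1 := by
  have h1 := pow_nm S.sq h
  have p1 : ∀ k : ℕ, w ^ ((2 : ℤ) ^ k) = 1 → w = 1 := by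
    intro k hk
    refine unit_pow S k ?_
    rw [← zpow_natCast]
    exact_mod_cast hk
  have m1 : ∀ n : ℤ, w ^ (-n) = 1 → w ^ n = 1 := fun n hn => by rwa [zpow_neg, inv_eq_one] at hn
  unfold Good at he
  simp only [List.mem_cons, List.mem_nil_iff, or_false] at he
  rcases he with he | he | he | he | he | he <;> rw [he] at h1
  · exact p1 0 (by simpa using h1)
  · exact p1 0 (by simpa using m1 _ h1)
  · exact p1 1 (by simpa using h1)
  · exact p1 1 (by simpa using m1 _ h1)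
  · exact p1 2 (by norm_num; exact h1)
  · exact p1 2 (by norm_num; exact m1 _ h1)

include S in
/-- `w ↦ pw w e` is surjective -/
theorem exists_pw [Finite F] {e : ℤ × ℤ} (he : Good e) (v : Fˣ) : ∃ w, pw σ w e = v := by
  let f : Fˣ →* Fˣ :=
    { toFun := fun w => pw σ w e
      map_one' := by
        show pw σ 1 e = 1
        unfold pw
        rw [map_one, one_zpow, one_zpow, mul_one]
      map_mul' := fun a b => by
        show pw σ (a * b) e = pw σ a e * pw σ b e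
        unfold pw
        rw [map_mul, mul_zpow, mul_zpow, mul_mul_mul_comm] }
  have hf : Function.Injective f := (injective_iff_map_eq_one f).2 fun χ h => eq_one_of_good S he h
  exact Finite.surjective_of_injective hf v

/-! ### the directions -/

/-- the exponents for the element of the torus that centralises `X_(2a)` -/
def pE (a : ZMod 8) : (ℤ × ℤ) × (ℤ × ℤ) :=
  (![((0, 0), (1, 0)), ((1, 0), (0, 0)), ((0, 1), (1, 0)), ((1, 0), (0, 1)),
    ((0, 0), (1, 0)), ((1, 0), (0, 0)), ((0, 1), (1, 0)), ((1, 0), (0, 1))] : Fin 8 → (ℤ × ℤ) × (ℤ × ℤ)) a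

/-- the exponents for the element of the torus that centralises `X_(2a+1)` -/
def pO (a : ZMod 8) : (ℤ × ℤ) × (ℤ × ℤ) :=
  (![((1, 0), (-1, 0)), ((1, 1), (1, 0)), ((1, 0), (1, 0)), ((1, 0), (1, 1)),
    ((1, 0), (-1, 0)), ((1, 1), (1, 0)), ((1, 0), (1, 0)), ((1, 0), (1, 1))] : Fin 8 → (ℤ × ℤ) × (ℤ × ℤ)) a

theorem pE_EE : ∀ a b : ZMod 8, if b = a ∨ b = a + 4 then eE b (pE a).1 (pE a).2 = 0 else Good (eE b (pE a).1 (pE a).2) := by
  decide +kernel

theorem pE_EO : ∀ a b : ZMod 8, Good (eO b (pE a).1 (pE a).2) := by decide +kernel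

theorem pO_OE : ∀ a b : ZMod 8, Good (eE b (pO a).1 (pO a).2) := by decide +kernel

theorem pO_OO : ∀ a b : ZMod 8, if b = a ∨ b = a + 4 then eO b (pO a).1 (pO a).2 = 0 else Good (eO b (pO a).1 (pO a).2) := by
  decide +kernel

/-- an element of the torus that centralises `X_(2a)`, `X_(2a+8)` -/
def tE (w : Fˣ) (a : ZMod 8) : G := S.h (pw σ w (pE a).1) (pw σ w (pE a).2)

/-- an element of the torus that centralises `X_(2a+1)`, `X_(2a+9)` -/
def tO (w : Fˣ) (a : ZMod 8) : G := S.h (pw σ w (pO a).1) (pw σ w (pO a).2)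

theorem tE_mem (w : Fˣ) (a : ZMod 8) : tE S w a ∈ S.T := S.mem_T.2 ⟨_, _, rfl⟩
theorem tO_mem (w : Fˣ) (a : ZMod 8) : tO S w a ∈ S.T := S.mem_T.2 ⟨_, _, rfl⟩

/-- the action of `tE` -/
theorem tE_e (w : Fˣ) (a b : ZMod 8) (p u : F) : tE S w a * S.e b p u * (tE S w a)⁻¹ =
    S.e b ((pw σ w (eE b (pE a).1 (pE a).2) : F) * p)
      ((pw σ w (eE b (pE a).1 (pE a).2) : F) * σ (pw σ w (eE b (pE a).1 (pE a).2) : F) * u) := by
  unfold tE
  rw [S.h_e, chE_pw S.sq]

theorem tE_o (w : Fˣ) (a b : ZMod 8) (t : F) : tE S w a * S.o b t * (tE S w a)⁻¹ =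
    S.o b ((pw σ w (eO b (pE a).1 (pE a).2) : F) * t) := by
  unfold tE
  rw [S.h_o, chO_pw S.sq]

theorem tO_e (w : Fˣ) (a b : ZMod 8) (p u : F) : tO S w a * S.e b p u * (tO S w a)⁻¹ =
    S.e b ((pw σ w (eE b (pO a).1 (pO a).2) : F) * p)
      ((pw σ w (eE b (pO a).1 (pO a).2) : F) * σ (pw σ w (eE b (pO a).1 (pO a).2) : F) * u) := by
  unfold tO
  rw [S.h_e, chE_pw S.sq]

theorem tO_o (w : Fˣ) (a b : ZMod 8) (t : F) : tO S w a * S.o b t * (tO S w a)⁻¹ =
    S.o b ((pw σ w (eO b (pO a).1 (pO a).2) : F) * t) := by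
  unfold tO
  rw [S.h_o, chO_pw S.sq]

theorem fixE (w : Fˣ) {a b : ZMod 8} (h : b = a ∨ b = a + 4) (p u : F) :
    tE S w a * S.e b p u * (tE S w a)⁻¹ = S.e b p u := by
  have h1 := pE_EE a b
  rw [if_pos h] at h1
  rw [tE_e, h1, pw_zero, Units.val_one, map_one, one_mul, one_mul, one_mul]

theorem fixO (w : Fˣ) {a b : ZMod 8} (h : b = a ∨ b = a + 4) (t : F) :
    tO S w a * S.o b t * (tO S w a)⁻¹ = S.o b t := by
  have h1 := pO_OO a b
  rw [if_pos h] at h1
  rw [tO_o, h1, pw_zero, Units.val_one, one_mul]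

include S in
theorem ne_one_of_good (hw : w ≠ 1) {e : ℤ × ℤ} (he : Good e) : pw σ w e ≠ 1 := fun h => hw (eq_one_of_good S he h)

theorem freeEE (hw : w ≠ 1) {a b : ZMod 8} (h : ¬ (b = a ∨ b = a + 4)) {p u : F}
    (hf : tE S w a * S.e b p u * (tE S w a)⁻¹ = S.e b p u) : p = 0 ∧ u = 0 := by
  have h1 := pE_EE a b
  rw [if_neg h] at h1
  exact fix_e S (by rw [chE_pw S.sq]; exact ne_one_of_good S hw h1) hf

theorem freeEO (hw : w ≠ 1) {a b : ZMod 8} {t : F}
    (hf : tE S w a * S.o b t * (tE S w a)⁻¹ = S.o b t) : t = 0 :=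
  fix_o S (by rw [chO_pw S.sq]; exact ne_one_of_good S hw (pE_EO a b)) hf

theorem freeOE (hw : w ≠ 1) {a b : ZMod 8} {p u : F}
    (hf : tO S w a * S.e b p u * (tO S w a)⁻¹ = S.e b p u) : p = 0 ∧ u = 0 :=
  fix_e S (by rw [chE_pw S.sq]; exact ne_one_of_good S hw (pO_OE a b)) hf

theorem freeOO (hw : w ≠ 1) {a b : ZMod 8} (h : ¬ (b = a ∨ b = a + 4)) {t : F}
    (hf : tO S w a * S.o b t * (tO S w a)⁻¹ = S.o b t) : t = 0 := by
  have h1 := pO_OO a b
  rw [if_neg h] at h1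
  exact fix_o S (by rw [chO_pw S.sq]; exact ne_one_of_good S hw h1) hf

/-- **the torus trick**: for every direction `k` an element of the torus that centralises `X_k` and `X_(k+8)` and acts
fixed point freely on all the other root groups. -/
theorem exists_tt (hw : w ≠ 1) (k : ℤ) : ∃ h ∈ S.T, (∀ j, (8 : ℤ) ∣ j - k → ∀ x ∈ S.XZ j, h * x * h⁻¹ = x) ∧
    ∀ j, ¬ (8 : ℤ) ∣ j - k → ∀ x ∈ S.XZ j, h * x * h⁻¹ = x → x = 1 := by
  have cast8 : ∀ n : ℤ, ((n : ZMod 8) = 0 ∨ (n : ZMod 8) = 4) ↔ (8 : ℤ) ∣ 2 * n := by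
    intro n
    constructor
    · rintro (h | h)
      · have := (ZMod.intCast_zmod_eq_zero_iff_dvd n 8).1 h
        exact Dvd.dvd.mul_left (by exact_mod_cast this) 2
      · have h1 : ((n - 4 : ℤ) : ZMod 8) = 0 := by push_cast; rw [h]; decide
        have := (ZMod.intCast_zmod_eq_zero_iff_dvd _ 8).1 h1
        omega
    · intro h
      obtain ⟨c, hc⟩ := h
      have hn : n = 4 * c := by omega
      obtain ⟨d, rfl | rfl⟩ := Int.even_or_odd' c
      · left
        rw [ZMod.intCast_zmod_eq_zero_iff_dvd]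
        exact ⟨d, by rw [hn]; push_cast; ring⟩
      · right
        have h1 : ((n - 4 : ℤ) : ZMod 8) = 0 := by
          rw [ZMod.intCast_zmod_eq_zero_iff_dvd]
          exact ⟨d, by rw [hn]; push_cast; ring⟩
        push_cast at h1
        exact sub_eq_zero.1 h1
  have conv : ∀ a b : ℤ, ((b : ZMod 8) = a ∨ (b : ZMod 8) = a + 4) ↔ (8 : ℤ) ∣ 2 * (b - a) := by
    intro a b
    rw [← cast8]
    push_cast
    constructor
    · rintro (h | h)
      · left; rw [h, sub_self]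
      · right; rw [h, add_sub_cancel_left]
    · rintro (h | h)
      · left; exact sub_eq_zero.1 h
      · right; rw [← h, add_sub_cancel]
  obtain ⟨a, rfl | rfl⟩ := Int.even_or_odd' k
  · refine ⟨tE S w a, tE_mem S w a, ?_, ?_⟩
    · intro j hj x hx
      obtain ⟨b, rfl | rfl⟩ := Int.even_or_odd' j
      · obtain ⟨p, u, rfl⟩ := (S.mem_XZ_even b x).1 hx
        exact fixE S w ((conv a b).2 (by rwa [mul_sub])) p u
      · omega
    · intro j hj x hx hf
      obtain ⟨b, rfl | rfl⟩ := Int.even_or_odd' j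
      · obtain ⟨p, u, rfl⟩ := (S.mem_XZ_even b x).1 hx
        obtain ⟨rfl, rfl⟩ := freeEE S hw (fun h => hj (by have := (conv a b).1 h; rwa [mul_sub] at this)) hf
        exact S.e_zero _
      · obtain ⟨t, rfl⟩ := (S.mem_XZ_odd b x).1 hx
        rw [freeEO S hw hf]
        exact S.o_zero _
  · refine ⟨tO S w a, tO_mem S w a, ?_, ?_⟩
    · intro j hj x hx
      obtain ⟨b, rfl | rfl⟩ := Int.even_or_odd' j
      · omega
      · obtain ⟨t, rfl⟩ := (S.mem_XZ_odd b x).1 hx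
        exact fixO S w ((conv a b).2 (by
          have e : 2 * (b - a) = 2 * b + 1 - (2 * a + 1) := by ring
          rwa [e])) t
    · intro j hj x hx hf
      obtain ⟨b, rfl | rfl⟩ := Int.even_or_odd' j
      · obtain ⟨p, u, rfl⟩ := (S.mem_XZ_even b x).1 hx
        obtain ⟨rfl, rfl⟩ := freeOE S hw hf
        exact S.e_zero _
      · obtain ⟨t, rfl⟩ := (S.mem_XZ_odd b x).1 hx
        rw [freeOO S hw (fun h => hj (by
          have := (conv a b).1 h
          have e : 2 * (b - a) = 2 * b + 1 - (2 * a + 1) := by ring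
          rwa [e] at this)) hf]
        exact S.o_zero _

/-- `C_(J a b)(h) = X_k` -/
theorem mem_X_of_tt {k : ℤ} {h : G} (hT : h ∈ S.T)
    (hfree : ∀ j, ¬ (8 : ℤ) ∣ j - k → ∀ x ∈ S.XZ j, h * x * h⁻¹ = x → x = 1) {a b : ℤ} (ha : a ≤ k) (hb : k ≤ b)
    (hab : b < a + 8) {y : G} (hy : y ∈ J S.XZ a b) (hyf : h * y * h⁻¹ = y) : y ∈ S.XZ k :=
  Arc.fix_X S.zsys8 hab (fun j x hx => S.T_conj hT j hx) (fun j h1 h2 h3 => hfree j (by omega)) hy hyf

end Cfsg.Agent.KFacts.TwF4.TorEx
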