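import Cfsg.Agent.KFacts.TwF4.CentR

/-!
# Fixed points of torus elements in a group of type `²F₄`

`Tk k = C_T(X_k)`.

* `fpf`: `1 ≠ t ∈ T_k` acts fixed point freely on `X_j`, `j ≢ k` modulo 8;
* `fix_J`: `C(t) ∩ J a b ≤ X_k`;
* `T_inf_U`, `X0_inf_B`, `form_unique`: uniqueness in the Bruhat decomposition of `PL T`;
* `centralizer_Tk`: `C(Z_4) ∩ C(t) = X_4 T_4`, `1 ≠ t ∈ T_4`.
-/

set_option autoImplicit false
set_option linter.unusedSectionVars false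

namespace Cfsg.Agent.KFacts.TwF4

open Cfsg.Agent.SplitTwo Cfsg.Agent.SplitTwo.ZS Cfsg.Agent.TitsThree.RankTwoZ Cfsg.Agent.TitsThree.RankTwoRGD
open Cfsg.Agent.SplitTwo.RootSysZ
open scoped commutatorElement

universe u

variable {F : Type*} [Field F] {σ : F →+* F} {G : Type u} [Group G] (S : Full σ G)

namespace Full

theorem T_comm {s t : G} (hs : s ∈ S.T) (ht : t ∈ S.T) : s * t = t * s := by
  obtain ⟨c, d, rfl⟩ := S.mem_T.1 hs
  obtain ⟨c', d', rfl⟩ := S.mem_T.1 ht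
  rw [S.h_mul, S.h_mul, mul_comm c, mul_comm d]

/-- a torus element with non-trivial character is fixed point free on an even root group -/
theorem fpf_even {a : ZMod 8} {c d : Fˣ} (hch : chE σ a c d ≠ 1) {x : G} (hx : ∃ p u, S.e a p u = x)
    (h : S.h c d * x * (S.h c d)⁻¹ = x) : x = 1 := by
  obtain ⟨p, u, rfl⟩ := hx
  rw [S.h_e] at h
  obtain ⟨h1, h2⟩ := S.injE a _ _ _ _ h
  have hp : p = 0 := by
    by_contra hp
    apply hch
    apply Units.ext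
    exact mul_right_cancel₀ hp (h1.trans (one_mul p).symm)
  have hu : u = 0 := by
    by_contra hu
    apply hch
    apply S.unit_eq_one
    apply Units.ext
    exact mul_right_cancel₀ hu (h2.trans (one_mul u).symm)
  rw [hp, hu, S.e_zero]

theorem fpf_odd {a : ZMod 8} {c d : Fˣ} (hch : chO σ a c d ≠ 1) {x : G} (hx : ∃ t, S.o a t = x)
    (h : S.h c d * x * (S.h c d)⁻¹ = x) : x = 1 := by
  obtain ⟨t, rfl⟩ := hx
  rw [S.h_o] at h
  have h1 := S.injO a h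
  have ht : t = 0 := by
    by_contra ht
    apply hch
    apply Units.ext
    exact mul_right_cancel₀ ht (h1.trans (one_mul t).symm)
  rw [ht, S.o_zero]

/-- `T_k = C_T(X_k)` -/
def Tk (k : ℤ) : Subgroup G := S.T ⊓ Subgroup.centralizer (S.XZ k : Set G)

theorem Tk_le (k : ℤ) : S.Tk k ≤ S.T := inf_le_left

theorem Tk_comm {k : ℤ} {t x : G} (ht : t ∈ S.Tk k) (hx : x ∈ S.XZ k) : t * x = x * t :=
  (Subgroup.mem_centralizer_iff.1 ht.2 x hx).symm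

theorem ck_T (m : ℤ) {t : G} (ht : t ∈ S.T) : S.ck m t ∈ S.T := by
  have h1 := ((S.rot_maps m).mul ht).mul (S.rot_maps (-m))
  have e : S.rot ^ m * t * S.rot ^ (-m) = S.ck m t := by rw [S.ck_apply, zpow_neg]
  rw [e] at h1
  show Maps S.R.X (S.ck m t) id
  exact h1.congr fun k => by
    show ((2 * m : ℤ) : ZMod (2 * 8)) + (((2 * (-m) : ℤ) : ZMod (2 * 8)) + k) = k
    push_cast
    ring

theorem ck_Tk (m : ℤ) {k : ℤ} {t : G} (ht : t ∈ S.Tk k) : S.ck m t ∈ S.Tk (k + 2 * m) := by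
  refine ⟨S.ck_T m ht.1, Subgroup.mem_centralizer_iff.2 fun x hx => ?_⟩
  have h1 := S.rotk_X' (-m) _ hx
  rw [show k + 2 * m + 2 * -m = k by ring] at h1
  have h2 := S.Tk_comm ht h1
  have h3 := congrArg (S.ck m) h2
  have e : S.ck m (S.rot ^ (-m) * x * (S.rot ^ (-m))⁻¹) = x := by rw [S.ck_apply]; group
  rw [map_mul (S.ck m) t, map_mul (S.ck m) _ t, e] at h3
  exact h3.symm

theorem mem_Tk_zero {t : G} : t ∈ S.Tk 0 ↔ ∃ d, S.h 1 d = t := by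
  constructor
  · rintro ⟨h1, h2⟩
    obtain ⟨c, d, rfl⟩ := S.mem_T.1 h1
    refine ⟨d, ?_⟩
    have m0 : S.e 0 1 0 ∈ S.XZ 0 := by have := S.e_mem 0 1 0; push_cast at this; exact this
    have h3 := Subgroup.mem_centralizer_iff.1 h2 _ m0
    have h4 := S.h_e c d 0 1 0
    rw [← h3, mul_inv_cancel_right] at h4
    have h5 := (S.injE 0 _ _ _ _ h4).1
    rw [mul_one, chE_zero] at h5
    have h6 : c = 1 := Units.ext (by rw [Units.val_one]; exact h5.symm)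
    rw [h6]
  · rintro ⟨d, rfl⟩
    refine ⟨S.mem_T.2 ⟨1, d, rfl⟩, Subgroup.mem_centralizer_iff.2 fun x hx => ?_⟩
    obtain ⟨p, u, rfl⟩ := (S.mem_XZ_even 0 x).1 hx
    have h4 := S.h_e 1 d (0 : ℤ) p u
    have e1 : chE σ ((0 : ℤ) : ZMod 8) 1 d = 1 := by rw [Int.cast_zero, chE_zero]
    rw [e1, Units.val_one, one_mul, map_one, one_mul, one_mul, mul_inv_eq_iff_eq_mul] at h4
    exact h4.symm

theorem mem_Tk_one {t : G} : t ∈ S.Tk 1 ↔ ∃ c, S.h c c⁻¹ = t := by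
  constructor
  · rintro ⟨h1, h2⟩
    obtain ⟨c, d, rfl⟩ := S.mem_T.1 h1
    refine ⟨c, ?_⟩
    have h3 := Subgroup.mem_centralizer_iff.1 h2 _ (S.mX1 1)
    have h4 := S.h_o c d 0 1
    rw [← h3, mul_inv_cancel_right] at h4
    have h5 := S.injO 0 h4
    have h6 : c * d = 1 := Units.ext (by
      rw [mul_one] at h5
      exact h5.symm)
    rw [inv_eq_of_mul_eq_one_right h6]
  · rintro ⟨c, rfl⟩
    refine ⟨S.mem_T.2 ⟨c, c⁻¹, rfl⟩, Subgroup.mem_centralizer_iff.2 fun x hx => ?_⟩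
    obtain ⟨s, rfl⟩ := S.X1 hx
    have h4 := S.h_o c c⁻¹ 0 s
    have e1 : chO σ 0 c c⁻¹ = 1 := by
      show c * c⁻¹ = 1
      exact mul_inv_cancel c
    rw [e1, Units.val_one, one_mul, mul_inv_eq_iff_eq_mul] at h4
    exact h4.symm

include S in
theorem map_eq_one {c : Fˣ} (h : Units.map (σ : F →* F) c = 1) : c = 1 := by
  apply Units.ext
  apply σ.injective
  rw [Units.val_one, map_one]
  exact congrArg Units.val h

include S in
theorem unit_eq_one' {c : Fˣ} (h : c * (c * Units.map (σ : F →* F) c) = 1) : c = 1 := by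
  apply S.unit_eq_one
  apply S.map_eq_one
  rw [map_mul, map_map σ S.sq, mul_comm, pow_two, mul_assoc]
  exact h

include S in
theorem sq_eq_one {c : Fˣ} (h : c * c = 1) : c = 1 := by
  have := map_map σ S.sq c
  rw [pow_two, h] at this
  exact S.map_eq_one (S.map_eq_one this)

include S in
/-- the characters of `T_0` -/
theorem ch_zero {d : Fˣ} (hd : d ≠ 1) : (∀ a : ZMod 8, a ≠ 0 → a ≠ 4 → chE σ a 1 d ≠ 1) ∧ ∀ a : ZMod 8, chO σ a 1 d ≠ 1 := by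
  have hσ : Units.map (σ : F →* F) d ≠ 1 := fun h => hd (S.map_eq_one h)
  have hdσ : d * Units.map (σ : F →* F) d ≠ 1 := fun h => hd (S.unit_eq_one h)
  have hi : d⁻¹ ≠ 1 := fun h => hd (inv_eq_one.1 h)
  have v0 : chE σ 0 1 d = 1 := rfl
  have v1 : chE σ 1 1 d = d := rfl
  have v2 : chE σ 2 1 d = Units.map (σ : F →* F) d := by rw [chE_two, div_one]
  have v3 : chE σ 3 1 d = d := by rw [chE_three, map_one, div_one]
  have v4 : chE σ 4 1 d = 1 := by rw [chE_four, inv_one]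
  have v5 : chE σ 5 1 d = d⁻¹ := rfl
  have v6 : chE σ 6 1 d = (Units.map (σ : F →* F) d)⁻¹ := by rw [chE_six, one_div]
  have v7 : chE σ 7 1 d = d⁻¹ := by rw [chE_seven, map_one, one_div]
  have key : ∀ a : ZMod 8, a = 0 ∨ a = 1 ∨ a = 2 ∨ a = 3 ∨ a = 4 ∨ a = 5 ∨ a = 6 ∨ a = 7 := by decide
  constructor
  · intro a h0 h4
    rcases key a with rfl | rfl | rfl | rfl | rfl | rfl | rfl | rfl
    · exact absurd rfl h0
    · rw [v1]; exact hd
    · rw [v2]; exact hσ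
    · rw [v3]; exact hd
    · exact absurd rfl h4
    · rw [v5]; exact hi
    · rw [v6]; exact fun h => hσ (inv_eq_one.1 h)
    · rw [v7]; exact hi
  · intro a
    rcases key a with rfl | rfl | rfl | rfl | rfl | rfl | rfl | rfl
    · show chE σ 0 1 d * chE σ 1 1 d ≠ 1
      rw [v0, v1, one_mul]; exact hd
    · show chE σ 1 1 d * chE σ 2 1 d ≠ 1
      rw [v1, v2]; exact hdσ
    · show chE σ 2 1 d * chE σ 3 1 d ≠ 1
      rw [v2, v3, mul_comm]; exact hdσ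
    · show chE σ 3 1 d * chE σ 4 1 d ≠ 1
      rw [v3, v4, mul_one]; exact hd
    · show chE σ 4 1 d * chE σ 5 1 d ≠ 1
      rw [v4, v5, one_mul]; exact hi
    · show chE σ 5 1 d * chE σ 6 1 d ≠ 1
      rw [v5, v6, ← mul_inv_rev, mul_comm]; exact fun h => hdσ (inv_eq_one.1 h)
    · show chE σ 6 1 d * chE σ 7 1 d ≠ 1
      rw [v6, v7, ← mul_inv_rev]; exact fun h => hdσ (inv_eq_one.1 h)
    · show chE σ 7 1 d * chE σ 0 1 d ≠ 1
      rw [v7, v0, mul_one]; exact hi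

include S in
/-- the characters of `T_1` -/
theorem ch_one {c : Fˣ} (hc : c ≠ 1) : (∀ a : ZMod 8, chE σ a c c⁻¹ ≠ 1) ∧
    ∀ a : ZMod 8, a ≠ 0 → a ≠ 4 → chO σ a c c⁻¹ ≠ 1 := by
  have hcσ : c * Units.map (σ : F →* F) c ≠ 1 := fun h => hc (S.unit_eq_one h)
  have hccσ : c * (c * Units.map (σ : F →* F) c) ≠ 1 := fun h => hc (S.unit_eq_one' h)
  have hcσ2 : (c * Units.map (σ : F →* F) c) * (c * Units.map (σ : F →* F) c) ≠ 1 := fun h => hcσ (S.sq_eq_one h)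
  have hi : c⁻¹ ≠ 1 := fun h => hc (inv_eq_one.1 h)
  have v0 : chE σ 0 c c⁻¹ = c := rfl
  have v1 : chE σ 1 c c⁻¹ = c⁻¹ := rfl
  have v2 : chE σ 2 c c⁻¹ = (c * Units.map (σ : F →* F) c)⁻¹ := by
    rw [chE_two, map_inv, mul_inv_rev, div_eq_mul_inv]
  have v3 : chE σ 3 c c⁻¹ = (c * Units.map (σ : F →* F) c)⁻¹ := by
    rw [chE_three, mul_inv_rev, div_eq_mul_inv, mul_comm]
  have v4 : chE σ 4 c c⁻¹ = c⁻¹ := rfl
  have v5 : chE σ 5 c c⁻¹ = c := by rw [chE_five, inv_inv]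
  have v6 : chE σ 6 c c⁻¹ = c * Units.map (σ : F →* F) c := by rw [chE_six, map_inv, div_inv_eq_mul]
  have v7 : chE σ 7 c c⁻¹ = c * Units.map (σ : F →* F) c := by rw [chE_seven, div_inv_eq_mul, mul_comm]
  have key : ∀ a : ZMod 8, a = 0 ∨ a = 1 ∨ a = 2 ∨ a = 3 ∨ a = 4 ∨ a = 5 ∨ a = 6 ∨ a = 7 := by decide
  constructor
  · intro a
    rcases key a with rfl | rfl | rfl | rfl | rfl | rfl | rfl | rfl
    · rw [v0]; exact hc
    · rw [v1]; exact hi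
    · rw [v2]; exact fun h => hcσ (inv_eq_one.1 h)
    · rw [v3]; exact fun h => hcσ (inv_eq_one.1 h)
    · rw [v4]; exact hi
    · rw [v5]; exact hc
    · rw [v6]; exact hcσ
    · rw [v7]; exact hcσ
  · intro a h0 h4
    rcases key a with rfl | rfl | rfl | rfl | rfl | rfl | rfl | rfl
    · exact absurd rfl h0
    · show chE σ 1 c c⁻¹ * chE σ 2 c c⁻¹ ≠ 1
      rw [v1, v2, ← mul_inv_rev, mul_comm (c * _)]; exact fun h => hccσ (inv_eq_one.1 h)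
    · show chE σ 2 c c⁻¹ * chE σ 3 c c⁻¹ ≠ 1
      rw [v2, v3, ← mul_inv_rev]; exact fun h => hcσ2 (inv_eq_one.1 h)
    · show chE σ 3 c c⁻¹ * chE σ 4 c c⁻¹ ≠ 1
      rw [v3, v4, ← mul_inv_rev]; exact fun h => hccσ (inv_eq_one.1 h)
    · exact absurd rfl h4
    · show chE σ 5 c c⁻¹ * chE σ 6 c c⁻¹ ≠ 1
      rw [v5, v6]; exact hccσ
    · show chE σ 6 c c⁻¹ * chE σ 7 c c⁻¹ ≠ 1
      rw [v6, v7]; exact hcσ2
    · show chE σ 7 c c⁻¹ * chE σ 0 c c⁻¹ ≠ 1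
      rw [v7, v0, mul_comm]; exact hccσ

/-- **`1 ≠ t ∈ T_k` is fixed point free on `X_j`, `j ≢ k` modulo 8.** -/
theorem fpf {k j : ℤ} (hkj : ¬ (8 : ℤ) ∣ j - k) {t : G} (ht : t ∈ S.Tk k) (ht1 : t ≠ 1) {x : G} (hx : x ∈ S.XZ j)
    (h : t * x * t⁻¹ = x) : x = 1 := by
  -- reduce to `k = 0` or `k = 1`
  have h0 : ∀ j : ℤ, ¬ (8 : ℤ) ∣ j - 0 → ∀ t ∈ S.Tk 0, t ≠ 1 → ∀ x ∈ S.XZ j, t * x * t⁻¹ = x → x = 1 := by
    intro j hj t ht ht1 x hx h
    obtain ⟨d, rfl⟩ := S.mem_Tk_zero.1 ht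
    have hd : d ≠ 1 := by rintro rfl; exact ht1 S.h_one
    obtain ⟨a, ha | ha⟩ := Int.even_or_odd' j
    · rw [ha] at hx
      have hx' := (S.mem_XZ_even a x).1 hx
      refine S.fpf_even ((S.ch_zero hd).1 (a : ZMod 8) ?_ ?_) hx' h
      · intro he
        have h1 : ((a : ℤ) : ZMod 8) = ((0 : ℤ) : ZMod 8) := by rw [he]; rfl
        rw [ZMod.intCast_eq_intCast_iff_dvd_sub] at h1
        have h2 : ((8 : ℕ) : ℤ) = 8 := rfl
        rw [h2] at h1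
        omega
      · intro he
        have h1 : ((a : ℤ) : ZMod 8) = ((4 : ℤ) : ZMod 8) := he
        rw [ZMod.intCast_eq_intCast_iff_dvd_sub] at h1
        have h2 : ((8 : ℕ) : ℤ) = 8 := rfl
        rw [h2] at h1
        omega
    · rw [ha] at hx
      exact S.fpf_odd ((S.ch_zero hd).2 (a : ZMod 8)) ((S.mem_XZ_odd a x).1 hx) h
  have h1 : ∀ j : ℤ, ¬ (8 : ℤ) ∣ j - 1 → ∀ t ∈ S.Tk 1, t ≠ 1 → ∀ x ∈ S.XZ j, t * x * t⁻¹ = x → x = 1 := by
    intro j hj t ht ht1 x hx h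
    obtain ⟨c, rfl⟩ := S.mem_Tk_one.1 ht
    have hc : c ≠ 1 := by rintro rfl; exact ht1 (by rw [inv_one, S.h_one])
    obtain ⟨a, ha | ha⟩ := Int.even_or_odd' j
    · rw [ha] at hx
      exact S.fpf_even ((S.ch_one hc).1 (a : ZMod 8)) ((S.mem_XZ_even a x).1 hx) h
    · rw [ha] at hx
      refine S.fpf_odd ((S.ch_one hc).2 (a : ZMod 8) ?_ ?_) ((S.mem_XZ_odd a x).1 hx) h
      · intro he
        have h1 : ((a : ℤ) : ZMod 8) = ((0 : ℤ) : ZMod 8) := by rw [he]; rfl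
        rw [ZMod.intCast_eq_intCast_iff_dvd_sub] at h1
        have h2 : ((8 : ℕ) : ℤ) = 8 := rfl
        rw [h2] at h1
        omega
      · intro he
        have h1 : ((a : ℤ) : ZMod 8) = ((4 : ℤ) : ZMod 8) := he
        rw [ZMod.intCast_eq_intCast_iff_dvd_sub] at h1
        have h2 : ((8 : ℕ) : ℤ) = 8 := rfl
        rw [h2] at h1
        omega
  obtain ⟨m, hm | hm⟩ := Int.even_or_odd' k
  · have h2 := S.ck_Tk (-m) ht
    rw [show k + 2 * -m = 0 by omega] at h2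
    have h3 := S.rotk_X' (-m) j hx
    have h4 := h0 (j + 2 * -m) (by omega) _ h2 ((MulEquiv.map_ne_one_iff _).2 ht1) (S.ck (-m) x) h3 (by
      rw [← map_mul, ← map_inv, ← map_mul, h])
    exact (MulEquiv.map_eq_one_iff _).1 h4
  · have h2 := S.ck_Tk (-m) ht
    rw [show k + 2 * -m = 1 by omega] at h2
    have h3 := S.rotk_X' (-m) j hx
    have h4 := h1 (j + 2 * -m) (by omega) _ h2 ((MulEquiv.map_ne_one_iff _).2 ht1) (S.ck (-m) x) h3 (by
      rw [← map_mul, ← map_inv, ← map_mul, h])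
    exact (MulEquiv.map_eq_one_iff _).1 h4

/-- fixed points in a product of root groups, I -/
theorem fix_J_one {t : G} (ht : t ∈ S.T) {a b : ℤ} (hb : b < a + 8)
    (hf : ∀ j, a ≤ j → j ≤ b → ∀ x ∈ S.XZ j, t * x * t⁻¹ = x → x = 1) {x : G} (hx : x ∈ J S.XZ a b)
    (h : t * x * t⁻¹ = x) : x = 1 := by
  have Z8 := S.zsys8
  obtain ⟨n, hn⟩ : ∃ n : ℕ, b + 1 ≤ a + n := ⟨(b + 1 - a).toNat, by omega⟩
  induction n generalizing a x with
  | zero => exact eq_one_of_J hx (by push_cast at hn; omega)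
  | succ n ih =>
    rcases lt_or_ge b a with hab | hab
    · exact eq_one_of_J hx hab
    · obtain ⟨y, hy, z, hz, rfl⟩ := Z8.split_ll hab hb hx
      have h1 : y⁻¹ * (t * y * t⁻¹) = z * (t * z * t⁻¹)⁻¹ := by
        have e : t * (y * z) * t⁻¹ = (t * y * t⁻¹) * (t * z * t⁻¹) := by group
        rw [e] at h
        rw [inv_mul_eq_iff_eq_mul, ← mul_assoc, eq_mul_inv_iff_mul_eq]
        exact h
      have h2 := Z8.inter a _ (mul_mem (inv_mem hy) (S.T_conj ht a hy))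
        (J_mono (a := a + 1) (b := b) (c := a + 1) (d := a + 8 - 1) le_rfl (by omega)
          (by rw [h1]; exact mul_mem hz (inv_mem (S.T_conj_J ht hz))))
      have h3 : t * y * t⁻¹ = y := (inv_mul_eq_one.1 h2).symm
      rw [h2] at h1
      have h4 : t * z * t⁻¹ = z := (mul_inv_eq_one.1 h1.symm).symm
      rw [hf a le_rfl hab y hy h3, one_mul]
      exact ih (a := a + 1) (by omega) (fun j h5 h6 => hf j (by omega) h6) hz h4 (by push_cast at hn ⊢; omega)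

/-- fixed points in a product of root groups, II -/
theorem fix_J_of {t : G} (ht : t ∈ S.T) {a b k : ℤ} (hb : b < a + 8)
    (hf : ∀ j, a ≤ j → j ≤ b → j ≠ k → ∀ x ∈ S.XZ j, t * x * t⁻¹ = x → x = 1) {x : G} (hx : x ∈ J S.XZ a b)
    (h : t * x * t⁻¹ = x) : x ∈ S.XZ k := by
  have Z8 := S.zsys8
  obtain ⟨n, hn⟩ : ∃ n : ℕ, b + 1 ≤ a + n := ⟨(b + 1 - a).toNat, by omega⟩
  induction n generalizing a x with
  | zero => rw [eq_one_of_J hx (by push_cast at hn; omega)]; exact one_mem _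
  | succ n ih =>
    rcases lt_or_ge b a with hab | hab
    · rw [eq_one_of_J hx hab]; exact one_mem _
    · obtain ⟨y, hy, z, hz, rfl⟩ := Z8.split_ll hab hb hx
      have h1 : y⁻¹ * (t * y * t⁻¹) = z * (t * z * t⁻¹)⁻¹ := by
        have e : t * (y * z) * t⁻¹ = (t * y * t⁻¹) * (t * z * t⁻¹) := by group
        rw [e] at h
        rw [inv_mul_eq_iff_eq_mul, ← mul_assoc, eq_mul_inv_iff_mul_eq]
        exact h
      have h2 := Z8.inter a _ (mul_mem (inv_mem hy) (S.T_conj ht a hy))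
        (J_mono (a := a + 1) (b := b) (c := a + 1) (d := a + 8 - 1) le_rfl (by omega)
          (by rw [h1]; exact mul_mem hz (inv_mem (S.T_conj_J ht hz))))
      have h3 : t * y * t⁻¹ = y := (inv_mul_eq_one.1 h2).symm
      rw [h2] at h1
      have h4 : t * z * t⁻¹ = z := (mul_inv_eq_one.1 h1.symm).symm
      by_cases hak : a = k
      · have h5 := S.fix_J_one ht (a := a + 1) (b := b) (by omega) (fun j h5 h6 => hf j (by omega) h6 (by omega)) hz h4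
        rw [h5, mul_one, ← hak]; exact hy
      · rw [hf a le_rfl hab hak y hy h3, one_mul]
        exact ih (a := a + 1) (by omega) (fun j h5 h6 => hf j (by omega) h6) hz h4 (by push_cast at hn ⊢; omega)

/-- **`C(t) ∩ J a b ≤ X_k`, `1 ≠ t ∈ T_k`** -/
theorem fix_J {k : ℤ} {t : G} (ht : t ∈ S.Tk k) (ht1 : t ≠ 1) {a b : ℤ} (ha : k - 8 < a) (hbk : b < k + 8) (hb : b < a + 8)
    {x : G} (hx : x ∈ J S.XZ a b) (h : t * x * t⁻¹ = x) : x ∈ S.XZ k :=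
  S.fix_J_of ht.1 hb (fun j h1 h2 h3 y hy hty => S.fpf (k := k) (j := j) (by omega) ht ht1 hy hty) hx h

/-! ### uniqueness in the Bruhat decomposition -/

theorem T_one_of {t : G} (ht : t ∈ S.T) (h1 : t * S.o 0 1 * t⁻¹ * (S.o 0 1)⁻¹ ∈ J S.XZ 2 8)
    (h7 : t * S.o 3 1 * t⁻¹ * (S.o 3 1)⁻¹ ∈ J S.XZ 0 6) : t = 1 := by
  have Z8 := S.zsys8
  have k1 := Z8.inter 1 _ (mul_mem (S.T_conj ht 1 (S.mX1 1)) (inv_mem (S.mX1 1))) h1
  have k7 := Z8.inter' (k := 7) (mul_mem (S.T_conj ht 7 (S.mX7 1)) (inv_mem (S.mX7 1))) h7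
  rw [mul_inv_eq_one] at k1 k7
  obtain ⟨c, d, rfl⟩ := S.mem_T.1 ht
  rw [S.h_o, mul_one] at k1 k7
  have c1 : c * d = 1 := Units.ext (S.injO 0 k1)
  have c7 : d / Units.map (σ : F →* F) c * c⁻¹ = 1 := Units.ext (S.injO 3 k7)
  have hd : d = c⁻¹ := (inv_eq_of_mul_eq_one_right c1).symm
  have hc : c = 1 := by
    apply S.unit_eq_one'
    rw [hd, div_eq_mul_inv] at c7
    have : c * (c * Units.map (σ : F →* F) c) = (c⁻¹ * (Units.map (σ : F →* F) c)⁻¹ * c⁻¹)⁻¹ := by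
      rw [mul_inv_rev, mul_inv_rev, inv_inv, inv_inv, mul_comm (Units.map (σ : F →* F) c)]
    rw [this, c7, inv_one]
  rw [hc, inv_one] at hd
  rw [hc, hd, S.h_one]

/-- `X_0 ∩ U T = 1` and `U ∩ T = 1` -/
theorem J07_inf_UT {x u t : G} (hx : x ∈ S.XZ 0) (hu : u ∈ J S.XZ 1 8) (ht : t ∈ S.T) (h : x = u * t) :
    x = 1 ∧ u = 1 ∧ t = 1 := by
  have Z8 := S.zsys8
  have ht1 : t = 1 := by
    apply S.T_one_of ht
    · -- `x` commutes with `X_1`
      have h1 : x * S.o 0 1 = S.o 0 1 * x := Z8.commute_succ (k := 0) hx (by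
        rw [zero_add]; exact S.mX1 1)
      have e : t * S.o 0 1 * t⁻¹ * (S.o 0 1)⁻¹ = ⁅u⁻¹, S.o 0 1⁆ := by
        have h2 : t = u⁻¹ * x := by rw [h]; group
        rw [h2, commutatorElement_def]
        calc u⁻¹ * x * S.o 0 1 * (u⁻¹ * x)⁻¹ * (S.o 0 1)⁻¹ = u⁻¹ * (x * S.o 0 1) * x⁻¹ * u * (S.o 0 1)⁻¹ := by group
          _ = _ := by rw [h1]; group
      rw [e]
      exact J_mono le_rfl (by norm_num) (S.comm_one (inv_mem hu) (S.mX1 1))
    · have h3 : ⁅x, S.o 3 1⁆ ∈ J S.XZ 1 6 := Z8.comm 0 7 (by norm_num) (by norm_num) x hx _ (S.mX7 1)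
      have h4 := S.comm_seven hu (S.T_conj ht 7 (S.mX7 1))
      have e : t * S.o 3 1 * t⁻¹ * (S.o 3 1)⁻¹ = ⁅u, t * S.o 3 1 * t⁻¹⁆⁻¹ * ⁅x, S.o 3 1⁆ := by
        rw [commutatorElement_def, commutatorElement_def, h]; group
      rw [e]
      exact J_mono (by norm_num) le_rfl (mul_mem (inv_mem (J_mono (by norm_num) le_rfl h4)) h3)
  subst ht1
  rw [mul_one] at h
  have h1 : x * S.o 0 1 = S.o 0 1 * x := Z8.commute_succ (k := 0) hx (by
    rw [zero_add]; exact S.mX1 1)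
  have h2 : x ∈ J S.XZ 1 5 := by
    have := Z8.comm_top (k := 1) (b := 8) (r := 4) (by norm_num) (by norm_num) (S.mX1 1)
      (fun h => one_ne_zero (S.o_eq_one h)) (by rw [h]; exact hu) h1
    exact this
  have hx1 := Z8.inter 0 _ hx (J_mono (by norm_num) (by norm_num) h2)
  exact ⟨hx1, by rw [← h, hx1], rfl⟩

theorem U_inf_T {t : G} (ht : t ∈ S.T) (hu : t ∈ J S.XZ 1 8) : t = 1 := by
  have := S.J07_inf_UT (x := 1) (u := t) (t := t⁻¹) (one_mem _) hu (inv_mem ht) (by group)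
  exact this.2.1

/-- `n2` inverts `T_4` -/
theorem n2_Tk {t : G} (ht : t ∈ S.Tk 4) : S.n2 * t * S.n2⁻¹ = t⁻¹ := by
  obtain ⟨c, d, rfl⟩ := S.mem_T.1 ht.1
  have h1 := S.Tk_comm ht (S.mX4 1 0)
  have h2 := S.h_e c d 2 1 0
  rw [h1, mul_inv_cancel_right, mul_one] at h2
  have h3 : chE σ 2 c d = 1 := Units.ext (S.injE 2 _ _ _ _ h2).1.symm
  rw [chE_two, div_eq_one] at h3
  rw [S.n2_h, S.h_inv]
  congr 1
  rw [← h3, map_map σ S.sq, pow_two, div_mul_cancel_left]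

/-- elements of `PL T`, with unique form -/
theorem form_PL {g : G} (hg : g ∈ S.PL) : (∃ b ∈ J S.XZ 1 8, ∃ t ∈ S.T, g = b * t) ∨
    ∃ b ∈ J S.XZ 1 8, ∃ t ∈ S.T, ∃ x ∈ S.XZ 8, g = b * (t * S.n2) * x := by
  have Z8 := S.zsys8
  have hz : S.e 2 0 1 ∈ S.Zc 2 := ⟨1, rfl⟩
  have hz1 : S.e 2 0 1 ≠ 1 := fun h => one_ne_zero (S.e_eq_one h).2
  have h1 : g * S.e 2 0 1 * g⁻¹ ∈ S.Zc 2 := by rw [S.comm_PL hg hz, mul_inv_cancel_right]; exact hz
  obtain ⟨b, hb, t, ht, rfl | ⟨b', hb', rfl⟩⟩ := S.form_of_conj hz hz1 h1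
  · exact Or.inl ⟨b, hb, t, ht, rfl⟩
  · right
    obtain ⟨r, hr, x, hx, rfl⟩ := Z8.split_rr (a := 1) (b := 8) (by norm_num) (by norm_num) hb'
    have h2 : t * (S.n2 * r * S.n2⁻¹) * t⁻¹ ∈ J S.XZ 1 7 :=
      S.T_conj_J ht (S.n2_refl.mem_J hr (by norm_num) (by norm_num))
    exact ⟨b * (t * (S.n2 * r * S.n2⁻¹) * t⁻¹), mul_mem hb (J_mono le_rfl (by norm_num) h2), t, ht, x, hx, by group⟩

theorem form_unique {b t x b' t' x' : G} (hb : b ∈ J S.XZ 1 8) (ht : t ∈ S.T) (hx : x ∈ S.XZ 8)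
    (hb' : b' ∈ J S.XZ 1 8) (ht' : t' ∈ S.T) (hx' : x' ∈ S.XZ 8)
    (h : b * (t * S.n2) * x = b' * (t' * S.n2) * x') : b = b' ∧ t = t' ∧ x = x' := by
  have h1 : S.n2 * (x * x'⁻¹) * S.n2⁻¹ ∈ S.XZ 0 := S.n2_refl.mem' (mul_mem hx (inv_mem hx')) (by norm_num)
  have h2 : S.n2 * (x * x'⁻¹) * S.n2⁻¹ = (t⁻¹ * (b⁻¹ * b') * t⁻¹⁻¹) * (t⁻¹ * t') := by
    calc S.n2 * (x * x'⁻¹) * S.n2⁻¹ = t⁻¹ * b⁻¹ * (b * (t * S.n2) * x) * x'⁻¹ * S.n2⁻¹ := by group
      _ = _ := by rw [h]; group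
  have h3 := S.J07_inf_UT h1 (S.T_conj_J (inv_mem ht) (mul_mem (inv_mem hb) hb')) (mul_mem (inv_mem ht) ht') h2
  obtain ⟨k1, k2, k3⟩ := h3
  have k2' : b⁻¹ * b' = 1 := by
    have : b⁻¹ * b' = t * (t⁻¹ * (b⁻¹ * b') * t⁻¹⁻¹) * t⁻¹ := by group
    rw [this, k2]; group
  have k1' : x * x'⁻¹ = 1 := by
    have : x * x'⁻¹ = S.n2⁻¹ * (S.n2 * (x * x'⁻¹) * S.n2⁻¹) * S.n2 := by group
    rw [this, k1]; group
  exact ⟨inv_mul_eq_one.1 k2', inv_mul_eq_one.1 k3, mul_inv_eq_one.1 k1'⟩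

/-- **`C(Z_4) ∩ C(t) = X_4 T_4`** for `1 ≠ t ∈ T_4` -/
theorem centralizer_Tk {g : G} (hg : g ∈ S.PL) {t : G} (ht : t ∈ S.Tk 4) (ht1 : t ≠ 1) (h : g * t = t * g) :
    ∃ x ∈ S.XZ 4, ∃ s ∈ S.Tk 4, g = x * s := by
  rcases S.form_PL hg with ⟨b, hb, s, hs, rfl⟩ | ⟨b, hb, s, hs, x, hx, rfl⟩
  · have h1 : t * b * t⁻¹ = b := by
      have h2 : s * t = t * s := S.T_comm hs ht.1
      have h3 : b * t * s = t * b * s := by
        rw [mul_assoc, ← h2, ← mul_assoc, h, mul_assoc]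
      rw [← mul_right_cancel h3, mul_inv_cancel_right]
    have h4 := S.fix_J ht ht1 (a := 1) (b := 8) (by norm_num) (by norm_num) (by norm_num) hb h1
    refine ⟨b, h4, s, ⟨hs, Subgroup.mem_centralizer_iff.2 fun y hy => ?_⟩, rfl⟩
    -- `s = b⁻¹ (b s)` lies in `PL ∩ T`
    have h5 : s ∈ S.PL := by
      have : s = b⁻¹ * (b * s) := by group
      rw [this]
      exact mul_mem (inv_mem (J_mono (by norm_num) le_rfl hb)) hg
    obtain ⟨c, d, rfl⟩ := S.mem_T.1 hs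
    have h6 := S.comm_PL h5 (z := S.e 2 0 1) ⟨1, rfl⟩
    have h7 := S.h_e c d 2 0 1
    rw [h6, mul_inv_cancel_right, mul_one] at h7
    have h8 : chE σ 2 c d = 1 := S.unit_eq_one (Units.ext (S.injE 2 _ _ _ _ h7).2.symm)
    obtain ⟨p, u, rfl⟩ := S.X4 hy
    have h9 := S.h_e c d 2 p u
    rw [h8, Units.val_one, one_mul, map_one, one_mul, one_mul, mul_inv_eq_iff_eq_mul] at h9
    exact h9.symm
  · exfalso
    have h2 : S.n2 * t⁻¹ = t * S.n2 := by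
      have := S.n2_Tk (inv_mem ht)
      rw [inv_inv, mul_inv_eq_iff_eq_mul] at this
      exact this
    have h3 : t * s = s * t := S.T_comm ht.1 hs
    have h4 : b * (s * S.n2) * x = (t * b * t⁻¹) * ((s * (t * t)) * S.n2) * (t * x * t⁻¹) := by
      have h5 : b * (s * S.n2) * x = t * (b * (s * S.n2) * x) * t⁻¹ := by rw [← h]; group
      rw [h5]
      calc t * (b * (s * S.n2) * x) * t⁻¹ = (t * b * t⁻¹) * (t * s) * (S.n2 * t⁻¹) * (t * x * t⁻¹) := by group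
        _ = _ := by rw [h2, h3]; group
    obtain ⟨-, k2, -⟩ := S.form_unique hb hs hx (S.T_conj_J ht.1 hb) (mul_mem hs (mul_mem ht.1 ht.1)) (S.T_conj ht.1 8 hx) h4
    have h6 : t * t = 1 := mul_eq_left.1 k2.symm
    apply ht1
    obtain ⟨c, d, rfl⟩ := S.mem_T.1 ht.1
    rw [S.h_mul, ← S.h_one] at h6
    obtain ⟨h7, h8⟩ := S.h_inj _ _ _ _ h6
    rw [S.sq_eq_one h7, S.sq_eq_one h8, S.h_one]

end Full

end Cfsg.Agent.KFacts.TwF4
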