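import Cfsg.Agent.KFacts.TwF4.Inst

/-!
# The torus of `²F₄(q)` in the coordinates `Sys`

`hT hφ c d` (`c, d : Kˣ`) acts on the root element `e a p u` by `(p, u) ↦ (χ p, χ σ(χ) u)`, `χ = chE σ a c d`, and on
`o a t` by `chO σ a c d`.
-/

set_option autoImplicit false
set_option linter.unusedSectionVars false

namespace Cfsg.Agent.KFacts.TwF4

/-- the character on `X_{2a}` -/
def chE {F : Type*} [Field F] (σ : F →+* F) (a : ZMod 8) (c d : Fˣ) : Fˣ :=
  (![c, d, (Units.map (σ : F →* F) d) / c, d / Units.map (σ : F →* F) c, c⁻¹, d⁻¹, c / Units.map (σ : F →* F) d,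
    (Units.map (σ : F →* F) c) / d] : Fin 8 → Fˣ) a

/-- the character on `X_{2a+1}` -/
def chO {F : Type*} [Field F] (σ : F →+* F) (a : ZMod 8) (c d : Fˣ) : Fˣ := chE σ a c d * chE σ (a + 1) c d

section chars

variable {F : Type*} [Field F] (σ : F →+* F) (hσ : ∀ x, σ (σ x) = x ^ 2)

theorem chE_zero (c d : Fˣ) : chE σ 0 c d = c := rfl
theorem chE_one (c d : Fˣ) : chE σ 1 c d = d := rfl
theorem chE_two (c d : Fˣ) : chE σ 2 c d = Units.map (σ : F →* F) d / c := rfl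
theorem chE_three (c d : Fˣ) : chE σ 3 c d = d / Units.map (σ : F →* F) c := rfl
theorem chE_four (c d : Fˣ) : chE σ 4 c d = c⁻¹ := rfl
theorem chE_five (c d : Fˣ) : chE σ 5 c d = d⁻¹ := rfl
theorem chE_six (c d : Fˣ) : chE σ 6 c d = c / Units.map (σ : F →* F) d := rfl
theorem chE_seven (c d : Fˣ) : chE σ 7 c d = Units.map (σ : F →* F) c / d := rfl

include hσ in
theorem map_map (x : Fˣ) : Units.map (σ : F →* F) (Units.map (σ : F →* F) x) = x ^ 2 :=
  Units.ext (hσ x)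

include hσ in
/-- the recursion for the characters -/
theorem chE_rec (a : ZMod 8) (c d : Fˣ) : chE σ (a + 2) c d * chE σ a c d =
    Units.map (σ : F →* F) (chE σ (a + 1) c d) := by
  have hd : (Units.map (σ : F →* F)) ((Units.map (σ : F →* F)) d) = d ^ 2 := map_map σ hσ d
  have hc : (Units.map (σ : F →* F)) ((Units.map (σ : F →* F)) c) = c ^ 2 := map_map σ hσ c
  have key : ∀ n : ℕ, n < 8 → chE σ ((n : ZMod 8) + 2) c d * chE σ (n : ZMod 8) c d =
      Units.map (σ : F →* F) (chE σ ((n : ZMod 8) + 1) c d) := by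
    intro n hn
    interval_cases n
    · show chE σ 2 c d * chE σ 0 c d = Units.map (σ : F →* F) (chE σ 1 c d)
      rw [chE_two, chE_zero, chE_one, div_mul_cancel]
    · show chE σ 3 c d * chE σ 1 c d = Units.map (σ : F →* F) (chE σ 2 c d)
      rw [chE_three, chE_one, chE_two, map_div, hd, pow_two, div_mul_eq_mul_div]
    · show chE σ 4 c d * chE σ 2 c d = Units.map (σ : F →* F) (chE σ 3 c d)
      rw [chE_four, chE_two, chE_three, map_div, hc, pow_two, inv_mul_eq_div, div_div]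
    · show chE σ 5 c d * chE σ 3 c d = Units.map (σ : F →* F) (chE σ 4 c d)
      rw [chE_five, chE_three, chE_four, map_inv, inv_mul_eq_div, div_div, mul_comm, ← div_div, div_self', one_div]
    · show chE σ 6 c d * chE σ 4 c d = Units.map (σ : F →* F) (chE σ 5 c d)
      rw [chE_six, chE_four, chE_five, map_inv, div_mul_eq_mul_div, mul_inv_cancel, one_div]
    · show chE σ 7 c d * chE σ 5 c d = Units.map (σ : F →* F) (chE σ 6 c d)
      rw [chE_seven, chE_five, chE_six, map_div, hd, pow_two, ← div_eq_mul_inv, div_div]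
    · show chE σ 0 c d * chE σ 6 c d = Units.map (σ : F →* F) (chE σ 7 c d)
      rw [chE_zero, chE_six, chE_seven, map_div, hc, pow_two, mul_div_assoc']
    · show chE σ 1 c d * chE σ 7 c d = Units.map (σ : F →* F) (chE σ 0 c d)
      rw [chE_one, chE_seven, chE_zero, mul_div_cancel]
  have := key a.val (ZMod.val_lt a)
  rwa [ZMod.natCast_zmod_val] at this

/-- uniqueness: a family with the recursion is determined by its first two members -/
theorem eq_chE {κ : ZMod 8 → Fˣ} (hσ : ∀ x, σ (σ x) = x ^ 2)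
    (h : ∀ a, κ (a + 2) * κ a = Units.map (σ : F →* F) (κ (a + 1))) (a : ZMod 8) : κ a = chE σ a (κ 0) (κ 1) := by
  have key : ∀ n : ℕ, κ (n : ZMod 8) = chE σ (n : ZMod 8) (κ 0) (κ 1) ∧
      κ ((n : ZMod 8) + 1) = chE σ ((n : ZMod 8) + 1) (κ 0) (κ 1) := by
    intro n
    induction n with
    | zero => exact ⟨by rw [Nat.cast_zero, chE_zero], by rw [Nat.cast_zero, zero_add, chE_one]⟩
    | succ n ih =>
      obtain ⟨h1, h2⟩ := ih
      rw [Nat.cast_succ]
      refine ⟨h2, ?_⟩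
      have h3 := h (n : ZMod 8)
      have h4 := chE_rec σ hσ (n : ZMod 8) (κ 0) (κ 1)
      rw [h1, h2, ← h4] at h3
      rw [add_assoc, one_add_one_eq_two]
      exact mul_right_cancel h3
  have := (key a.val).1
  rwa [ZMod.natCast_zmod_val] at this

end chars

end Cfsg.Agent.KFacts.TwF4

namespace Cfsg.Agent.KFacts.TwF4.Inst

open Cfsg.Lie Cfsg.Agent.ChevalleyStructure.TwF4.Rel Cfsg.Agent.ChevalleyStructure.TwF4.Fix
open Cfsg.Agent.ChevalleyStructure.TwF4.Groups Cfsg.Agent.ChevalleyStructure.TwF4.RankOne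
open Cfsg.Agent.ChevalleyStructure.TwF4.Twisted Cfsg.Agent.ChevalleyStructure.TwF4.TwistedFix
open Cfsg.Agent.ChevalleyStructure.TwF4.BN
open Cfsg.Agent.ChevalleyStructure.F4NTab
open Cfsg.Agent.Octagon.Pkg Cfsg.Agent.Octagon.KRel Cfsg.Agent.Octagon.KSys Cfsg.Agent.Octagon.KPar
open Cfsg.Agent.ChevalleyStructure.TwF4.Torus Cfsg.Agent.ChevalleyStructure.TwF4.TwGen
open Cfsg.Agent.KFacts.TwF4 (Sys)

variable {K : Type*} [Field K] [CharP K 2] [Finite K] {φ : K →+* K} {e : ℕ}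

/-- `r'` is the partner of `r` -/
def barOk (r r' : ℕ) : Bool :=
  decide (ca 3 r' = ca 0 r) && decide (ca 2 r' = ca 1 r) && decide (ca 1 r' = 2 * ca 2 r) && decide (ca 0 r' = 2 * ca 3 r)

/-- `u` is the sum of `r` and `s` -/
def sumOk (r s u : ℕ) : Bool :=
  decide (ca 0 u = ca 0 r + ca 0 s) && decide (ca 1 u = ca 1 r + ca 1 s) && decide (ca 2 u = ca 2 r + ca 2 s) &&
    decide (ca 3 u = ca 3 r + ca 3 s)

theorem tabOk : ∀ a : ZMod 8, barOk (oA a) (oB a) = true ∧ barOk (eA a) (eB a) = true ∧ barOk (eC a) (eD a) = true ∧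
    sumOk (eA a) (eB a) (eC a) = true ∧ sumOk (eA a) (eA (a + 1)) (oA a) = true ∧
    sumOk (oA a) (eA (a + 2)) (eC (a + 1)) = true := by decide

theorem chi_sum {r s u : ℕ} (h : sumOk r s u = true) (c : Fin 4 → Kˣ) : chi c u = chi c r * chi c s := by
  unfold sumOk at h
  simp only [Bool.and_eq_true, decide_eq_true_eq] at h
  exact chi_add_of ⟨h.1.1.1, h.1.1.2, h.1.2, h.2⟩ c

theorem pow_e (hφ : Rln φ e) (x : Kˣ) : x ^ (2 * e * e) = x := by
  apply Units.ext
  have h := hφ.phi_pow (x : K)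
  rw [hφ.phi, ← pow_mul, ← pow_mul] at h
  rw [Units.val_pow_eq_pow_val]
  nth_rw 2 [← h]
  congr 1
  ring

theorem map_phi (hφ : Rln φ e) (x : Kˣ) : Units.map (φ : K →* K) x = (x ^ e) ^ 2 := Units.ext (by
  show φ (x : K) = _
  rw [hφ.phi]; push_cast; rfl)

theorem map_phi_pow (hφ : Rln φ e) (x : Kˣ) : Units.map (φ : K →* K) (x ^ e) = x := Units.ext (by
  show φ ((x ^ e : Kˣ) : K) = _
  rw [Units.val_pow_eq_pow_val, hφ.phi_pow])

theorem chi_bar (hφ : Rln φ e) {r r' : ℕ} (h : barOk r r' = true) (s t : Kˣ) :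
    chi (tc e s t) r' = Units.map (φ : K →* K) (chi (tc e s t) r) := by
  unfold barOk at h
  simp only [Bool.and_eq_true, decide_eq_true_eq] at h
  obtain ⟨⟨⟨h3, h2⟩, h1⟩, h0⟩ := h
  rw [chi_def, chi_def, h3, h2, h1, h0]
  show (t ^ e) ^ (2 * ca 3 r) * (s ^ e) ^ (2 * ca 2 r) * s ^ (ca 1 r) * t ^ (ca 0 r) =
    Units.map (φ : K →* K) ((t ^ e) ^ (ca 0 r) * (s ^ e) ^ (ca 1 r) * s ^ (ca 2 r) * t ^ (ca 3 r))
  rw [map_mul, map_mul, map_mul, map_zpow, map_zpow, map_zpow, map_zpow, map_phi_pow hφ, map_phi_pow hφ,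
    map_phi hφ, map_phi hφ, zpow_mul, zpow_mul, zpow_two, zpow_two, pow_two, pow_two]
  generalize (t ^ e * t ^ e) ^ ca 3 r = A
  generalize (s ^ e * s ^ e) ^ ca 2 r = B
  generalize s ^ ca 1 r = C
  generalize t ^ ca 0 r = D
  calc A * B * C * D = D * (A * B * C) := mul_comm _ _
    _ = D * (C * (A * B)) := by rw [mul_comm (A * B) C]
    _ = D * C * B * A := by rw [mul_comm A B]; simp only [mul_assoc]

/-- the torus element with coordinates `s, t` on the root elements -/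
theorem tc_go (hφ : Rln φ e) (s t : Kˣ) (a : ZMod 8) (x : K) :
    T (tc e s t) * go φ a x * (T (tc e s t))⁻¹ = go φ a ((chi (tc e s t) (oA a) : K) * x) := by
  obtain ⟨l1, l2, -⟩ := lt48 a
  unfold go xo
  have e1 : T (tc e s t) * (X (oA a) x * X (oB a) (φ x)) * (T (tc e s t))⁻¹ =
      (T (tc e s t) * X (oA a) x * (T (tc e s t))⁻¹) * (T (tc e s t) * X (oB a) (φ x) * (T (tc e s t))⁻¹) := by group
  rw [e1, T_conj_X _ l1, T_conj_X _ l2, chi_bar hφ (tabOk a).1, map_mul]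
  rfl

theorem tc_ge (hφ : Rln φ e) (s t : Kˣ) (a : ZMod 8) (p u : K) :
    T (tc e s t) * ge φ a p u * (T (tc e s t))⁻¹ = ge φ a ((chi (tc e s t) (eA a) : K) * p)
      ((chi (tc e s t) (eA a) : K) * φ (chi (tc e s t) (eA a) : K) * u) := by
  obtain ⟨-, -, l1, l2, l3, l4⟩ := lt48 a
  obtain ⟨-, hb, hd, hs, -⟩ := tabOk a
  unfold ge xe
  have hB : (chi (tc e s t) (eB a) : K) = φ (chi (tc e s t) (eA a) : K) := congrArg Units.val (chi_bar hφ hb s t)
  have hC : (chi (tc e s t) (eC a) : K) = (chi (tc e s t) (eA a) : K) * φ (chi (tc e s t) (eA a) : K) := by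
    rw [← hB]; exact congrArg Units.val (chi_sum hs (tc e s t))
  have hD : (chi (tc e s t) (eD a) : K) = φ (chi (tc e s t) (eC a) : K) := congrArg Units.val (chi_bar hφ hd s t)
  have e1 : ∀ g x y z w : GL chevF4.Idx K, g * (x * y * z * w) * g⁻¹ =
      (g * x * g⁻¹) * (g * y * g⁻¹) * (g * z * g⁻¹) * (g * w * g⁻¹) := by intro g x y z w; group
  rw [e1, T_conj_X _ l1, T_conj_X _ l2, T_conj_X _ l3, T_conj_X _ l4, hB, hD, hC, map_mul, map_mul, map_mul, map_mul]
  congr 3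
  ring

/-- the characters satisfy the recursion -/
theorem chi_rec (hφ : Rln φ e) (s t : Kˣ) (a : ZMod 8) : chi (tc e s t) (eA (a + 2)) * chi (tc e s t) (eA a) =
    Units.map (φ : K →* K) (chi (tc e s t) (eA (a + 1))) := by
  obtain ⟨-, -, -, -, h5, h6⟩ := tabOk a
  obtain ⟨-, hb, -, hs, -, -⟩ := tabOk (a + 1)
  have e1 := chi_sum h5 (tc e s t)
  have e2 := chi_sum h6 (tc e s t)
  have e3 := chi_sum hs (tc e s t)
  rw [e3, e1, chi_bar hφ hb] at e2
  have e4 : chi (tc e s t) (eA (a + 1)) * Units.map (φ : K →* K) (chi (tc e s t) (eA (a + 1))) =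
      chi (tc e s t) (eA (a + 1)) * (chi (tc e s t) (eA (a + 2)) * chi (tc e s t) (eA a)) := by
    rw [e2]; ac_rfl
  exact (mul_left_cancel e4).symm

theorem chi_eA (hφ : Rln φ e) (s t : Kˣ) (a : ZMod 8) : chi (tc e s t) (eA a) =
    chE φ a (chi (tc e s t) (eA 0)) (chi (tc e s t) (eA 1)) :=
  eq_chE φ (κ := fun a => chi (tc e s t) (eA a)) (sq_phi hφ) (chi_rec hφ s t) a

theorem chi_oA (hφ : Rln φ e) (s t : Kˣ) (a : ZMod 8) : chi (tc e s t) (oA a) =
    chO φ a (chi (tc e s t) (eA 0)) (chi (tc e s t) (eA 1)) := by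
  obtain ⟨-, -, -, -, h5, -⟩ := tabOk a
  rw [chi_sum h5, chi_eA hφ, chi_eA hφ s t (a + 1)]
  rfl

/-- all pairs of values occur -/
theorem exists_tc (hφ : Rln φ e) (c d : Kˣ) : ∃ s t : Kˣ, chi (tc e s t) (eA 0) = c ∧ chi (tc e s t) (eA 1) = d := by
  -- prescribed values at the roots 25 and 24
  obtain ⟨x, hxd⟩ : ∃ x : Kˣ, x = Units.map (φ : K →* K) c⁻¹ := ⟨_, rfl⟩
  obtain ⟨y, hyd⟩ : ∃ y : Kˣ, y = Units.map (φ : K →* K) (c * d) := ⟨_, rfl⟩
  have hpp : ∀ x : Kˣ, Units.map (φ : K →* K) (Units.map (φ : K →* K) x) = x ^ 2 :=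
    fun x => map_map φ (sq_phi hφ) x
  obtain ⟨z, hz⟩ : ∃ z : Kˣ, z = x * y ^ 2 * (Units.map (φ : K →* K) y)⁻¹ := ⟨_, rfl⟩
  obtain ⟨t, ht⟩ : ∃ t : Kˣ, t = z ^ 3 * (Units.map (φ : K →* K) z) ^ 2 := ⟨_, rfl⟩
  obtain ⟨s, hs⟩ : ∃ s : Kˣ, s = t ^ 2 * y⁻¹ := ⟨_, rfl⟩
  have hφt : Units.map (φ : K →* K) t = (Units.map (φ : K →* K) z) ^ 3 * z ^ 4 := by
    rw [ht, map_mul, map_pow, map_pow, hpp, ← pow_mul]
  have ht3 : t ^ 3 = z * (Units.map (φ : K →* K) t) ^ 2 := by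
    rw [hφt, ht, mul_pow, mul_pow, ← pow_mul, ← pow_mul, ← pow_mul, ← pow_mul]
    generalize Units.map (φ : K →* K) z = w
    have e1 : z ^ (3 * 3) = z * z ^ (4 * 2) := by rw [← pow_succ']
    rw [e1]
    show z * z ^ (4 * 2) * w ^ (2 * 3) = z * (w ^ (3 * 2) * z ^ (4 * 2))
    rw [mul_assoc, mul_comm (z ^ (4 * 2))]
  have h24 : chi (tc e s t) 24 = y := by
    rw [chi_tc_24, hs, mul_inv_rev, inv_inv, inv_mul_cancel_right]
  have h25 : chi (tc e s t) 25 = x := by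
    rw [chi_tc_25, ← map_phi hφ, hs, map_mul, map_inv, map_pow, mul_pow, mul_inv_rev, inv_inv]
    have e2 : x = z * (y⁻¹) ^ 2 * Units.map (φ : K →* K) y := by
      rw [hz]
      generalize Units.map (φ : K →* K) y = w
      apply Units.ext
      push_cast
      field_simp
    rw [e2]
    generalize Units.map (φ : K →* K) y = w
    have e3 : z = t ^ 3 * ((Units.map (φ : K →* K) t) ^ 2)⁻¹ := by rw [ht3, mul_inv_cancel_right]
    rw [e3]
    generalize Units.map (φ : K →* K) t = v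
    apply Units.ext
    push_cast
    field_simp
  have hinj : ∀ a b : Kˣ, Units.map (φ : K →* K) a = Units.map (φ : K →* K) b → a = b := by
    intro a b h
    have := congrArg Units.val h
    exact Units.ext (φ.injective this)
  have k4 : chi (tc e s t) (eA 4) = c⁻¹ := by
    apply hinj
    rw [← chi_bar hφ (tabOk 4).2.1, ← hxd]
    exact h25
  have k0 : chi (tc e s t) (eA 0) = c := by
    have := chi_eA hφ s t 4
    rw [k4, chE_four] at this
    exact (inv_injective this).symm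
  have o0 : chi (tc e s t) (oA 0) = c * d := by
    apply hinj
    rw [← chi_bar hφ (tabOk 0).1, ← hyd]
    exact h24
  refine ⟨s, t, k0, ?_⟩
  have h5 := (tabOk 0).2.2.2.2.1
  have := chi_sum h5 (tc e s t)
  rw [o0, k0] at this
  exact (mul_left_cancel this).symm

/-- **The torus of `²F₄(q)`.** -/
theorem exists_torus (hφ : Rln φ e) (c d : Kˣ) : ∃ h : ↥(twistedF4 K e),
    (h : GL chevF4.Idx K) ∈ chevF4.diagonalSubgroup K ∧
    (∀ a x, h * ro hφ a x * h⁻¹ = ro hφ a ((chO φ a c d : K) * x)) ∧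
    ∀ a p u, h * re hφ a p u * h⁻¹ = re hφ a ((chE φ a c d : K) * p) ((chE φ a c d : K) * φ (chE φ a c d : K) * u) := by
  obtain ⟨s, t, h0, h1⟩ := exists_tc hφ c d
  refine ⟨⟨T (tc e s t), T_tc_mem hφ.pos.ne' (pow_e hφ) s t⟩, ?_, ?_, ?_⟩
  · rw [diagonal_eq_range]; exact ⟨_, rfl⟩
  · intro a x
    apply Subtype.ext
    show T (tc e s t) * go φ a x * (T (tc e s t))⁻¹ = go φ a _
    rw [tc_go hφ, chi_oA hφ, h0, h1]
  · intro a p u
    apply Subtype.ext
    show T (tc e s t) * ge φ a p u * (T (tc e s t))⁻¹ = ge φ a _ _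
    rw [tc_ge hφ, chi_eA hφ, h0, h1]

end Cfsg.Agent.KFacts.TwF4.Inst
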